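import Groth.Agent.FunFld1.Constants

/-!
Riemann's inequality, Weil differentials, the Riemann-Roch theorem, strong approximation.
-/

set_option linter.style.haveILetI false

namespace Groth.FunFld1

open WithZero FunFld

namespace QFin

variable {k V W : Type*} [Field k] [AddCommGroup V] [Module k V] [AddCommGroup W] [Module k W]

theorem split {A M B : Submodule k V} {n : ℕ} (h : QFin A B n) (h₁ : A ≤ M) (h₂ : M ≤ B) :
    ∃ p q, p + q = n ∧ QFin A M p ∧ QFin M B q := by
  obtain ⟨hAB, hf, he⟩ := h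
  let i : (↥M ⧸ Submodule.comap M.subtype A) →ₗ[k] (↥B ⧸ Submodule.comap B.subtype A) :=
    Submodule.mapQ _ _ (Submodule.inclusion h₂) (by intro x hx; exact hx)
  have hi : Function.Injective i := by
    rw [← LinearMap.ker_eq_bot, Submodule.eq_bot_iff]
    intro x
    induction x using Submodule.Quotient.induction_on with
    | H x =>
      intro hx
      replace hx := (Submodule.Quotient.mk_eq_zero _).mp (LinearMap.mem_ker.mp hx)
      rw [Submodule.Quotient.mk_eq_zero]
      exact hx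
  have hle : Submodule.comap B.subtype A ≤ Submodule.comap B.subtype M := Submodule.comap_mono h₁
  have hs : Function.Surjective (Submodule.factor hle) := Submodule.factor_surjective hle
  have hM : QFin A M _ := ⟨h₁, FiniteDimensional.of_injective i hi, rfl⟩
  have hB : QFin M B _ := ⟨h₂, Module.Finite.of_surjective _ hs, rfl⟩
  exact ⟨_, _, (hM.trans hB).unique ⟨hAB, hf, he⟩, hM, hB⟩

theorem sup_left {A C : Submodule k V} {m : ℕ} (h : QFin (A ⊓ C) C m) : QFin A (A ⊔ C) m := by
  obtain ⟨-, hf, he⟩ := h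
  have hc : Submodule.comap C.subtype (A ⊓ C) =
      Submodule.comap C.subtype C ⊓ Submodule.comap C.subtype A := by
    rw [Submodule.comap_inf, inf_comm]
  rw [hc] at he hf
  let e := LinearMap.quotientInfEquivSupQuotient C A
  haveI := e.finiteDimensional
  have hq : QFin A (C ⊔ A) _ := ⟨le_sup_right, inferInstance, rfl⟩
  rw [← e.finrank_eq, he, sup_comm] at hq
  exact hq

theorem map {A B : Submodule k V} {n : ℕ} (h : QFin A B n) (f : V →ₗ[k] W)
    (hf : Function.Injective f) : QFin (A.map f) (B.map f) n := by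
  obtain ⟨hAB, hfin, he⟩ := h
  let e := Submodule.equivMapOfInjective f hf B
  let q : (↥B ⧸ Submodule.comap B.subtype A) ≃ₗ[k]
      (↥(B.map f) ⧸ Submodule.comap (B.map f).subtype (A.map f)) :=
    Submodule.Quotient.equiv _ _ e (by
      ext x
      simp only [Submodule.mem_map, Submodule.mem_comap, Submodule.subtype_apply]
      constructor
      · rintro ⟨y, hy, rfl⟩
        exact ⟨y, hy, (Submodule.coe_equivMapOfInjective_apply f hf B y).symm⟩
      · rintro ⟨y, hy, hyx⟩
        exact ⟨⟨y, hAB hy⟩, hy, Subtype.ext ((Submodule.coe_equivMapOfInjective_apply f hf B _).trans hyx)⟩)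
  exact ⟨Submodule.map_mono hAB, q.finiteDimensional, q.finrank_eq.symm.trans he⟩

end QFin

variable {k K : Type*} [Field k] [Field K] [Algebra k K]

/-- `δ(D) = deg D + 1 - ℓ(D)`. -/
noncomputable def delta (D : Divisor k K) : ℤ := D.deg + 1 - (ell D : ℤ)

theorem diag_apply (x : K) (P : Place k K) : diag k K x P = x := rfl

namespace IsFF

theorem delta_mono (hF : IsFF k K) {D E : Divisor k K} (h : D ≤ E) : delta D ≤ delta E := by
  have := hF.ell_sub_le h
  unfold delta
  linarith

theorem delta_add_div (hF : IsFF k K) (D : Divisor k K) {x : K} (hx : x ≠ 0) :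
    delta (D + div k x) = delta D := by
  simp [delta, deg_add, hF.deg_div, hF.ell_add_div D hx]

theorem exists_delta_le (hF : IsFF k K) : ∃ b : ℤ, ∀ D : Divisor k K, delta D ≤ b := by
  have ⟨x, hx, _⟩ := hF
  haveI := hF.finiteDimensional hx
  set n := Module.finrank (IntermediateField.adjoin k ({x} : Set K)) K
  have hn : 0 < n := Module.finrank_pos
  obtain ⟨C, hC, hm⟩ := hF.exists_mul_le_ell hx
  set A := zeroDiv k x⁻¹ with hA
  have hlow : ∀ m : ℕ, ((m : ℤ) + 1) * n - C.deg ≤ ell (m • A) := fun m => by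
    have h1 : m • A ≤ m • A + C := le_add_of_nonneg_right hC
    have h2 := hF.ell_sub_le h1
    rw [deg_add] at h2
    have h3 : (((m + 1) * n : ℕ) : ℤ) ≤ ell (m • A + C) := by exact_mod_cast hm m
    push_cast at h3
    linarith
  refine ⟨C.deg + 1 - n, fun D => ?_⟩
  refine (hF.delta_mono (le_sup_left : D ≤ D ⊔ 0)).trans ?_
  set E := D ⊔ 0
  have hE : 0 ≤ E := le_sup_right
  set m := (C.deg + E.deg).toNat
  have hpos : L (m • A - E) ≠ ⊥ := by
    intro h
    have h0 : ell (m • A - E) = 0 := by unfold ell; rw [h]; exact finrank_bot k K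
    have h2 := hF.ell_sub_le (show m • A - E ≤ m • A from sub_le_self _ hE)
    rw [deg_sub, h0] at h2
    have h3 := hlow m
    have h4 := Int.self_le_toNat (C.deg + E.deg)
    have h5 : (m : ℤ) + 1 ≤ ((m : ℤ) + 1) * n := le_mul_of_one_le_right (by positivity) (by exact_mod_cast hn)
    simp only [m] at *
    push_cast at *
    linarith
  obtain ⟨z, hz, hzD⟩ := hF.exists_effective_of_ne_bot hpos
  have hle : E + div k z⁻¹ ≤ m • A := by
    rw [hF.div_inv, ← sub_nonneg]
    convert hzD using 1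
    abel
  rw [← hF.delta_add_div E (inv_ne_zero hz)]
  refine (hF.delta_mono hle).trans ?_
  have := hlow m
  unfold delta
  rw [deg_nsmul, hF.deg_poleDiv_eq hx]
  linarith

theorem bddAbove_delta (hF : IsFF k K) :
    BddAbove (Set.range fun D : Divisor k K => (D.deg + 1 - (ell D : ℤ)).toNat) := by
  obtain ⟨b, hb⟩ := hF.exists_delta_le
  exact ⟨b.toNat, by rintro _ ⟨D, rfl⟩; exact Int.toNat_le_toNat (hb D)⟩

theorem delta_le_genus (hF : IsFF k K) (D : Divisor k K) : delta D ≤ genus k K :=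
  (Int.self_le_toNat _).trans (Int.ofNat_le.mpr (le_csSup hF.bddAbove_delta ⟨D, rfl⟩))

theorem smul_mem_adele (hF : IsFF k K) (x : K) {a : Place k K → K} (ha : a ∈ adele k K) :
    x • a ∈ adele k K := by
  have hx : ∀ᶠ P : Place k K in Filter.cofinite, P.1 x ≤ 1 := by
    refine Filter.eventually_cofinite.mpr ((hF.finite_support_ord x).subset fun P hP => ?_)
    intro h0
    exact hP ((val_le_one_iff P x).mpr h0.ge)
  show ∀ᶠ P : Place k K in Filter.cofinite, P.1 ((x • a) P) ≤ 1
  exact (hx.and ha).mono fun P h => by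
    rw [Pi.smul_apply, smul_eq_mul, map_mul]; exact mul_le_one' h.1 h.2

theorem diag_mem_adele (hF : IsFF k K) (x : K) : diag k K x ∈ adele k K := by
  have h1 : ∀ᶠ P : Place k K in Filter.cofinite, P.1 (1 : K) ≤ 1 :=
    Filter.Eventually.of_forall fun P => (map_one P.1).le
  have := hF.smul_mem_adele x (a := fun _ => 1) h1
  convert this using 1
  funext P
  simp [diag_apply]

theorem range_diag_le (hF : IsFF k K) : LinearMap.range (diag k K) ≤ adele k K := by
  rintro _ ⟨x, rfl⟩
  exact hF.diag_mem_adele x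

theorem diag_injective (hF : IsFF k K) : Function.Injective (diag k K) := by
  obtain ⟨P⟩ := hF.nonempty_place
  exact fun x y h => congrFun h P

/-- `(A(E)+K)/(A(D)+K)` has dimension `δ(E) - δ(D)`. -/
theorem qfin_AD_sup_range (hF : IsFF k K) {D E : Divisor k K} (h : D ≤ E) :
    QFin (AD D ⊔ LinearMap.range (diag k K)) (AD E ⊔ LinearMap.range (diag k K))
      (delta E - delta D).toNat := by
  set R := LinearMap.range (diag k K)
  have hall := hF.qfin_AD h
  obtain ⟨m, -, hm⟩ := hall.comap_le (diag k K)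
  have hm2 := hm.map _ hF.diag_injective
  rw [Submodule.map_comap_eq, Submodule.map_comap_eq] at hm2
  haveI : FiniteDimensional k ((AD D).comap (diag k K)) := hF.finiteDimensional_L D
  have hell : ell E = ell D + m := hm.finite_and_finrank.2
  set M := AD D ⊔ (R ⊓ AD E) with hM
  have hM1 : QFin (AD D) M m := by
    refine QFin.sup_left ?_
    have : AD D ⊓ (R ⊓ AD E) = R ⊓ AD D := by
      rw [inf_left_comm, inf_eq_left.mpr (AD_mono h)]
    rw [this]
    exact hm2
  obtain ⟨p, q, hpq, hp, hq⟩ := hall.split le_sup_left (sup_le (AD_mono h) inf_le_right)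
  have hpm : p = m := hp.unique hM1
  have hMeq : M = (AD D ⊔ R) ⊓ AD E := by
    rw [hM, sup_inf_assoc_of_le R (AD_mono h)]
  have hq2 : QFin (AD D ⊔ R) (AD D ⊔ R ⊔ AD E) q := QFin.sup_left (hMeq ▸ hq)
  have e1 : AD D ⊔ R ⊔ AD E = AD E ⊔ R :=
    le_antisymm (sup_le (sup_le_sup_right (AD_mono h) R) le_sup_left)
      (sup_le le_sup_right (le_sup_right.trans le_sup_left))
  rw [e1] at hq2
  convert hq2 using 1
  unfold delta
  have := deg_mono h
  omega

end IsFF

theorem AD_le_adele (D : Divisor k K) : AD D ≤ adele k K := by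
  classical
  intro a ha
  show ∀ᶠ P : Place k K in Filter.cofinite, P.1 (a P) ≤ 1
  refine Filter.eventually_cofinite.mpr (D.support.finite_toSet.subset fun P hP => ?_)
  rw [Finset.mem_coe, Finsupp.mem_support_iff]
  intro h0
  exact hP ((ha P).trans_eq (by rw [h0, exp_zero]))

theorem exists_mem_AD {a : Place k K → K} (ha : a ∈ adele k K) : ∃ D : Divisor k K, a ∈ AD D := by
  classical
  have hfin : (Function.support fun P : Place k K => max (-P.ord (a P)) 0).Finite := by
    refine (Filter.eventually_cofinite.mp ha).subset fun P hP => ?_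
    intro h
    exact hP (max_eq_right (by have := (val_le_one_iff P _).mp h; omega))
  refine ⟨Finsupp.ofSupportFinite _ hfin, fun P => ?_⟩
  rw [Finsupp.ofSupportFinite_coe]
  by_cases h0 : a P = 0
  · simp [h0]
  · rw [val_le_exp_iff P h0]; exact le_max_left _ _

theorem mem_WD_iff {D : Divisor k K} {ω : Module.Dual k (adele k K)} :
    ω ∈ WD D ↔ ∀ a : adele k K, a ∈ ADK D → ω a = 0 := Submodule.mem_dualAnnihilator ω

theorem ADK_mono {D E : Divisor k K} (h : D ≤ E) : ADK D ≤ ADK E :=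
  Submodule.comap_mono (sup_le_sup_right (AD_mono h) _)

theorem WD_anti {D E : Divisor k K} (h : D ≤ E) : WD E ≤ WD D :=
  Submodule.dualAnnihilator_anti (ADK_mono h)

theorem mem_WD_sup {D E : Divisor k K} {ω : Module.Dual k (adele k K)} (hD : ω ∈ WD D)
    (hE : ω ∈ WD E) : ω ∈ WD (D ⊔ E) := by
  rw [mem_WD_iff] at hD hE ⊢
  intro a ha
  rw [ADK, Submodule.mem_comap, AD_sup_eq, sup_assoc] at ha
  obtain ⟨u, hu, v, hv, huv⟩ := Submodule.mem_sup.mp ha
  have hua : u ∈ adele k K := AD_le_adele D hu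
  have hva : v ∈ adele k K := by
    have : v = (a : Place k K → K) - u := by
      rw [eq_sub_iff_add_eq, add_comm]; exact huv
    rw [this]
    exact sub_mem a.2 hua
  have : a = ⟨u, hua⟩ + ⟨v, hva⟩ := Subtype.ext huv.symm
  rw [this, map_add, hD ⟨u, hua⟩ (Submodule.mem_sup_left hu), hE ⟨v, hva⟩ hv, add_zero]

section FunctionField

variable (hK : IsFunctionField k K)
include hK

local notation "hF" => IsFF.of_isFunctionField hK

theorem delta_zero : delta (0 : Divisor k K) = 0 := by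
  simp [delta, deg_zero, ell_zero_eq hK]

theorem exists_delta_eq_genus : ∃ D : Divisor k K, delta D = genus k K := by
  obtain ⟨D, hD⟩ := Nat.sSup_mem (Set.range_nonempty _) (hF).bddAbove_delta
  change (delta D).toNat = genus k K at hD
  by_cases h : 0 ≤ delta D
  · exact ⟨D, by omega⟩
  · exact ⟨0, by rw [delta_zero hK]; omega⟩

theorem riemann_theorem :
    ∃ N : ℤ, ∀ D : Divisor k K, N ≤ D.deg → delta D = genus k K := by
  obtain ⟨D₀, hD₀⟩ := exists_delta_eq_genus hK
  refine ⟨D₀.deg + genus k K, fun D hD => le_antisymm ((hF).delta_le_genus D) ?_⟩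
  have h1 := (hF).delta_le_genus (D - D₀)
  rw [delta, deg_sub] at h1
  have hne : L (D - D₀) ≠ ⊥ := by
    intro h
    have h0 : ell (D - D₀) = 0 := by unfold ell; rw [h]; exact finrank_bot k K
    omega
  obtain ⟨z, hz, hzD⟩ := (hF).exists_effective_of_ne_bot hne
  have hle : D₀ ≤ D + div k z := by
    rw [← sub_nonneg]
    convert hzD using 1
    abel
  rw [← (hF).delta_add_div D hz, ← hD₀]
  exact (hF).delta_mono hle

theorem exists_le_delta_eq (D : Divisor k K) :
    ∃ E, D ≤ E ∧ delta E = genus k K ∧ ∀ E', E ≤ E' → delta E' = genus k K := by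
  obtain ⟨D₀, hD₀⟩ := exists_delta_eq_genus hK
  have key : ∀ E', D₀ ≤ E' → delta E' = genus k K := fun E' h =>
    le_antisymm ((hF).delta_le_genus E') (hD₀.symm.trans_le ((hF).delta_mono h))
  exact ⟨D ⊔ D₀, le_sup_left, key _ le_sup_right, fun E' h => key E' (le_sup_right.trans h)⟩

/-- `A/(A(D)+K)` has dimension `g - δ(D)`. -/
theorem qfin_adele (D : Divisor k K) :
    QFin (AD D ⊔ LinearMap.range (diag k K)) (adele k K) ((genus k K : ℤ) - delta D).toNat := by
  obtain ⟨E, hDE, hE, hEup⟩ := exists_le_delta_eq hK D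
  have heq : AD E ⊔ LinearMap.range (diag k K) = adele k K := by
    refine le_antisymm (sup_le (AD_le_adele E) (hF).range_diag_le) fun a ha => ?_
    obtain ⟨Da, hDa⟩ := exists_mem_AD ha
    have h := (hF).qfin_AD_sup_range (le_sup_left : E ≤ E ⊔ Da)
    rw [hE, hEup _ le_sup_left, sub_self] at h
    rw [QFin.eq_of_zero h]
    exact Submodule.mem_sup_left (AD_mono le_sup_right hDa)
  have h := (hF).qfin_AD_sup_range hDE
  rwa [heq, hE] at h

theorem adele_quotient (D : Divisor k K) :
    FiniteDimensional k (↥(adele k K) ⧸ ADK D) ∧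
      (Module.finrank k (↥(adele k K) ⧸ ADK D) : ℤ) = genus k K - delta D := by
  obtain ⟨-, h2, h3⟩ := qfin_adele hK D
  refine ⟨h2, ?_⟩
  have := (hF).delta_le_genus D
  exact (congrArg Int.ofNat h3).trans (Int.toNat_of_nonneg (by omega))

theorem WD_finrank (D : Divisor k K) :
    FiniteDimensional k (WD D) ∧ (Module.finrank k (WD D) : ℤ) = genus k K - delta D := by
  obtain ⟨h1, h2⟩ := adele_quotient hK D
  let e := Submodule.dualQuotEquivDualAnnihilator (ADK D)
  refine ⟨e.finiteDimensional, ?_⟩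
  rw [← h2, WD, ← e.finrank_eq, Subspace.dual_finrank_eq]

theorem WD_eq_bot {D : Divisor k K} (h : delta D = genus k K) : WD D = ⊥ := by
  obtain ⟨h1, h2⟩ := WD_finrank hK D
  rw [h, sub_self] at h2
  exact Submodule.finrank_eq_zero.mp (by exact_mod_cast h2)

theorem exists_isDivOf {ω : Module.Dual k (adele k K)} (hω : IsWeil ω) (h0 : ω ≠ 0) :
    ∃ C, IsDivOf ω C := by
  obtain ⟨N, hN⟩ := riemann_theorem hK
  have hb : ∀ E, ω ∈ WD E → E.deg < N := by
    intro E hE
    by_contra h
    rw [WD_eq_bot hK (hN E (not_lt.mp h))] at hE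
    exact h0 ((Submodule.mem_bot k).mp hE)
  obtain ⟨d, ⟨C, hC, rfl⟩, hmax⟩ := Int.exists_greatest_of_bdd
    (P := fun d => ∃ E, ω ∈ WD E ∧ E.deg = d) ⟨N, fun d ⟨E, hE, hd⟩ => hd ▸ (hb E hE).le⟩
    (by obtain ⟨E, hE⟩ := hω; exact ⟨_, E, hE, rfl⟩)
  refine ⟨C, fun E => ⟨fun hE => ?_, fun h => WD_anti h hC⟩⟩
  have h1 := hmax _ ⟨C ⊔ E, mem_WD_sup hC hE, rfl⟩
  have h2 := deg_mono (le_sup_left : C ≤ C ⊔ E)
  rw [eq_of_le_of_deg_eq (hF) le_sup_left (le_antisymm h2 h1)]
  exact le_sup_right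

end FunctionField

/-! ### Multiplication of Weil differentials by functions -/

theorem mulW_apply (x : K) (hx : ∀ a ∈ adele k K, x • a ∈ adele k K)
    (ω : Module.Dual k (adele k K)) (a : adele k K) :
    mulW x hx ω a = ω ⟨x • (a : Place k K → K), hx _ a.2⟩ := rfl

theorem mulW_mulW (x y : K) (hx : ∀ a ∈ adele k K, x • a ∈ adele k K)
    (hy : ∀ a ∈ adele k K, y • a ∈ adele k K) (hxy : ∀ a ∈ adele k K, (x * y) • a ∈ adele k K)
    (ω : Module.Dual k (adele k K)) : mulW y hy (mulW x hx ω) = mulW (x * y) hxy ω := by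
  ext a
  rw [mulW_apply, mulW_apply, mulW_apply]
  congr 1
  exact Subtype.ext (mul_smul x y (a : Place k K → K)).symm

theorem mulW_one (h : ∀ a ∈ adele k K, (1 : K) • a ∈ adele k K) (ω : Module.Dual k (adele k K)) :
    mulW 1 h ω = ω := by
  ext a
  rw [mulW_apply]
  congr 1
  exact Subtype.ext (one_smul K (a : Place k K → K))

theorem mulW_zero_right (x : K) (hx : ∀ a ∈ adele k K, x • a ∈ adele k K) :
    mulW x hx (0 : Module.Dual k (adele k K)) = 0 := by
  ext a; rfl

theorem mulW_mem_WD {C D : Divisor k K} {x : K} (hxD : x ∈ L D)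
    (hx : ∀ a ∈ adele k K, x • a ∈ adele k K) {ω : Module.Dual k (adele k K)} (hω : ω ∈ WD C) :
    mulW x hx ω ∈ WD (C - D) := by
  rw [mem_WD_iff] at hω ⊢
  intro a ha
  rw [ADK, Submodule.mem_comap] at ha
  obtain ⟨u, hu, v, hv, huv⟩ := Submodule.mem_sup.mp ha
  rw [mulW_apply]
  apply hω
  rw [ADK, Submodule.mem_comap]
  refine Submodule.mem_sup.mpr ⟨x • u, ?_, x • v, ?_, ?_⟩
  · intro P
    rw [Pi.smul_apply, smul_eq_mul, map_mul]
    refine (mul_le_mul' (hxD P) (hu P)).trans_eq ?_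
    rw [← exp_add, Finsupp.sub_apply]
    congr 1
    ring
  · obtain ⟨z, rfl⟩ := hv
    exact ⟨x * z, rfl⟩
  · rw [← smul_add, huv]
    rfl

namespace IsFF

/-- `x ↦ xω` as a linear map. -/
def mulWL (h : IsFF k K) (ω : Module.Dual k (adele k K)) : K →ₗ[k] Module.Dual k (adele k K) where
  toFun x := mulW x (fun _ => h.smul_mem_adele x) ω
  map_add' x y := by
    ext a
    simp only [LinearMap.add_apply, mulW_apply, ← map_add]
    congr 1
    exact Subtype.ext (add_smul x y (a : Place k K → K))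
  map_smul' c x := by
    ext a
    simp only [RingHom.id_apply, LinearMap.smul_apply, mulW_apply, ← map_smul]
    congr 1
    exact Subtype.ext (smul_assoc c x (a : Place k K → K))

theorem mulWL_apply (h : IsFF k K) (ω : Module.Dual k (adele k K)) (x : K) :
    h.mulWL ω x = mulW x (fun _ => h.smul_mem_adele x) ω := rfl

theorem mulWL_injective (h : IsFF k K) {ω : Module.Dual k (adele k K)} (h0 : ω ≠ 0) :
    Function.Injective (h.mulWL ω) := by
  rw [← LinearMap.ker_eq_bot, Submodule.eq_bot_iff]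
  intro x hx
  by_contra hx0
  apply h0
  have := congrArg (mulW x⁻¹ fun _ => h.smul_mem_adele x⁻¹) (LinearMap.mem_ker.mp hx)
  rw [mulW_zero_right] at this
  rw [mulWL_apply] at this
  rw [mulW_mulW (hxy := fun _ => h.smul_mem_adele _)] at this
  simp only [mul_inv_cancel₀ hx0] at this
  rwa [mulW_one] at this

theorem mem_L_neg_div (h : IsFF k K) (x : K) : x ∈ L (-div k x) := fun P => by
  by_cases hx : x = 0
  · simp [hx]
  · rw [val_le_exp_iff P hx, Finsupp.neg_apply, h.div_apply]

theorem isDivOf_mulW (h : IsFF k K) {x : K} (h0 : x ≠ 0)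
    (hx : ∀ a ∈ adele k K, x • a ∈ adele k K) {ω : Module.Dual k (adele k K)} {C : Divisor k K}
    (hω : IsDivOf ω C) : IsDivOf (mulW x hx ω) (C + div k x) := by
  intro E
  constructor
  · intro hE
    have h1 := mulW_mem_WD (h.mem_L_neg_div x⁻¹) (fun _ => h.smul_mem_adele x⁻¹) hE
    rw [mulW_mulW (hxy := fun _ => h.smul_mem_adele _)] at h1
    simp only [mul_inv_cancel₀ h0] at h1
    rw [mulW_one, hω, h.div_inv, neg_neg] at h1
    exact sub_le_iff_le_add.mp h1
  · intro hE
    have h1 := mulW_mem_WD (h.mem_L_neg_div x) hx ((hω C).mpr le_rfl)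
    rw [sub_neg_eq_add] at h1
    exact WD_anti hE h1

theorem ne_zero_of_isDivOf (h : IsFF k K) {ω : Module.Dual k (adele k K)} {C : Divisor k K}
    (hω : IsDivOf ω C) : ω ≠ 0 := by
  rintro rfl
  obtain ⟨P⟩ := h.nonempty_place
  have := ((hω (C + Finsupp.single P 1)).mp (Submodule.zero_mem _)) P
  simp at this

theorem mem_L_sub_iff (h : IsFF k K) {C D : Divisor k K} {x : K} (hx : x ≠ 0) :
    x ∈ L (C - D) ↔ D ≤ C + div k x := by
  rw [h.mem_L_iff hx, ← sub_nonneg (a := C + div k x), sub_add_eq_add_sub]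

end IsFF

section FunctionField2

variable (hK : IsFunctionField k K)
include hK

local notation "hF" => IsFF.of_isFunctionField hK

theorem exists_mulW_eq {ω₁ ω₂ : Module.Dual k (adele k K)} (h₁ : IsWeil ω₁) (h0 : ω₁ ≠ 0)
    (h₂ : IsWeil ω₂) : ∃ x : K, mulW x (fun _ => (hF).smul_mem_adele x) ω₁ = ω₂ := by
  by_cases h20 : ω₂ = 0
  · exact ⟨0, by rw [h20]; exact map_zero ((hF).mulWL ω₁)⟩
  obtain ⟨D₁, hD₁⟩ := h₁
  obtain ⟨D₂, hD₂⟩ := h₂
  obtain ⟨P⟩ := (hF).nonempty_place
  have hP : (1 : ℤ) ≤ P.deg := by exact_mod_cast (hF).deg_pos P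
  set g : ℤ := (genus k K : ℤ) with hg
  set m : ℕ := (3 * g - D₁.deg - D₂.deg).toNat + 1
  set B : Divisor k K := Finsupp.single P (m : ℤ)
  have hBdeg : (m : ℤ) ≤ B.deg := by rw [deg_single]; exact le_mul_of_one_le_right (by omega) hP
  obtain ⟨hfin, hW⟩ := WD_finrank hK (-B)
  have hneg : ell (-B) = 0 := (hF).ell_eq_zero_of_deg_neg (by rw [deg_neg]; omega)
  rw [delta, hneg, deg_neg] at hW
  haveI := hfin
  let V := fun (D : Divisor k K) (ω : Module.Dual k (adele k K)) =>
    (L (D + B)).map ((hF).mulWL ω)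
  have hle : ∀ D ω, ω ∈ WD D → V D ω ≤ WD (-B) := by
    rintro D ω hω _ ⟨x, hx, rfl⟩
    have := mulW_mem_WD hx (fun _ => (hF).smul_mem_adele x) hω
    rwa [sub_add_cancel_left] at this
  have hdim : ∀ D ω, ω ≠ 0 → D.deg + B.deg + 1 - g ≤ Module.finrank k (V D ω) := by
    intro D ω hω
    have h1 := (hF).delta_le_genus (D + B)
    rw [delta, deg_add, ← hg] at h1
    have h2 : Module.finrank k (V D ω) = ell (D + B) :=
      (Submodule.equivMapOfInjective _ ((hF).mulWL_injective hω) _).finrank_eq.symm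
    omega
  haveI : FiniteDimensional k (V D₁ ω₁) := Submodule.finiteDimensional_of_le (hle _ _ hD₁)
  haveI : FiniteDimensional k (V D₂ ω₂) := Submodule.finiteDimensional_of_le (hle _ _ hD₂)
  have hsum := Submodule.finrank_sup_add_finrank_inf_eq (V D₁ ω₁) (V D₂ ω₂)
  have hsup := Submodule.finrank_mono (sup_le (hle _ _ hD₁) (hle _ _ hD₂))
  have hne : V D₁ ω₁ ⊓ V D₂ ω₂ ≠ ⊥ := by
    intro h
    rw [h, finrank_bot] at hsum
    have := hdim D₁ ω₁ h0
    have := hdim D₂ ω₂ h20
    omega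
  obtain ⟨η, ⟨⟨x, -, hxη⟩, ⟨y, -, hyη⟩⟩, hη⟩ := Submodule.exists_mem_ne_zero_of_ne_bot hne
  have hy : y ≠ 0 := by rintro rfl; rw [map_zero] at hyη; exact hη hyη.symm
  refine ⟨x * y⁻¹, ?_⟩
  have := congrArg (mulW y⁻¹ fun _ => (hF).smul_mem_adele y⁻¹) (hxη.trans hyη.symm)
  rw [IsFF.mulWL_apply, IsFF.mulWL_apply] at this
  rw [mulW_mulW (hxy := fun _ => (hF).smul_mem_adele _),
    mulW_mulW (hxy := fun _ => (hF).smul_mem_adele _)] at this
  simp only [mul_inv_cancel₀ hy] at this
  rwa [mulW_one] at this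

theorem exists_isCanonical : ∃ C : Divisor k K, IsCanonical k K C := by
  obtain ⟨P⟩ := (hF).nonempty_place
  set B : Divisor k K := Finsupp.single P 2
  have hB : (2 : ℤ) ≤ B.deg := by
    rw [deg_single]; have := (hF).deg_pos P; omega
  obtain ⟨hfin, hW⟩ := WD_finrank hK (-B)
  rw [delta, (hF).ell_eq_zero_of_deg_neg (by rw [deg_neg]; omega), deg_neg] at hW
  have hne : WD (-B) ≠ ⊥ := by
    intro h
    rw [h, finrank_bot] at hW
    omega
  obtain ⟨ω, hω, h0⟩ := Submodule.exists_mem_ne_zero_of_ne_bot hne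
  obtain ⟨C, hC⟩ := exists_isDivOf hK ⟨_, hω⟩ h0
  exact ⟨C, ω, h0, hC⟩

theorem existsUnique_mulW {ω : Module.Dual k (adele k K)} {C : Divisor k K} (hω : IsDivOf ω C)
    {D : Divisor k K} {ω' : Module.Dual k (adele k K)} (hω' : ω' ∈ WD D) :
    ∃! x : K, x ∈ L (C - D) ∧ (hF).mulWL ω x = ω' := by
  have h0 := (hF).ne_zero_of_isDivOf hω
  obtain ⟨x, hx⟩ := exists_mulW_eq hK ⟨C, (hω C).mpr le_rfl⟩ h0 ⟨D, hω'⟩
  refine ⟨x, ⟨?_, hx⟩, fun y hy => (hF).mulWL_injective h0 (hy.2.trans hx.symm)⟩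
  by_cases hx0 : x = 0
  · subst hx0; exact zero_mem _
  · rw [(hF).mem_L_sub_iff hx0]
    exact ((hF).isDivOf_mulW hx0 _ hω D).mp (hx.symm ▸ hω')

theorem riemann_roch {C : Divisor k K} (hC : IsCanonical k K C) (D : Divisor k K) :
    (ell D : ℤ) = D.deg + 1 - genus k K + ell (C - D) := by
  obtain ⟨ω, h0, hω⟩ := hC
  have hmap : (L (C - D)).map ((hF).mulWL ω) = WD D := by
    apply le_antisymm
    · rintro _ ⟨x, hx, rfl⟩
      have := mulW_mem_WD hx (fun _ => (hF).smul_mem_adele x) ((hω C).mpr le_rfl)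
      rwa [sub_sub_cancel] at this
    · intro ω' hω'
      obtain ⟨x, hx, -⟩ := existsUnique_mulW hK hω hω'
      exact ⟨x, hx.1, hx.2⟩
  obtain ⟨-, hW⟩ := WD_finrank hK D
  rw [← hmap, ← (Submodule.equivMapOfInjective _ ((hF).mulWL_injective h0) _).finrank_eq] at hW
  change (ell (C - D) : ℤ) = _ at hW
  unfold delta at hW
  omega

theorem ell_canonical {C : Divisor k K} (hC : IsCanonical k K C) : ell C = genus k K := by
  have := riemann_roch hK hC 0
  rw [sub_zero, deg_zero, ell_zero_eq hK] at this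
  omega

theorem deg_canonical {C : Divisor k K} (hC : IsCanonical k K C) :
    C.deg = 2 * (genus k K : ℤ) - 2 := by
  have := riemann_roch hK hC C
  rw [sub_self, ell_zero_eq hK, ell_canonical hK hC] at this
  omega

theorem ell_eq_of_deg_ge {D : Divisor k K} (h : 2 * (genus k K : ℤ) - 1 ≤ D.deg) :
    (ell D : ℤ) = D.deg + 1 - genus k K := by
  obtain ⟨C, hC⟩ := exists_isCanonical hK
  have := riemann_roch hK hC D
  rw [(hF).ell_eq_zero_of_deg_neg (D := C - D) (by rw [deg_sub, deg_canonical hK hC]; omega)] at this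
  omega

theorem delta_eq_of_deg_ge {D : Divisor k K} (h : 2 * (genus k K : ℤ) - 1 ≤ D.deg) :
    delta D = genus k K := by
  unfold delta; rw [ell_eq_of_deg_ge hK h]; ring

theorem deg_ge_of_ne_bot {D : Divisor k K} (h : L D ≠ ⊥) : 0 ≤ D.deg := by
  by_contra hc
  exact h ((hF).L_eq_bot_of_deg_neg (not_le.mp hc))

/-- A divisor of degree zero with a nonzero section is principal. -/
theorem exists_eq_neg_div {D : Divisor k K} (h : L D ≠ ⊥) (hd : D.deg = 0) :
    ∃ x : K, x ≠ 0 ∧ D + div k x = 0 := by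
  obtain ⟨x, hx, hD⟩ := (hF).exists_effective_of_ne_bot h
  exact ⟨x, hx, (eq_of_le_of_deg_eq (hF) hD (by rw [deg_zero, deg_add, hd, (hF).deg_div]; rfl)).symm⟩

theorem isCanonical_iff (C : Divisor k K) :
    IsCanonical k K C ↔ ell C = genus k K ∧ C.deg = 2 * (genus k K : ℤ) - 2 := by
  refine ⟨fun h => ⟨ell_canonical hK h, deg_canonical hK h⟩, fun ⟨he, hd⟩ => ?_⟩
  obtain ⟨C₀, hC₀⟩ := exists_isCanonical hK
  have h1 := riemann_roch hK hC₀ C
  rw [he, hd] at h1
  have hne : L (C₀ - C) ≠ ⊥ := by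
    intro h
    have : ell (C₀ - C) = 0 := by unfold ell; rw [h]; exact finrank_bot k K
    omega
  obtain ⟨x, hx, hxC⟩ := exists_eq_neg_div hK hne (by rw [deg_sub, deg_canonical hK hC₀, hd, sub_self])
  obtain ⟨ω, h0, hω⟩ := hC₀
  have hdiv := (hF).isDivOf_mulW hx (fun _ => (hF).smul_mem_adele x) hω
  have e : C₀ + div k x = C := by
    rw [← sub_eq_zero, ← hxC]; abel
  exact ⟨_, (hF).ne_zero_of_isDivOf hdiv, e ▸ hdiv⟩

/-- Strong approximation: congruences at finitely many places `S`, integrality away from `S` and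
`P∞`. -/
theorem strong_approximation (Pinf : Place k K) (S : Finset (Place k K)) (hS : Pinf ∉ S)
    (x : Place k K → K) (n : Place k K → ℤ) :
    ∃ y : K, (∀ P ∈ S, P.1 (y - x P) = exp (n P)) ∧
      ∀ Q : Place k K, Q ≠ Pinf → Q ∉ S → Q.1 y ≤ 1 := by
  classical
  obtain ⟨N, hN⟩ := riemann_theorem hK
  let D' : Divisor k K := Finsupp.onFinset S (fun P => if P ∈ S then n P - 1 else 0)
    fun P hP => by by_contra h; exact hP (if_neg h)
  set M : ℕ := (N - D'.deg).toNat
  let D : Divisor k K := D' + Finsupp.single Pinf (M : ℤ)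
  have hdeg : N ≤ D.deg := by
    have h1 : (M : ℤ) ≤ M * (Pinf.deg : ℤ) :=
      le_mul_of_one_le_right (by omega) (by exact_mod_cast (hF).deg_pos Pinf)
    simp only [D, deg_add, deg_single]
    omega
  choose w hw using fun P : Place k K => exists_val_eq_exp P (n P)
  let a : Place k K → K := fun P => if P ∈ S then x P + w P else 0
  have ha : a ∈ adele k K := by
    refine Filter.eventually_cofinite.mpr (S.finite_toSet.subset fun P hP => ?_)
    by_contra h
    exact hP (by simp [a, show P ∉ S from h])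
  have hq := qfin_adele hK D
  rw [hN D hdeg, sub_self] at hq
  rw [← QFin.eq_of_zero hq] at ha
  obtain ⟨u, hu, v, ⟨y, rfl⟩, huv⟩ := Submodule.mem_sup.mp ha
  have key : ∀ P, u P = a P - y := fun P => by
    rw [eq_sub_iff_add_eq]; exact congrFun huv P
  refine ⟨y, fun P hP => ?_, fun Q hQ hQS => ?_⟩
  · have h1 := hu P
    rw [key P] at h1
    have hne : P ≠ Pinf := fun e => hS (e ▸ hP)
    simp only [a, D, D', if_pos hP, Finsupp.add_apply, Finsupp.onFinset_apply,
      Finsupp.single_eq_of_ne hne, add_zero] at h1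
    have : y - x P = -(x P + w P - y) + w P := by ring
    rw [this, P.1.map_add_eq_of_lt_right, hw]
    rw [hw, Valuation.map_neg]
    exact h1.trans_lt (exp_lt_exp.mpr (by omega))
  · have h1 := hu Q
    rw [key Q] at h1
    simpa [a, D, D', hQS, Finsupp.single_eq_of_ne hQ] using h1

end FunctionField2

end Groth.FunFld1
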