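import Groth.Prelude.Def_W4bk4goldsch23Ext
import Groth.Agent.FunFld1.RiemannRoch
import Mathlib.RingTheory.Finiteness.Basic
import Mathlib.LinearAlgebra.Dimension.Finrank
import Mathlib.FieldTheory.Tower

/-!
Places in finite extensions: restriction, fibres, the fundamental equality, conorm, Galois action.
-/

set_option linter.style.haveILetI false

namespace Groth.FunFld1

open WithZero FunFld

section General

variable {k K K' : Type*} [Field k] [Field K] [Field K'] [Algebra k K] [Algebra K K'] [Algebra k K']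

theorem isOverWith_unique {Q : Place k K'} {P : Place k K} {e e' : ℕ} (h : IsOverWith Q P e)
    (h' : IsOverWith Q P e') : e = e' := by
  obtain ⟨t, -, ht⟩ := exists_uniformizer P
  have := (h t).symm.trans (h' t)
  rw [ht, ← exp_nsmul, ← exp_nsmul, exp_injective.eq_iff, nsmul_eq_mul, nsmul_eq_mul] at this
  omega

theorem overWith_pos {Q : Place k K'} {P : Place k K} {e : ℕ} (h : IsOverWith Q P e) : 0 < e := by
  by_contra hc
  have := h 0
  simp [show e = 0 by omega] at this

theorem overWith_isOver {Q : Place k K'} {P : Place k K} {e : ℕ} (h : IsOverWith Q P e) :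
    IsOver Q P := ⟨e, h⟩

open Classical in
theorem ramIdx_eq {Q : Place k K'} {P : Place k K} {e : ℕ} (h : IsOverWith Q P e) :
    ramIdx Q P = e := by
  unfold ramIdx
  rw [dif_pos (overWith_isOver h)]
  exact isOverWith_unique (Nat.find_spec (overWith_isOver h)) h

theorem isOverWith_ramIdx {Q : Place k K'} {P : Place k K} (h : IsOver Q P) :
    IsOverWith Q P (ramIdx Q P) := by
  obtain ⟨e, he⟩ := h
  rwa [ramIdx_eq he]

theorem overWith_ord {Q : Place k K'} {P : Place k K} {e : ℕ} (h : IsOverWith Q P e) (x : K) :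
    Q.ord (algebraMap K K' x) = e * P.ord x := by
  simp [Place.ord, h x, log_pow]

theorem overWith_le_one_iff {Q : Place k K'} {P : Place k K} {e : ℕ} (h : IsOverWith Q P e)
    (x : K) : Q.1 (algebraMap K K' x) ≤ 1 ↔ P.1 x ≤ 1 := by
  rw [h x, pow_le_one_iff_of_nonneg zero_le (overWith_pos h).ne']

theorem overWith_lt_one_iff {Q : Place k K'} {P : Place k K} {e : ℕ} (h : IsOverWith Q P e)
    (x : K) : Q.1 (algebraMap K K' x) < 1 ↔ P.1 x < 1 := by
  rw [h x, pow_lt_one_iff_of_nonneg zero_le (overWith_pos h).ne']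

theorem over_le_one_iff {Q : Place k K'} {P : Place k K} (h : IsOver Q P) (x : K) :
    Q.1 (algebraMap K K' x) ≤ 1 ↔ P.1 x ≤ 1 :=
  overWith_le_one_iff (isOverWith_ramIdx h) x

theorem over_lt_one_iff {Q : Place k K'} {P : Place k K} (h : IsOver Q P) (x : K) :
    Q.1 (algebraMap K K' x) < 1 ↔ P.1 x < 1 :=
  overWith_lt_one_iff (isOverWith_ramIdx h) x

theorem over_unique {Q : Place k K'} {P P' : Place k K} (h : IsOver Q P) (h' : IsOver Q P') :
    P = P' :=
  Place.eq_of_forall_le_one P P' fun x hx => (over_le_one_iff h' x).mp ((over_le_one_iff h x).mpr hx)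

theorem isOver_of_le_one {Q : Place k K'} {P P' : Place k K} (h : IsOver Q P)
    (h' : ∀ x, P'.1 x ≤ 1 → Q.1 (algebraMap K K' x) ≤ 1) : IsOver Q P' :=
  (Place.eq_of_forall_le_one P' P fun x hx => (over_le_one_iff h x).mp (h' x hx)) ▸ h

end General

namespace IsFF

set_option linter.unusedSectionVars false

section

variable {k K K' : Type*} [Field k] [Field K] [Field K'] [Algebra k K] [Algebra K K'] [Algebra k K']
  [IsScalarTower k K K'] [FiniteDimensional K K']

theorem transcendental_algebraMap {x : K} (hx : Transcendental k x) :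
    Transcendental k (algebraMap K K' x) :=
  (transcendental_algebraMap_iff (algebraMap K K').injective).mpr hx

/-- The isomorphism `k(x) ≃ k(x')` for the image `x'` of `x`. -/
noncomputable def adjoinEquiv (x : K) :
    IntermediateField.adjoin k ({x} : Set K) ≃ₐ[k]
      IntermediateField.adjoin k ({algebraMap K K' x} : Set K') :=
  (IntermediateField.equivMap _ (IsScalarTower.toAlgHom k K K')).trans
    (IntermediateField.equivOfEq (by rw [IntermediateField.adjoin_map, Set.image_singleton]; rfl))

theorem adjoinEquiv_coe (x : K) (a : IntermediateField.adjoin k ({x} : Set K)) :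
    ((adjoinEquiv (K' := K') x a : IntermediateField.adjoin k ({algebraMap K K' x} : Set K')) : K') =
      algebraMap K K' a := rfl

theorem finiteDimensional_ext (hF : IsFF k K) {x : K} (hx : Transcendental k x) :
    FiniteDimensional (IntermediateField.adjoin k ({algebraMap K K' x} : Set K')) K' ∧
      Module.finrank (IntermediateField.adjoin k ({algebraMap K K' x} : Set K')) K' =
        Module.finrank (IntermediateField.adjoin k ({x} : Set K)) K * Module.finrank K K' := by
  haveI := hF.finiteDimensional hx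
  haveI : Module.Finite (IntermediateField.adjoin k ({x} : Set K)) K' := Module.Finite.trans K K'
  have hcomp : (algebraMap (IntermediateField.adjoin k ({algebraMap K K' x} : Set K')) K').comp
      (adjoinEquiv (K' := K') x).toRingEquiv.toRingHom =
      (RingEquiv.refl K').toRingHom.comp
        (algebraMap (IntermediateField.adjoin k ({x} : Set K)) K') :=
    RingHom.ext fun a => rfl
  refine ⟨Module.Finite.of_equiv_equiv (adjoinEquiv (K' := K') x).toRingEquiv (RingEquiv.refl K')
    hcomp, ?_⟩
  rw [Module.finrank_mul_finrank]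
  exact (Algebra.finrank_eq_of_equiv_equiv (adjoinEquiv (K' := K') x).toRingEquiv (RingEquiv.refl K')
    hcomp).symm

theorem ext (hF : IsFF k K) : IsFF k K' := by
  obtain ⟨x, hx, -⟩ := id hF
  exact ⟨algebraMap K K' x, transcendental_algebraMap hx, (hF.finiteDimensional_ext hx).1⟩

theorem exists_isOver (hF : IsFF k K) (Q : Place k K') : ∃ P : Place k K, IsOver Q P := by
  let A : ValuationSubring K := Q.O.comap (algebraMap K K')
  have hA : A ≠ ⊤ := by
    intro htop
    obtain ⟨y, hy⟩ := exists_val_gt_one Q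
    letI : Algebra K Q.O := ((algebraMap K K').codRestrict Q.O.toSubring fun x =>
      (show x ∈ A from htop ▸ ValuationSubring.mem_top x)).toAlgebra
    haveI : IsScalarTower K Q.O K' := IsScalarTower.of_algebraMap_eq fun _ => rfl
    obtain ⟨a, ha⟩ := IsIntegrallyClosed.isIntegral_iff.mp
      ((Algebra.IsIntegral.isIntegral (R := K) y).tower_top (A := Q.O))
    exact absurd (ha ▸ a.2 : y ∈ Q.O) (not_le.mpr hy)
  obtain ⟨P, hP⟩ := hF.exists_place_O_eq A
    (fun c => by
      show Q.1 (algebraMap K K' (algebraMap k K c)) ≤ 1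
      rw [← IsScalarTower.algebraMap_apply k K K' c]; exact Q.2.1 c) hA
  have hle : ∀ x : K, P.1 x ≤ 1 ↔ Q.1 (algebraMap K K' x) ≤ 1 := fun x => by
    show x ∈ P.O ↔ x ∈ A
    rw [hP]
  obtain ⟨t, ht0, ht⟩ := exists_uniformizer P
  have hone : ∀ u : K, P.1 u = 1 → Q.1 (algebraMap K K' u) = 1 := fun u hu => by
    refine le_antisymm ((hle u).mp hu.le) ?_
    have h1 := (hle u⁻¹).mp (by simp [hu])
    rw [map_inv₀, map_inv₀] at h1
    refine (inv_le_one₀ (zero_lt_iff.mpr ?_)).mp h1
    simp only [Valuation.ne_zero_iff, ne_eq, map_eq_zero]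
    rintro rfl; simp at hu
  have htle : Q.1 (algebraMap K K' t) ≤ 1 :=
    (hle t).mp (by rw [ht, exp_le_one]; omega)
  set e := (Q.ord (algebraMap K K' t)).toNat
  have he : Q.1 (algebraMap K K' t) = exp (-(e : ℤ)) := by
    rw [val_eq_exp_neg_ord Q (by simpa using ht0), Int.toNat_of_nonneg ((val_le_one_iff Q _).mp htle)]
  have hkey : ∀ x : K, x ≠ 0 → Q.1 (algebraMap K K' x) = exp (-((e : ℤ) * P.ord x)) := by
    intro x hx
    have h1 : P.1 (x * t ^ (-P.ord x)) = 1 := by
      rw [map_mul, map_zpow₀, ht, val_eq_exp_neg_ord P hx, ← exp_zsmul, ← exp_add]; simp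
    have h2 := hone _ h1
    rw [map_mul, map_zpow₀, map_mul, map_zpow₀, he, ← exp_zsmul] at h2
    rw [(eq_mul_inv_iff_mul_eq₀ exp_ne_zero).mpr h2, one_mul, ← exp_neg]
    congr 1
    simp
    ring
  have he0 : e ≠ 0 := by
    intro he0
    obtain ⟨x, hx⟩ := exists_val_gt_one P
    have h1 := not_le.mp (mt (hle x).mpr (not_le.mpr hx))
    rw [hkey x (fun h0 => by simp [h0] at hx), he0] at h1
    simp at h1
  refine ⟨P, e, fun x => ?_⟩
  by_cases hx : x = 0
  · simp [hx, zero_pow he0]
  · rw [hkey x hx, val_eq_exp_neg_ord P hx, ← exp_nsmul]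
    simp

/-- A nonconstant function with all poles at `P`. -/
theorem exists_pole_only (hF : IsFF k K) (P : Place k K) :
    ∃ x : K, 1 < P.1 x ∧ ∀ P' : Place k K, P' ≠ P → P'.1 x ≤ 1 := by
  classical
  obtain ⟨b, hb⟩ := hF.exists_delta_le
  set m : ℕ := (b + ell (0 : Divisor k K)).toNat + 1
  set D : Divisor k K := Finsupp.single P (m : ℤ)
  have h1 := hb D
  rw [delta, deg_single] at h1
  have h2 : (m : ℤ) ≤ m * P.deg :=
    le_mul_of_one_le_right (by omega) (by exact_mod_cast hF.deg_pos P)
  have hm : b + ell (0 : Divisor k K) < m := by omega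
  have hne : ¬ L D ≤ L (0 : Divisor k K) := by
    intro hle
    haveI := hF.finiteDimensional_L (0 : Divisor k K)
    have := Submodule.finrank_mono hle
    unfold ell at *
    omega
  obtain ⟨x, hxD, hx0⟩ := SetLike.not_le_iff_exists.mp hne
  have hle : ∀ P' : Place k K, P' ≠ P → P'.1 x ≤ 1 := fun P' hP' => by
    simpa [D, Finsupp.single_eq_of_ne hP'] using hxD P'
  refine ⟨x, not_le.mp fun h => hx0 fun P' => ?_, hle⟩
  rcases eq_or_ne P' P with rfl | hP'
  · exact h.trans_eq exp_zero.symm
  · exact (hle P' hP').trans_eq exp_zero.symm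

/-- Finite fibres and the fundamental equality. -/
theorem fibre_and_sum (hF : IsFF k K) (P : Place k K) :
    {Q : Place k K' | IsOver Q P}.Finite ∧
      ∀ Qs : Finset (Place k K'), (∀ Q, Q ∈ Qs ↔ IsOver Q P) →
        ∑ Q ∈ Qs, ramIdx Q P * Q.deg = Module.finrank K K' * P.deg := by
  classical
  obtain ⟨x, hx1, hxle⟩ := hF.exists_pole_only P
  have hxt := transcendental_of_one_lt_val P hx1
  have hF' : IsFF k K' := hF.ext
  set z := algebraMap K K' x
  have hzt : Transcendental k z := transcendental_algebraMap hxt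
  have hiff : ∀ Q : Place k K', Q ∈ (zeroDiv k z⁻¹).support ↔ IsOver Q P := by
    intro Q
    obtain ⟨P', hP'⟩ := hF.exists_isOver Q
    rw [Finsupp.mem_support_iff, hF'.zeroDiv_apply, ord_inv]
    constructor
    · intro h
      have hz : 1 < Q.1 z := (one_lt_val_iff Q z).mpr (by omega)
      have : P' = P := by
        by_contra hne
        exact absurd ((over_le_one_iff hP' x).mpr (hxle P' hne)) (not_le.mpr hz)
      exact this ▸ hP'
    · intro h
      have hz : 1 < Q.1 z := not_le.mp (mt (over_le_one_iff h x).mp (not_le.mpr hx1))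
      have := (one_lt_val_iff Q z).mp hz
      omega
  refine ⟨(zeroDiv k z⁻¹).support.finite_toSet.subset fun Q hQ => (hiff Q).mpr hQ, fun Qs hQs => ?_⟩
  obtain rfl : Qs = (zeroDiv k z⁻¹).support := Finset.ext fun Q => (hQs Q).trans (hiff Q).symm
  have hd := hF'.deg_poleDiv_eq hzt
  rw [(hF.finiteDimensional_ext hxt).2] at hd
  have hK : zeroDiv k x⁻¹ = Finsupp.single P (-P.ord x) := by
    ext P'
    rw [hF.zeroDiv_apply, ord_inv]
    rcases eq_or_ne P' P with rfl | hne
    · have := (one_lt_val_iff P' x).mp hx1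
      rw [Finsupp.single_eq_same]
      omega
    · have := (val_le_one_iff P' x).mp (hxle P' hne)
      rw [Finsupp.single_eq_of_ne hne]
      omega
  have hdK := hF.deg_poleDiv_eq hxt
  rw [hK, deg_single] at hdK
  have hpos : 0 < -P.ord x := by have := (one_lt_val_iff P x).mp hx1; omega
  have e1 : (zeroDiv k z⁻¹).deg =
      -P.ord x * ((∑ Q ∈ (zeroDiv k z⁻¹).support, ramIdx Q P * Q.deg : ℕ) : ℤ) := by
    unfold Divisor.deg Finsupp.sum
    push_cast
    rw [Finset.mul_sum]
    refine Finset.sum_congr rfl fun Q hQ => ?_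
    have ho := isOverWith_ramIdx ((hiff Q).mp hQ)
    rw [hF'.zeroDiv_apply, ord_inv, (overWith_ord ho) x, max_eq_left]
    · ring
    · rw [← mul_neg]; positivity
  rw [e1] at hd
  push_cast at hd
  rw [← hdK] at hd
  have : ((∑ Q ∈ (zeroDiv k z⁻¹).support, ramIdx Q P * Q.deg : ℕ) : ℤ) =
      ((Module.finrank K K' * P.deg : ℕ) : ℤ) := by
    push_cast
    exact mul_left_cancel₀ hpos.ne' (hd.trans (by ring))
  exact_mod_cast this

theorem exists_over (hF : IsFF k K) (P : Place k K) : ∃ Q : Place k K', IsOver Q P := by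
  classical
  obtain ⟨hfin, hsum⟩ := hF.fibre_and_sum (K' := K') P
  by_contra! hne
  have := hsum ∅ fun Q => by simp [hne Q]
  simp only [Finset.sum_empty] at this
  have := Nat.mul_pos (Module.finrank_pos (R := K) (M := K')) (hF.deg_pos P)
  omega

/-- The finset of places above `P`. -/
noncomputable def above (hF : IsFF k K) (P : Place k K) : Finset (Place k K') :=
  (hF.fibre_and_sum P).1.toFinset

@[simp] theorem mem_above (hF : IsFF k K) {P : Place k K} {Q : Place k K'} :
    Q ∈ hF.above P ↔ IsOver Q P := by simp [above]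

theorem sum_ramIdx_deg (hF : IsFF k K) (P : Place k K) :
    ∑ Q ∈ (hF.above P : Finset (Place k K')), ramIdx Q P * Q.deg =
      Module.finrank K K' * P.deg :=
  (hF.fibre_and_sum P).2 _ fun _ => hF.mem_above

open Classical in
theorem conorm_single (hF : IsFF k K) (P : Place k K) (n : ℤ) :
    conorm K' (Finsupp.single P n) =
      n • ∑ Q ∈ hF.above P, (ramIdx Q P : ℤ) • Finsupp.single Q 1 := by
  unfold conorm
  rw [Finsupp.sum_single_index]
  · rw [dif_pos (hF.fibre_and_sum P).1]
    rfl
  · simp

theorem conorm_add (D E : Divisor k K) :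
    conorm K' (D + E) = conorm K' D + conorm K' E := by
  classical
  exact Finsupp.sum_add_index' (fun _ => zero_smul _ _) (fun _ _ _ => add_smul _ _ _)

theorem conorm_zero : conorm K' (0 : Divisor k K) = 0 := Finsupp.sum_zero_index

theorem conorm_apply (hF : IsFF k K) (D : Divisor k K) {Q : Place k K'} {P : Place k K} {e : ℕ}
    (h : IsOverWith Q P e) : conorm K' D Q = e * D P := by
  classical
  induction D using Finsupp.induction_linear with
  | zero => simp [conorm_zero]
  | add D E hD hE => rw [conorm_add, Finsupp.add_apply, hD, hE, Finsupp.add_apply]; ring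
  | single P' n =>
    rw [hF.conorm_single, Finsupp.smul_apply, Finsupp.coe_finsetSum, Finset.sum_apply]
    simp only [Finsupp.smul_apply, smul_eq_mul, Finsupp.single_apply, mul_ite, mul_one, mul_zero,
      Finset.sum_ite_eq', hF.mem_above]
    by_cases hP : P' = P
    · subst hP
      rw [if_pos (overWith_isOver h), if_pos rfl, ramIdx_eq h]; ring
    · rw [if_neg fun h' => hP (over_unique h' (overWith_isOver h)), if_neg hP]

theorem deg_conorm (hF : IsFF k K) (D : Divisor k K) :
    (conorm K' D).deg = Module.finrank K K' * D.deg := by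
  classical
  induction D using Finsupp.induction_linear with
  | zero => simp [conorm_zero, deg_zero]
  | add D E hD hE => rw [conorm_add, deg_add, hD, hE, deg_add]; ring
  | single P n =>
    rw [hF.conorm_single, deg_single]
    have key : ∀ s : Finset (Place k K'),
        Divisor.deg (n • ∑ Q ∈ s, (ramIdx Q P : ℤ) • Finsupp.single Q (1 : ℤ)) =
          n * ((∑ Q ∈ s, ramIdx Q P * Q.deg : ℕ) : ℤ) := by
      intro s
      induction s using Finset.induction with
      | empty => simp [deg_zero]
      | insert Q s hQ ih =>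
        rw [Finset.sum_insert hQ, smul_add, deg_add, ih, Finset.sum_insert hQ, Finsupp.smul_single,
          Finsupp.smul_single, deg_single]
        simp only [smul_eq_mul, mul_one]
        push_cast
        ring
    rw [key, hF.sum_ramIdx_deg]
    push_cast
    ring

theorem div_algebraMap (hF : IsFF k K) (x : K) :
    div k (algebraMap K K' x) = conorm K' (div k x) := by
  ext Q
  obtain ⟨P, e, he⟩ := hF.exists_isOver Q
  rw [hF.conorm_apply _ he, (hF.ext (K' := K')).div_apply, hF.div_apply, (overWith_ord he)]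

end

end IsFF

section Galois

variable {k K K' : Type*} [Field k] [Field K] [Field K'] [Algebra k K] [Algebra K K'] [Algebra k K']
  [IsScalarTower k K K']

/-- The place `x ↦ v_Q (σ x)`. -/
noncomputable def comapPlace (σ : K' ≃ₐ[K] K') (Q : Place k K') : Place k K' :=
  ⟨Q.1.comap (σ : K' →+* K'), fun c => by
    show Q.1 (σ (algebraMap k K' c)) ≤ 1
    rw [IsScalarTower.algebraMap_apply k K K', AlgEquiv.commutes,
      ← IsScalarTower.algebraMap_apply k K K']
    exact Q.2.1 c, Q.2.2.comp σ.surjective⟩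

@[simp] theorem comapPlace_apply (σ : K' ≃ₐ[K] K') (Q : Place k K') (x : K') :
    (comapPlace σ Q).1 x = Q.1 (σ x) := rfl

theorem isOverWith_comapPlace (σ : K' ≃ₐ[K] K') {Q : Place k K'} {P : Place k K} {e : ℕ}
    (h : IsOverWith Q P e) : IsOverWith (comapPlace σ Q) P e := fun x => by
  simpa using h x

theorem exists_comapPlace_eq [FiniteDimensional K K'] [IsGalois K K'] (Q₁ Q₂ : Place k K')
    (h : ∀ x : K, Q₁.1 (algebraMap K K' x) < 1 ↔ Q₂.1 (algebraMap K K' x) < 1) :
    ∃ σ : K' ≃ₐ[K] K', comapPlace σ Q₁ = Q₂ := by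
  classical
  by_contra! hne
  let orbit : Finset (Place k K') := Finset.univ.image fun σ : (K' ≃ₐ[K] K') => comapPlace σ Q₁
  obtain ⟨w, hw⟩ := exists_val_eq
    (insert Q₂ orbit ∪ Finset.univ.image fun σ : (K' ≃ₐ[K] K') => comapPlace σ Q₂)
    (fun Q => if Q ∈ orbit then 0 else -1)
  have hw1 : ∀ σ : K' ≃ₐ[K] K', Q₁.1 (σ w) = 1 := fun σ => by
    have hm : comapPlace σ Q₁ ∈ orbit := Finset.mem_image_of_mem _ (Finset.mem_univ σ)
    simpa [hm] using hw _ (Finset.mem_union_left _ (Finset.mem_insert_of_mem hm))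
  have hw2 : ∀ σ : K' ≃ₐ[K] K', Q₂.1 (σ w) ≤ 1 := fun σ => by
    have := hw (comapPlace σ Q₂) (Finset.mem_union_right _ (Finset.mem_image_of_mem _ (Finset.mem_univ σ)))
    rw [comapPlace_apply] at this
    rw [this, exp_le_one]
    split_ifs <;> omega
  have hw20 : Q₂.1 w < 1 := by
    have hn : Q₂ ∉ orbit := by simpa [orbit] using hne
    have := hw Q₂ (Finset.mem_union_left _ (Finset.mem_insert_self _ _))
    rw [if_neg hn] at this
    rw [this, exp_lt_one]; omega
  have hN' := Algebra.norm_eq_prod_automorphisms K w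
  have a1 : Q₁.1 (algebraMap K K' (Algebra.norm K w)) = 1 := by
    rw [hN', map_prod, Finset.prod_eq_one fun σ _ => hw1 σ]
  have a2 : Q₂.1 (algebraMap K K' (Algebra.norm K w)) < 1 := by
    rw [hN', map_prod, ← Finset.mul_prod_erase Finset.univ _ (Finset.mem_univ (1 : K' ≃ₐ[K] K'))]
    refine (mul_le_of_le_one_right' (Finset.prod_le_one' fun σ _ => hw2 σ)).trans_lt ?_
    simpa using hw20
  exact absurd ((h _).mpr a2) (by rw [a1]; exact lt_irrefl 1)

theorem exists_comapPlace_of_isOver [FiniteDimensional K K'] [IsGalois K K'] {Q₁ Q₂ : Place k K'}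
    {P : Place k K} (h₁ : IsOver Q₁ P) (h₂ : IsOver Q₂ P) :
    ∃ σ : K' ≃ₐ[K] K', comapPlace σ Q₁ = Q₂ :=
  exists_comapPlace_eq Q₁ Q₂ fun x => (over_lt_one_iff h₁ x).trans (over_lt_one_iff h₂ x).symm

/-- The residue fields of conjugate places are isomorphic over `k`. -/
theorem deg_comapPlace (σ : K' ≃ₐ[K] K') (Q : Place k K') : (comapPlace σ Q).deg = Q.deg := by
  let e : (comapPlace σ Q).O ≃+* Q.O :=
    { toFun := fun a => ⟨σ a.1, a.2⟩
      invFun := fun a => ⟨σ.symm a.1, show Q.1 (σ (σ.symm a.1)) ≤ 1 by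
        rw [AlgEquiv.apply_symm_apply]; exact a.2⟩
      left_inv := fun a => Subtype.ext (σ.symm_apply_apply _)
      right_inv := fun a => Subtype.ext (σ.apply_symm_apply _)
      map_mul' := fun a b => Subtype.ext (map_mul σ a.1 b.1)
      map_add' := fun a b => Subtype.ext (map_add σ a.1 b.1) }
  let ē := IsLocalRing.ResidueField.mapEquiv e
  have hk : ∀ c : k, ē (algebraMap k _ c) = algebraMap k _ c := fun c => by
    show IsLocalRing.residue Q.O (e (algebraMap k (comapPlace σ Q).O c)) = _
    refine congrArg (IsLocalRing.residue Q.O) (Subtype.ext ?_)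
    show σ (algebraMap k K' c) = algebraMap k K' c
    rw [IsScalarTower.algebraMap_apply k K K', AlgEquiv.commutes]
  exact (AlgEquiv.ofRingEquiv (f := ē) hk).toLinearEquiv.finrank_eq

end Galois

end Groth.FunFld1
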