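import Groth.Agent.FunFld1.Rational
import Groth.Agent.FunFld1.Extension
import Mathlib.FieldTheory.IntermediateField.Adjoin.Algebra
import Mathlib.LinearAlgebra.Basis.VectorSpace

/-!
Affine models `A = k[y]` of a function field: conductor, approximation, the local ring at a place which
is separated from the other places and has a parameter in `A`.
-/

set_option linter.style.haveILetI false
set_option linter.unusedSectionVars false

namespace Groth.FunFld1

open WithZero FunFld Polynomial
open scoped IntermediateField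

variable {k K : Type*} [Field k] [Field K] [Algebra k K] {ι : Type*} [Fintype ι]

/-- All `y i` are integral at `Q`. -/
def IsAffine (y : ι → K) (Q : Place k K) : Prop := ∀ i, Q.1 (y i) ≤ 1

/-- `P` is separated by `k[y]` from the other affine places and has a parameter in `k[y]`. -/
def SepParam (y : ι → K) (P : Place k K) : Prop :=
  (∃ t ∈ Algebra.adjoin k (Set.range y), P.1 t = exp (-1)) ∧
    ∀ Q : Place k K, Q ≠ P → IsAffine y Q →
      ∃ b ∈ Algebra.adjoin k (Set.range y), P.1 (b - 1) < 1 ∧ Q.1 b < 1

theorem IsAffine.le_one {y : ι → K} {Q : Place k K} (h : IsAffine y Q) {a : K}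
    (ha : a ∈ Algebra.adjoin k (Set.range y)) : Q.1 a ≤ 1 := by
  induction ha using Algebra.adjoin_induction with
  | mem x hx => obtain ⟨i, rfl⟩ := hx; exact h i
  | algebraMap c => exact Q.2.1 c
  | add a b _ _ ha hb => exact Valuation.map_add_le _ ha hb
  | mul a b _ _ ha hb => rw [map_mul]; exact mul_le_one' ha hb

/-- A combination of the coordinates with poles at every non-affine place. -/
theorem exists_mem_adjoin_affine_iff (hF : IsFF k K) (y : ι → K) :
    ∃ x ∈ Algebra.adjoin k (Set.range y), ∀ Q : Place k K, IsAffine y Q ↔ Q.1 x ≤ 1 := by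
  classical
  let S : Finset (Place k K) :=
    (Set.finite_iUnion fun i => hF.finite_support_ord (y i)).toFinset
  set N : ℕ := (Finset.univ.sup fun i => S.sup fun Q => (-Q.ord (y i)).toNat) + 1
  let e := Fintype.equivFin ι
  set x := ∑ i, y i ^ N ^ (e i : ℕ) with hx
  have hxA : x ∈ Algebra.adjoin k (Set.range y) :=
    sum_mem fun i _ => pow_mem (Algebra.subset_adjoin (Set.mem_range_self i)) _
  refine ⟨x, hxA, fun Q => ⟨fun h => h.le_one hxA, fun h => ?_⟩⟩
  by_contra hc
  simp only [IsAffine, not_forall, not_le] at hc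
  obtain ⟨i₀, hi₀⟩ := hc
  have hb : ∀ i, 1 < Q.1 (y i) → 0 < -Q.ord (y i) ∧ -Q.ord (y i) < N := by
    intro i hi
    have h1 := (one_lt_val_iff Q _).mp hi
    have hQ : Q ∈ S := by
      simp only [S, Set.Finite.mem_toFinset, Set.mem_iUnion, Function.mem_support]
      exact ⟨i, by omega⟩
    have h2 : (-Q.ord (y i)).toNat ≤ Finset.univ.sup fun i => S.sup fun Q => (-Q.ord (y i)).toNat :=
      le_trans (Finset.le_sup (f := fun Q : Place k K => (-Q.ord (y i)).toNat) hQ)
        (Finset.le_sup (f := fun i => S.sup fun Q => (-Q.ord (y i)).toNat) (Finset.mem_univ i))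
    omega
  obtain ⟨j, hj, hjmax⟩ := (Finset.univ.filter fun i => 1 < Q.1 (y i)).exists_max_image
    (fun i => (e i : ℕ)) ⟨i₀, by simp [hi₀]⟩
  have hj1 : 1 < Q.1 (y j) := by simpa using hj
  have hterm : 1 < Q.1 (y j ^ N ^ (e j : ℕ)) := by
    rw [map_pow]; exact one_lt_pow₀ hj1 (by positivity)
  have hlt : ∀ i ∈ Finset.univ \ {j}, Q.1 (y i ^ N ^ (e i : ℕ)) < Q.1 (y j ^ N ^ (e j : ℕ)) := by
    intro i hi
    simp only [Finset.mem_sdiff, Finset.mem_univ, Finset.mem_singleton, true_and] at hi
    rcases le_or_gt (Q.1 (y i)) 1 with h1 | h1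
    · refine lt_of_le_of_lt ?_ hterm
      rw [map_pow]; exact pow_le_one₀ zero_le h1
    · have hle : (e i : ℕ) ≤ (e j : ℕ) := hjmax i (by simp [h1])
      have hne : (e i : ℕ) < (e j : ℕ) :=
        lt_of_le_of_ne hle fun h => hi (e.injective (Fin.ext h))
      obtain ⟨ha, ha'⟩ := hb i h1
      obtain ⟨hb0, -⟩ := hb j hj1
      have hi0 : y i ≠ 0 := fun h0 => by simp [h0] at h1
      have hj0 : y j ≠ 0 := fun h0 => by simp [h0] at hj1
      rw [map_pow, map_pow, val_eq_exp_neg_ord Q hi0, val_eq_exp_neg_ord Q hj0, ← exp_nsmul,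
        ← exp_nsmul, exp_lt_exp, nsmul_eq_mul, nsmul_eq_mul]
      push_cast
      calc (N : ℤ) ^ (e i : ℕ) * -Q.ord (y i) < (N : ℤ) ^ (e i : ℕ) * N := by
            exact mul_lt_mul_of_pos_left ha' (by positivity)
        _ = (N : ℤ) ^ ((e i : ℕ) + 1) := (pow_succ _ _).symm
        _ ≤ (N : ℤ) ^ (e j : ℕ) := by
            exact_mod_cast Nat.pow_le_pow_right (show 0 < N by omega) hne
        _ ≤ (N : ℤ) ^ (e j : ℕ) * -Q.ord (y j) := le_mul_of_one_le_right (by positivity) hb0
  have := Q.1.map_sum_eq_of_lt (Finset.mem_univ j) hlt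
  rw [← hx] at this
  rw [this] at h
  exact absurd h (not_le.mpr hterm)

section FunctionField

variable (hK : IsFunctionField k K) {y : ι → K}
  (hy : IntermediateField.adjoin k (Set.range y) = ⊤)
include hK hy

local notation "hF" => IsFF.of_isFunctionField hK

theorem exists_transcendental_affine :
    ∃ x ∈ Algebra.adjoin k (Set.range y), Transcendental k x ∧
      ∀ Q : Place k K, IsAffine y Q ↔ Q.1 x ≤ 1 := by
  obtain ⟨x, hxA, hiff⟩ := exists_mem_adjoin_affine_iff (hF) y
  refine ⟨x, hxA, fun halg => ?_, hiff⟩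
  obtain ⟨⟨w, hw, -⟩, -⟩ := id hK
  have hc : ∀ i, y i ∈ (⊥ : IntermediateField k K) := by
    intro i
    rw [IntermediateField.mem_bot]
    by_contra hni
    obtain ⟨Q, hQ⟩ := exists_pole_of_notMem hK hni
    have hQ1 : ¬ IsAffine y Q := fun h => not_le.mpr ((one_lt_val_iff Q _).mpr hQ) (h i)
    rw [hiff] at hQ1
    by_cases hx0 : x = 0
    · simp [hx0] at hQ1
    · exact hQ1 (val_eq_one_of_isAlgebraic Q halg hx0).le
  have hbot : IntermediateField.adjoin k (Set.range y) ≤ ⊥ :=
    IntermediateField.adjoin_le_iff.mpr (by rintro _ ⟨i, rfl⟩; exact hc i)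
  rw [hy] at hbot
  obtain ⟨c, rfl⟩ := IntermediateField.mem_bot.mp (hbot (IntermediateField.mem_top (x := w)))
  exact hw (isAlgebraic_algebraMap c)

set_option maxHeartbeats 1600000 in
/-- A conductor: `a` multiplies every function integral at the affine places into `k[y]`. -/
theorem exists_conductor :
    ∃ a ∈ Algebra.adjoin k (Set.range y), a ≠ 0 ∧ ∀ z : K,
      (∀ Q : Place k K, IsAffine y Q → Q.1 z ≤ 1) → a * z ∈ Algebra.adjoin k (Set.range y) := by
  classical
  obtain ⟨x, hxA, hxt, hiff⟩ := exists_transcendental_affine hK hy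
  set A := Algebra.adjoin k (Set.range y) with hA
  haveI := (hF).finiteDimensional hxt
  set F := IntermediateField.adjoin k ({x} : Set K) with hFdef
  have hspan : Submodule.span F (A : Set K) = ⊤ := by
    have h1 : IntermediateField.adjoin F (Set.range y) = ⊤ := by
      rw [eq_top_iff]
      intro z _
      have hz : z ∈ IntermediateField.adjoin k (Set.range y) := by rw [hy]; trivial
      have hle : IntermediateField.adjoin k (Set.range y) ≤
          (IntermediateField.adjoin F (Set.range y)).restrictScalars k :=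
        IntermediateField.adjoin_le_iff.mpr (IntermediateField.subset_adjoin F (Set.range y))
      exact hle hz
    haveI : Algebra.IsAlgebraic F K := Algebra.IsAlgebraic.of_finite _ _
    rw [IntermediateField.adjoin_eq_top_iff] at h1
    rw [eq_top_iff]
    intro z _
    have hz : z ∈ Subalgebra.toSubmodule (Algebra.adjoin F (Set.range y)) := by rw [h1]; trivial
    rw [Algebra.adjoin_eq_span] at hz
    exact Submodule.span_mono (Submonoid.closure_le (S := A.toSubring.toSubmonoid) |>.mpr
      Algebra.subset_adjoin) hz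
  obtain ⟨b, hbA, hbspan, hbli⟩ := exists_linearIndependent F (A : Set K)
  rw [hspan] at hbspan
  haveI : Fintype b := @Fintype.ofFinite _ hbli.finite
  let bb : Module.Basis b F K := Module.Basis.mk hbli (by rw [Subtype.range_coe, hbspan])
  have hcard : Fintype.card b = Module.finrank F K := (Module.finrank_eq_card_basis bb).symm
  set E := zeroDiv k x⁻¹ with hE
  have hEdeg : E.deg = Module.finrank F K := (hF).deg_poleDiv_eq hxt
  have hEnn : (0 : Divisor k K) ≤ E := IsFF.zeroDiv_nonneg _
  -- functions integral at all affine places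
  let R : Submodule k K :=
    { carrier := {z | ∀ Q : Place k K, IsAffine y Q → Q.1 z ≤ 1}
      add_mem' := fun ha hb Q hQ => Valuation.map_add_le _ (ha Q hQ) (hb Q hQ)
      zero_mem' := fun Q _ => by simp
      smul_mem' := fun c z hz Q hQ => by
        rw [Algebra.smul_def, map_mul]; exact mul_le_one' (Q.2.1 c) (hz Q hQ) }
  have hRA : ∀ a ∈ A, a ∈ R := fun a ha Q hQ => hQ.le_one ha
  have hR : ∀ z ∈ R, ∃ m : ℕ, ∀ m' ≥ m, z ∈ L (m' • E) := by
    intro z hz
    refine ⟨(zeroDiv k z⁻¹).support.sup fun Q => (zeroDiv k z⁻¹ Q).toNat, fun m' hm' Q => ?_⟩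
    have hEQ : 0 ≤ E Q := hEnn Q
    refine ((hF).val_le_exp_zeroDiv_inv z Q).trans ?_
    rw [exp_le_exp, Finsupp.smul_apply, nsmul_eq_mul]
    by_cases hQ : IsAffine y Q
    · have h1 := hz Q hQ
      rw [(hF).zeroDiv_apply, ord_inv]
      have := (val_le_one_iff Q z).mp h1
      have : 0 ≤ (m' : ℤ) * E Q := mul_nonneg (by positivity) hEQ
      omega
    · have h2 : 1 ≤ E Q := by
        rw [hiff, not_le, one_lt_val_iff] at hQ
        rw [hE, (hF).zeroDiv_apply, ord_inv]
        omega
      by_cases hQs : Q ∈ (zeroDiv k z⁻¹).support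
      · have h3 : (zeroDiv k z⁻¹ Q).toNat ≤ m' :=
          le_trans (Finset.le_sup (f := fun Q : Place k K => (zeroDiv k z⁻¹ Q).toNat) hQs) hm'
        have : (m' : ℤ) ≤ (m' : ℤ) * E Q := le_mul_of_one_le_right (by positivity) h2
        omega
      · rw [Finsupp.notMem_support_iff.mp hQs]
        positivity
  choose c hc using fun u : b => hR u.1 (hRA _ (hbA u.2))
  set C := Finset.univ.sup c with hC
  let mon : ℕ × b → K := fun p => x ^ p.1 * (p.2 : K)
  set M := Submodule.span k (Set.range mon) with hM
  have hMA : ∀ z ∈ M, z ∈ A := fun z hz =>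
    (Submodule.span_le (p := Subalgebra.toSubmodule A)).mpr
      (by rintro _ ⟨p, rfl⟩; exact (mul_mem (pow_mem hxA _) (hbA p.2.2) : x ^ p.1 * (p.2 : K) ∈ A)) hz
  have hmonli : LinearIndependent k mon := by
    let g : F := IntermediateField.AdjoinSimple.gen k x
    have hg : LinearIndependent k (fun j : ℕ => g ^ j) := by
      refine LinearIndependent.of_comp (IntermediateField.val _).toLinearMap ?_
      have h1 := (Polynomial.basisMonomials k).linearIndependent.map'
        (aeval x : k[X] →ₐ[k] K).toLinearMap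
        (LinearMap.ker_eq_bot.mpr (transcendental_iff_injective.mp hxt))
      have e : ⇑(IntermediateField.val F).toLinearMap ∘ (fun j : ℕ => g ^ j) =
          ⇑(aeval x : k[X] →ₐ[k] K).toLinearMap ∘ ⇑(Polynomial.basisMonomials k) := by
        ext j
        simp [g]
      rw [e]; exact h1
    exact linearIndependent_smul hg hbli
  -- the quotient is finite dimensional
  set W := Submodule.comap R.subtype M with hW
  have hbound : ∀ s : Finset (↥R ⧸ W), LinearIndependent k (fun i : s => (i : ↥R ⧸ W)) →
      s.card ≤ Module.finrank F K * C + ell (0 : Divisor k K) := by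
    intro s hs
    choose lift hlift using fun i : s => Submodule.Quotient.mk_surjective W (i : ↥R ⧸ W)
    choose ms hms using fun i : s => hR _ (lift i).2
    set m := C + Finset.univ.sup ms
    set J := m - C + 1
    let fam : (s ⊕ Fin J × b) → K := Sum.elim (fun i => (lift i : K)) (fun p => mon (p.1, p.2))
    have hmem : ∀ p, fam p ∈ L (m • E) := by
      rintro (i | ⟨a, u⟩)
      · exact hms i m (le_trans (Finset.le_sup (Finset.mem_univ i)) (by omega))
      · intro Q
        show Q.1 (x ^ (a : ℕ) * (u : K)) ≤ _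
        rw [map_mul, map_pow]
        have h1 := (hF).val_le_exp_zeroDiv_inv x Q
        have h2 := hc u C (Finset.le_sup (Finset.mem_univ u)) Q
        refine (mul_le_mul' (pow_le_pow_left₀ zero_le h1 _) h2).trans ?_
        rw [← exp_nsmul, ← exp_add, exp_le_exp, Finsupp.smul_apply, Finsupp.smul_apply, nsmul_eq_mul,
          nsmul_eq_mul, nsmul_eq_mul, ← add_mul]
        refine mul_le_mul_of_nonneg_right ?_ (hEnn Q)
        have := a.2
        simp only [J] at this
        omega
    have hfam : LinearIndependent k fam := by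
      rw [Fintype.linearIndependent_iff]
      intro g hg
      rw [Fintype.sum_sum_type] at hg
      simp only [fam, Sum.elim_inl, Sum.elim_inr] at hg
      have h1 : ∀ i, g (Sum.inl i) = 0 := by
        refine Fintype.linearIndependent_iff.mp hs _ ?_
        rw [show ∑ i, g (Sum.inl i) • (i : ↥R ⧸ W) = W.mkQ (∑ i, g (Sum.inl i) • lift i) by
          rw [map_sum]; exact Finset.sum_congr rfl fun i _ => by rw [map_smul, Submodule.mkQ_apply, hlift],
          Submodule.mkQ_apply, Submodule.Quotient.mk_eq_zero]
        show R.subtype _ ∈ M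
        rw [map_sum]
        simp only [map_smul, Submodule.subtype_apply]
        rw [eq_neg_of_add_eq_zero_left hg]
        exact neg_mem (sum_mem fun p _ => M.smul_mem _ (Submodule.subset_span ⟨_, rfl⟩))
      simp only [h1, zero_smul, Finset.sum_const_zero, zero_add] at hg
      have h2 := Fintype.linearIndependent_iff.mp
        (hmonli.comp (fun p : Fin J × b => ((p.1 : ℕ), p.2)) (fun p q h => by
          simp only [Prod.mk.injEq] at h; exact Prod.ext (Fin.ext h.1) h.2)) _ hg
      rintro (i | p)
      · exact h1 i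
      · exact h2 p
    haveI := (hF).finiteDimensional_L (m • E)
    have hfam' : LinearIndependent k (fun p => (⟨_, hmem p⟩ : L (m • E))) :=
      LinearIndependent.of_comp (L (m • E)).subtype hfam
    have h3 := hfam'.fintype_card_le_finrank
    rw [Fintype.card_sum, Fintype.card_prod, Fintype.card_coe, Fintype.card_fin, hcard] at h3
    have h4 := (hF).ell_le_of_nonneg (D := m • E) (nsmul_nonneg hEnn m)
    rw [deg_nsmul, hEdeg] at h4
    unfold ell at h4
    have h5 : m * Module.finrank F K ≤ J * Module.finrank F K + Module.finrank F K * C := by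
      rw [mul_comm (Module.finrank F K) C, ← add_mul]
      exact Nat.mul_le_mul_right _ (by omega)
    have h6 : Module.finrank k ↥(L (m • E)) ≤ m * Module.finrank F K + ell (0 : Divisor k K) := by
      unfold ell
      exact_mod_cast h4
    omega
  haveI : Module.Finite k (↥R ⧸ W) := by
    have hrk : Module.rank k (↥R ⧸ W) ≤ ((Module.finrank F K * C + ell (0 : Divisor k K) : ℕ)) :=
      rank_le fun s hs => hbound s hs
    exact Module.rank_lt_aleph0_iff.mp (lt_of_le_of_lt hrk Cardinal.natCast_lt_aleph0)
  let fb := Module.finBasis k (↥R ⧸ W)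
  choose f hf using fun i => Submodule.Quotient.mk_surjective W (fb i)
  have hfrac : ∀ z : K, ∃ w ∈ A, w ≠ 0 ∧ w * z ∈ A := by
    intro z
    obtain ⟨u, hu, w, hw, rfl⟩ := IntermediateField.mem_adjoin_iff_div.mp
      (show z ∈ IntermediateField.adjoin k (Set.range y) by rw [hy]; trivial)
    by_cases hw0 : w = 0
    · exact ⟨1, one_mem _, one_ne_zero, by simp [hw0]⟩
    · exact ⟨w, hw, hw0, by rwa [mul_div_cancel₀ _ hw0]⟩
  choose w hwA hw0 hwz using hfrac
  refine ⟨∏ i, w (f i : K), prod_mem fun i _ => hwA _, Finset.prod_ne_zero_iff.mpr fun i _ => hw0 _,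
    fun z hz => ?_⟩
  have hdiff : z - ∑ i, fb.repr (Submodule.Quotient.mk ⟨z, hz⟩) i • (f i : K) ∈ M := by
    have h1 : W.mkQ ((⟨z, hz⟩ : R) - ∑ i, fb.repr (Submodule.Quotient.mk ⟨z, hz⟩) i • f i) = 0 := by
      rw [map_sub, map_sum, sub_eq_zero]
      refine (fb.sum_repr _).symm.trans (Finset.sum_congr rfl fun i _ => ?_)
      rw [map_smul]
      exact congrArg _ (hf i).symm
    rw [Submodule.mkQ_apply, Submodule.Quotient.mk_eq_zero] at h1
    replace h1 : R.subtype _ ∈ M := h1
    rw [map_sub, map_sum] at h1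
    simpa only [Submodule.subtype_apply, Submodule.coe_smul] using h1
  rw [← sub_add_cancel z (∑ i, fb.repr (Submodule.Quotient.mk ⟨z, hz⟩) i • (f i : K)), mul_add,
    Finset.mul_sum]
  refine add_mem (mul_mem (prod_mem fun i _ => hwA _) (hMA _ hdiff)) (sum_mem fun i _ => ?_)
  rw [mul_smul_comm, ← Finset.mul_prod_erase Finset.univ _ (Finset.mem_univ i),
    mul_right_comm]
  exact A.smul_mem (mul_mem (hwz _) (prod_mem fun l _ => hwA _)) _

end FunctionField

end Groth.FunFld1
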