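import Groth.Agent.FunFld1.IntClosure
import Groth.Agent.FunFld1.Zeta.Fibre
import Mathlib.RingTheory.Discriminant
import Mathlib.FieldTheory.PrimitiveElement
import Mathlib.FieldTheory.Separable

/-!
Places at which the minimal polynomial of a generator stays separable: the extension is unramified,
the generator generates the integral closure and the residue fields.
-/

set_option linter.style.haveILetI false
set_option linter.unusedSectionVars false

open FunFld WithZero Polynomial

namespace Groth.FunFld1

variable {k K K' : Type*} [Field k] [Field K] [Field K'] [Algebra k K] [Algebra K K'] [Algebra k K']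
  [IsScalarTower k K K'] [FiniteDimensional K K']

/-- `θ` generates `K'` and its minimal polynomial is the separable polynomial `f` over `P.O`. -/
structure GoodGen (P : Place k K) (θ : K') (f : P.O[X]) : Prop where
  gen : IntermediateField.adjoin K ({θ} : Set K') = ⊤
  monic : f.Monic
  sep : f.Separable
  map_eq : f.map P.O.subtype = minpoly K θ

variable {P : Place k K} [Algebra P.O K'] [IsScalarTower P.O K K'] {θ : K'} {f : P.O[X]}

namespace GoodGen

variable (h : GoodGen P θ f)
include h

theorem aeval_eq_zero : aeval θ f = 0 := by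
  rw [← minpoly.aeval K θ, ← h.map_eq, ← aeval_map_algebraMap K θ f]
  rfl

theorem isIntegral : IsIntegral P.O θ := ⟨f, h.monic, h.aeval_eq_zero⟩

theorem isSeparable : Algebra.IsSeparable K K' := by
  have hs : IsSeparable K θ := by
    show (minpoly K θ).Separable
    rw [← h.map_eq]
    exact h.sep.map
  have := (IntermediateField.isSeparable_adjoin_simple_iff_isSeparable K K').mpr hs
  rw [h.gen] at this
  exact AlgEquiv.Algebra.isSeparable (IntermediateField.topEquiv (F := K) (E := K'))

/-- The integral closure of `P.O` is generated by `θ`. -/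
theorem integralClosure_eq :
    integralClosure P.O K' = Algebra.adjoin P.O ({θ} : Set K') := by
  haveI := h.isSeparable
  refine le_antisymm (fun z hz => ?_) ?_
  · let B : PowerBasis K K' := (IntermediateField.adjoin.powerBasis (IsIntegral.of_finite K θ)).map
      ((IntermediateField.equivOfEq h.gen).trans IntermediateField.topEquiv)
    have hBgen : B.gen = θ := by simp [B]
    have hint : IsIntegral P.O B.gen := hBgen ▸ h.isIntegral
    have hmem := Algebra.discr_mul_isIntegral_mem_adjoin (K := K) hint hz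
    rw [hBgen] at hmem
    obtain ⟨a, b, hab⟩ := h.sep
    have hdmap : (derivative f).map P.O.subtype = derivative (minpoly K θ) := by
      rw [← h.map_eq, derivative_map]
    have hprod : aeval θ b * aeval θ (derivative f) = 1 := by
      have := congrArg (aeval θ) hab
      rwa [map_add, map_mul, map_mul, map_one, h.aeval_eq_zero, mul_zero, zero_add] at this
    have hd : aeval θ (derivative f) = aeval θ (derivative (minpoly K θ)) := by
      rw [← hdmap, ← aeval_map_algebraMap K θ (derivative f)]
      rfl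
    obtain ⟨u, hu⟩ := IsIntegrallyClosed.isIntegral_iff.mp
      (Algebra.isIntegral_norm (R := P.O) K
        (adjoin_le_integralClosure h.isIntegral (aeval_mem_adjoin_singleton P.O θ) :
          IsIntegral P.O (aeval θ b)))
    obtain ⟨w, hw⟩ := IsIntegrallyClosed.isIntegral_iff.mp
      (Algebra.isIntegral_norm (R := P.O) K
        (adjoin_le_integralClosure h.isIntegral
          (aeval_mem_adjoin_singleton P.O θ) :
          IsIntegral P.O (aeval θ (derivative f))))
    have huw : algebraMap P.O K (u * w) = 1 := by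
      rw [map_mul, hu, hw, ← map_mul, hprod, map_one]
    have hwu : IsUnit w := IsUnit.of_mul_eq_one u
      (IsFractionRing.injective P.O K (by rw [mul_comm, huw, map_one]))
    have hdisc : ∃ ε : P.O, IsUnit ε ∧ algebraMap P.O K ε = Algebra.discr K B.basis := by
      refine ⟨(-1) ^ (Module.finrank K K' * (Module.finrank K K' - 1) / 2) * w,
        (isUnit_one.neg.pow _).mul hwu, ?_⟩
      rw [Algebra.discr_powerBasis_eq_norm, hBgen, map_mul, map_pow, map_neg, map_one, hw, hd]
    obtain ⟨ε, hε, hεd⟩ := hdisc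
    rw [← hεd, algebraMap_smul] at hmem
    have := Subalgebra.smul_mem _ hmem ((hε.unit⁻¹ : P.Oˣ) : P.O)
    rwa [smul_smul, IsUnit.val_inv_mul, one_smul] at this
  · rw [Algebra.adjoin_le_iff, Set.singleton_subset_iff]
    exact h.isIntegral

omit h in
/-- An integral element approximating `y` at `Q` and zero at the other places over `P`. -/
theorem exists_integral_approx (hF : IsFF k K) {Q : Place k K'} (hQ : IsOver Q P) {y : K'}
    (hy : Q.1 y ≤ 1) :
    ∃ z ∈ integralClosure P.O K', Q.1 (z - y) ≤ exp (-1) ∧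
      ∀ R : Place k K', IsOver R P → R ≠ Q → R.1 z ≤ exp (-1) := by
  classical
  obtain ⟨z, hz⟩ := exists_val_sub_le (hF.above P) (fun R => if R = Q then y else 0) (fun _ => -1)
  have h1 : Q.1 (z - y) ≤ exp (-1) := by simpa using hz Q (hF.mem_above.mpr hQ)
  have h2 : ∀ R : Place k K', IsOver R P → R ≠ Q → R.1 z ≤ exp (-1) := fun R hR hne => by
    simpa [hne] using hz R (hF.mem_above.mpr hR)
  refine ⟨z, (hF.mem_integralClosure_iff P z).mpr fun R hR => ?_, h1, h2⟩
  by_cases hne : R = Q
  · subst hne
    rw [show z = (z - y) + y by ring]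
    exact Valuation.map_add_le _ (h1.trans (exp_le_exp.mpr (by norm_num) |>.trans_eq exp_zero)) hy
  · exact (h2 R hR hne).trans (exp_le_exp.mpr (by norm_num) |>.trans_eq exp_zero)

/-- Places over `P` are unramified. -/
theorem isOverWith_one (hF : IsFF k K) {Q : Place k K'} (hQ : IsOver Q P) : IsOverWith Q P 1 := by
  classical
  have he := isOverWith_ramIdx hQ
  suffices ramIdx Q P = 1 by rwa [this] at he
  by_contra hne
  have he2 : 2 ≤ ramIdx Q P := by have := overWith_pos he; omega
  obtain ⟨π, hπ⟩ := exists_val_eq_exp P (-1)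
  obtain ⟨t, ht⟩ := exists_val_eq_exp Q (-1)
  obtain ⟨z, hz, hzQ, hzR⟩ := exists_integral_approx hF hQ (y := t)
    (by rw [ht, ← exp_zero, exp_le_exp]; omega)
  -- replace by an element with value exactly `exp (-1)` at `Q`
  obtain ⟨z', hz'⟩ := exists_val_sub_le (hF.above P) (fun R => if R = Q then t else 0)
    (fun R => if R = Q then -2 else -1)
  have hQt : Q.1 z' = exp (-1) := by
    have h1 : Q.1 (z' - t) ≤ exp (-2) := by simpa using hz' Q (hF.mem_above.mpr hQ)
    rw [show z' = t + (z' - t) by ring, Valuation.map_add_eq_of_lt_left, ht]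
    rw [ht]; exact h1.trans_lt (exp_lt_exp.mpr (by omega))
  have hall : ∀ R : Place k K', IsOver R P → R.1 z' ≤ exp (-1) := by
    intro R hR
    by_cases hne' : R = Q
    · subst hne'; exact hQt.le
    · simpa [hne'] using hz' R (hF.mem_above.mpr hR)
  clear hz hzQ hzR z
  have hint : ∀ w : K', (∀ R : Place k K', IsOver R P → R.1 w ≤ 1) →
      ∃ g : P.O[X], aeval θ g = w := by
    intro w hw
    have := (hF.mem_integralClosure_iff P w).mpr hw
    rw [h.integralClosure_eq, Algebra.adjoin_singleton_eq_range_aeval] at this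
    exact this
  have hle1 : exp (-1 : ℤ) ≤ 1 := exp_zero (M := ℤ) ▸ exp_le_exp.mpr (by omega)
  obtain ⟨g, hg⟩ := hint z' fun R hR => (hall R hR).trans hle1
  set N := (hF.above P).sup fun R : Place k K' => ramIdx R P with hN
  obtain ⟨w, hw⟩ := hint (z' ^ N / algebraMap K K' π) fun R hR => by
    rw [map_div₀, map_pow, isOverWith_ramIdx hR π, hπ, ← exp_nsmul]
    refine (div_le_one₀ exp_pos).mpr ((pow_le_pow_left₀ zero_le (hall R hR) N).trans ?_)
    rw [← exp_nsmul, exp_le_exp, nsmul_eq_mul, nsmul_eq_mul]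
    have : ramIdx R P ≤ N := Finset.le_sup (f := fun R : Place k K' => ramIdx R P) (hF.mem_above.mpr hR)
    push_cast
    omega
  have hπO : P.1 π ≤ 1 := hπ.trans_le hle1
  have hπ0 : π ≠ 0 := fun e => exp_ne_zero (a := (-1 : ℤ)) (by rw [← hπ, e, map_zero])
  have hπK' : algebraMap P.O K' ⟨π, hπO⟩ = algebraMap K K' π := algebraMap_O_apply _
  have h0 : aeval θ (g ^ N - C ⟨π, hπO⟩ * w) = 0 := by
    rw [map_sub, map_pow, map_mul, aeval_C, hg, hw, hπK',
      mul_div_cancel₀ _ (by simpa using hπ0), sub_self]
  have hdvd : f ∣ g ^ N - C ⟨π, hπO⟩ * w := by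
    rw [← Polynomial.map_dvd_map P.O.subtype Subtype.val_injective h.monic, h.map_eq]
    refine minpoly.dvd K θ ?_
    rw [← h0]
    exact aeval_map_algebraMap K θ _
  set res := IsLocalRing.residue P.O
  have hπm : res ⟨π, hπO⟩ = 0 := (residue_eq_zero_iff P _).mpr (hπ.trans_lt
    (exp_zero (M := ℤ) ▸ exp_lt_exp.mpr (by omega)))
  have hd2 : f.map res ∣ (g.map res) ^ N := by
    have := Polynomial.map_dvd res hdvd
    simpa [Polynomial.map_sub, Polynomial.map_mul, hπm] using this
  have hd3 : f.map res ∣ g.map res := (h.sep.map.squarefree).isRadical N _ hd2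
  obtain ⟨c₀, hc₀⟩ := hd3
  obtain ⟨c, rfl⟩ := Polynomial.map_surjective res IsLocalRing.residue_surjective c₀
  have hcoef : ∀ i, ∃ d : P.O, (g - f * c).coeff i = ⟨π, hπO⟩ * d := by
    intro i
    have hlt : P.1 ((g - f * c).coeff i : K) < 1 := by
      rw [← residue_eq_zero_iff, ← coeff_map, Polynomial.map_sub, Polynomial.map_mul, hc₀, sub_self,
        coeff_zero]
    refine ⟨⟨((g - f * c).coeff i : K) / π, ?_⟩, Subtype.ext (mul_div_cancel₀ _ hπ0).symm⟩
    show P.1 _ ≤ 1
    rw [map_div₀, hπ, div_le_one₀ exp_pos]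
    exact lt_one_iff_le_exp_neg_one.mp hlt
  obtain ⟨d, hd⟩ := Polynomial.C_dvd_iff_dvd_coeff (⟨π, hπO⟩ : P.O) (g - f * c) |>.mpr hcoef
  have hz'eq : z' = algebraMap K K' π * aeval θ d := by
    have := congrArg (aeval θ) hd
    rwa [map_sub, map_mul, h.aeval_eq_zero, zero_mul, sub_zero, hg, map_mul, aeval_C, hπK'] at this
  have hdle : Q.1 (aeval θ d) ≤ 1 := by
    refine (hF.mem_integralClosure_iff P _).mp ?_ Q hQ
    rw [h.integralClosure_eq]
    exact aeval_mem_adjoin_singleton P.O θ
  have : Q.1 z' ≤ exp (-(ramIdx Q P : ℤ)) := by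
    rw [hz'eq, map_mul, he π, hπ, ← exp_nsmul]
    refine (mul_le_of_le_one_right' hdle).trans_eq ?_
    simp
  rw [hQt, exp_le_exp] at this
  omega

/-- The residue field at `Q` is generated by the image of `θ`. -/
theorem isSeparable_residue (hF : IsFF k K) {Q : Place k K'} (hQ : IsOver Q P)
    [Algebra.IsSeparable k (IsLocalRing.ResidueField P.O)] :
    Algebra.IsSeparable k (IsLocalRing.ResidueField Q.O) := by
  classical
  letI : Algebra (IsLocalRing.ResidueField P.O) (IsLocalRing.ResidueField Q.O) := (resMap hQ).toAlgebra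
  haveI : IsScalarTower k (IsLocalRing.ResidueField P.O) (IsLocalRing.ResidueField Q.O) :=
    IsScalarTower.of_algebraMap_eq fun c => (resMap_algebraMap hQ c).symm
  have hθQ : Q.1 θ ≤ 1 := (hF.mem_integralClosure_iff P θ).mp h.isIntegral Q hQ
  set b := IsLocalRing.residue Q.O ⟨θ, hθQ⟩ with hb
  have key : ∀ g : P.O[X], ∃ hg : Q.1 (aeval θ g) ≤ 1,
      IsLocalRing.residue Q.O ⟨aeval θ g, hg⟩ = aeval b (g.map (IsLocalRing.residue P.O)) := by
    intro g
    have hcoe : ((g.eval₂ (inclO hQ) ⟨θ, hθQ⟩ : Q.O) : K') = aeval θ g := by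
      rw [show ((g.eval₂ (inclO hQ) ⟨θ, hθQ⟩ : Q.O) : K') =
        g.eval₂ (Q.O.subtype.comp (inclO hQ)) θ from hom_eval₂ g (inclO hQ) Q.O.subtype _, aeval_def]
      congr 1
      exact RingHom.ext fun a => (algebraMap_O_apply a).symm
    refine ⟨hcoe ▸ (g.eval₂ (inclO hQ) ⟨θ, hθQ⟩).2, ?_⟩
    rw [show (⟨aeval θ g, _⟩ : Q.O) = g.eval₂ (inclO hQ) ⟨θ, hθQ⟩ from Subtype.ext hcoe.symm,
      aeval_def, eval₂_map, hom_eval₂, hb]
    rfl
  have hroot : aeval b (f.map (IsLocalRing.residue P.O)) = 0 := by
    obtain ⟨hg, he⟩ := key f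
    rw [← he, residue_eq_zero_iff]
    simp [h.aeval_eq_zero]
  have hsep : IsSeparable (IsLocalRing.ResidueField P.O) b :=
    h.sep.map.of_dvd (minpoly.dvd _ b hroot)
  haveI : Algebra.IsSeparable (IsLocalRing.ResidueField P.O) (IsLocalRing.ResidueField Q.O) := by
    have htop : IntermediateField.adjoin (IsLocalRing.ResidueField P.O) ({b} : Set _) = ⊤ := by
      refine eq_top_iff.mpr fun r _ => ?_
      obtain ⟨⟨y, hy⟩, rfl⟩ := IsLocalRing.residue_surjective r
      obtain ⟨z, hz, hzy, -⟩ := exists_integral_approx hF hQ (y := y) hy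
      rw [h.integralClosure_eq, Algebra.adjoin_singleton_eq_range_aeval] at hz
      obtain ⟨g, rfl⟩ := hz
      obtain ⟨hg, he⟩ := key g
      have hyz : IsLocalRing.residue Q.O ⟨y, hy⟩ = IsLocalRing.residue Q.O ⟨aeval θ g, hg⟩ := by
        rw [residue_eq_iff, show y - aeval θ g = -(aeval θ g - y) by ring, Valuation.map_neg]
        exact lt_one_iff_le_exp_neg_one.mpr hzy
      rw [hyz, he]
      exact IntermediateField.algebra_adjoin_le_adjoin _ _ (aeval_mem_adjoin_singleton _ b)
    have := (IntermediateField.isSeparable_adjoin_simple_iff_isSeparable _ _).mpr hsep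
    rw [htop] at this
    exact AlgEquiv.Algebra.isSeparable IntermediateField.topEquiv
  exact Algebra.IsSeparable.trans k (IsLocalRing.ResidueField P.O) _

end GoodGen

omit [Algebra P.O K'] [IsScalarTower P.O K K'] in
/-- A generator of a separable extension is good at all but finitely many places. -/
theorem finite_not_good (hF : IsFF k K) (hsep : IsSeparable K θ)
    (hgen : IntermediateField.adjoin K ({θ} : Set K') = ⊤) :
    {P : Place k K | ¬ ∃ f : P.O[X], GoodGen P θ f}.Finite := by
  classical
  obtain ⟨a, b, hab⟩ := hsep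
  set g := minpoly K θ
  let S : Finset K := g.coeffs ∪ a.coeffs ∪ b.coeffs
  refine (S.finite_toSet.biUnion fun s _ => hF.finite_support_ord s).subset fun P hP => ?_
  by_contra hc
  simp only [Set.mem_iUnion, Finset.mem_coe, Function.mem_support, not_exists, not_not] at hc
  have hle : ∀ s ∈ S, P.1 s ≤ 1 := fun s hs => by
    by_cases h0 : s = 0
    · simp [h0]
    · rw [val_eq_exp_neg_ord P h0, hc s hs, neg_zero, exp_zero]
  have hmem : ∀ q : K[X], q.coeffs ⊆ S → ∃ q' : P.O[X], q'.map P.O.subtype = q := by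
    intro q hq
    refine (mem_lifts q).mp ((lifts_iff_coeff_lifts q).mpr fun n => ?_)
    by_cases hn : q.coeff n = 0
    · exact ⟨0, by simp [hn]⟩
    · exact ⟨⟨q.coeff n, hle _ (hq (coeff_mem_coeffs hn))⟩, rfl⟩
  obtain ⟨f, hf⟩ := hmem g (fun x hx => Finset.mem_union_left _ (Finset.mem_union_left _ hx))
  obtain ⟨a', ha'⟩ := hmem a (fun x hx => Finset.mem_union_left _ (Finset.mem_union_right _ hx))
  obtain ⟨b', hb'⟩ := hmem b (fun x hx => Finset.mem_union_right _ hx)
  refine hP ⟨f, hgen, ?_, ⟨a', b', ?_⟩, hf⟩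
  · refine Polynomial.monic_of_injective (f := P.O.subtype) Subtype.val_injective ?_
    rw [hf]
    exact minpoly.monic (IsIntegral.of_finite K θ)
  · apply Polynomial.map_injective P.O.subtype Subtype.val_injective
    rw [Polynomial.map_add, Polynomial.map_mul, Polynomial.map_mul, Polynomial.map_one, ← derivative_map,
      hf, ha', hb']
    exact hab

end Groth.FunFld1
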