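import Groth.Agent.FunFld1.Geometric
import Groth.Agent.FunFld1.Unramified
import Mathlib.FieldTheory.PurelyInseparable.Basic
import Mathlib.FieldTheory.Finite.Basic

/-!
Purely inseparable fibres, unramified separable places, places with separable residue fields.
-/

set_option linter.style.haveILetI false
set_option linter.unusedSectionVars false

open FunFld WithZero
open scoped IntermediateField

namespace Groth.FunFld1

section PI

variable {k K K' : Type*} [Field k] [Field K] [Field K'] [Algebra k K] [Algebra K K'] [Algebra k K']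
  [IsScalarTower k K K'] [FiniteDimensional K K']

/-- A purely inseparable extension has one place over each place. -/
theorem over_unique_of_isPurelyInseparable [IsPurelyInseparable K K'] {P : Place k K}
    {Q Q' : Place k K'} (h : IsOver Q P) (h' : IsOver Q' P) : Q = Q' := by
  let q := ringExpChar K
  refine Place.eq_of_forall_le_one Q Q' fun y hy => ?_
  obtain ⟨n, a, ha⟩ := IsPurelyInseparable.pow_mem K q y
  have hne : q ^ n ≠ 0 := pow_ne_zero _ (expChar_pos K q).ne'
  have h1 : Q.1 (algebraMap K K' a) ≤ 1 := by
    rw [ha, map_pow]; exact pow_le_one₀ zero_le hy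
  have h2 := (over_le_one_iff h' a).mpr ((over_le_one_iff h a).mp h1)
  rw [ha, map_pow] at h2
  exact (pow_le_one_iff hne).mp h2

/-- In a purely inseparable extension a separable residue field does not grow. -/
theorem deg_eq_of_isPurelyInseparable [IsPurelyInseparable K K'] {P : Place k K}
    {Q : Place k K'} (h : IsOver Q P) [Algebra.IsSeparable k (IsLocalRing.ResidueField Q.O)] :
    Q.deg = P.deg := by
  letI : Algebra (IsLocalRing.ResidueField P.O) (IsLocalRing.ResidueField Q.O) := (resMap h).toAlgebra
  haveI htower : IsScalarTower k (IsLocalRing.ResidueField P.O) (IsLocalRing.ResidueField Q.O) :=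
    IsScalarTower.of_algebraMap_eq fun c => (resMap_algebraMap h c).symm
  haveI : Algebra.IsSeparable (IsLocalRing.ResidueField P.O) (IsLocalRing.ResidueField Q.O) :=
    Algebra.isSeparable_tower_top_of_isSeparable k _ _
  let q := ringExpChar K
  haveI : ExpChar (IsLocalRing.ResidueField P.O) q := by
    haveI : ExpChar k q := (RingHom.expChar_iff (algebraMap k K) (algebraMap k K).injective q).mpr inferInstance
    exact expChar_of_injective_algebraMap (algebraMap k (IsLocalRing.ResidueField P.O)).injective q
  haveI : IsPurelyInseparable (IsLocalRing.ResidueField P.O) (IsLocalRing.ResidueField Q.O) := by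
    refine (isPurelyInseparable_iff_pow_mem _ q).mpr fun r => ?_
    obtain ⟨⟨y, hy⟩, rfl⟩ := IsLocalRing.residue_surjective r
    obtain ⟨n, a, ha⟩ := IsPurelyInseparable.pow_mem K q y
    have ha1 : P.1 a ≤ 1 := (over_le_one_iff h a).mp (by rw [ha, map_pow]; exact pow_le_one₀ zero_le hy)
    refine ⟨n, IsLocalRing.residue P.O ⟨a, ha1⟩, ?_⟩
    rw [← map_pow]
    exact congrArg (IsLocalRing.residue Q.O) (Subtype.ext ha)
  have hbij : Function.Bijective (algebraMap (IsLocalRing.ResidueField P.O) (IsLocalRing.ResidueField Q.O)) :=
    ⟨(algebraMap (IsLocalRing.ResidueField P.O) (IsLocalRing.ResidueField Q.O)).injective, IsPurelyInseparable.surjective_algebraMap_of_isSeparable _ _⟩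
  exact (LinearEquiv.ofBijective (IsScalarTower.toAlgHom k (IsLocalRing.ResidueField P.O)
    (IsLocalRing.ResidueField Q.O)).toLinearMap hbij).finrank_eq.symm

/-- An unramified purely inseparable place with separable residue field forces `K' = K`. -/
theorem finrank_eq_one_of_unramified [IsPurelyInseparable K K'] (hF : IsFF k K) {P : Place k K}
    {Q : Place k K'} (h : IsOverWith Q P 1) [Algebra.IsSeparable k (IsLocalRing.ResidueField Q.O)] :
    Module.finrank K K' = 1 := by
  classical
  have ho := overWith_isOver h
  have hsum := hF.sum_ramIdx_deg (K' := K') P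
  have habove : hF.above P = {Q} := by
    ext R
    rw [hF.mem_above, Finset.mem_singleton]
    exact ⟨fun hR => over_unique_of_isPurelyInseparable hR ho, fun e => e ▸ ho⟩
  rw [habove, Finset.sum_singleton, ramIdx_eq h, one_mul, deg_eq_of_isPurelyInseparable ho] at hsum
  exact Nat.eq_of_mul_eq_mul_right (hF.deg_pos P) (by rw [one_mul]; exact hsum.symm)

end PI

section SimpleField

variable {k K : Type*} [Field k] [Field K] [Algebra k K]

theorem adjoin_gen_self (x : K) :
    IntermediateField.adjoin k ({IntermediateField.AdjoinSimple.gen k x} : Set k⟮x⟯) = ⊤ := by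
  apply IntermediateField.map_injective k⟮x⟯.val
  rw [IntermediateField.adjoin_map, Set.image_singleton, ← AlgHom.fieldRange_eq_map,
    IntermediateField.fieldRange_val]
  rfl

theorem isFF_adjoin {x : K} (hx : Transcendental k x) : IsFF k k⟮x⟯ := by
  have htr : Transcendental k (IntermediateField.AdjoinSimple.gen k x) :=
    fun h => hx (h.algHom k⟮x⟯.val)
  refine ⟨_, htr, ?_⟩
  haveI : Module.Finite (IntermediateField.adjoin k ({IntermediateField.AdjoinSimple.gen k x} : Set k⟮x⟯))
      k⟮x⟯ := by
    exact Module.finite_of_finrank_pos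
      (by rw [IntermediateField.finrank_eq_one_iff_eq_top.mpr (adjoin_gen_self x)]; exact one_pos)
  exact this

/-- For infinite `k` the simple transcendental extension has infinitely many rational places. -/
theorem exists_rational_place {x : K} (hx : Transcendental k x) (c : k) :
    ∃ P : Place k k⟮x⟯, P.deg = 1 ∧
      P.1 (IntermediateField.AdjoinSimple.gen k x - algebraMap k k⟮x⟯ c) < 1 := by
  classical
  have hF := isFF_adjoin hx
  set y := IntermediateField.AdjoinSimple.gen k x - algebraMap k k⟮x⟯ c with hy
  have hy' : Transcendental k y := by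
    intro h
    refine hx ((?_ : IsAlgebraic k (IntermediateField.AdjoinSimple.gen k x)).algHom k⟮x⟯.val)
    have := h.add (isAlgebraic_algebraMap c)
    rwa [hy, sub_add_cancel] at this
  have hgen : IntermediateField.adjoin k ({y} : Set k⟮x⟯) = ⊤ := by
    refine top_le_iff.mp ((adjoin_gen_self x).ge.trans (IntermediateField.adjoin_simple_le_iff.mpr ?_))
    have : IntermediateField.AdjoinSimple.gen k x = y + algebraMap k k⟮x⟯ c := by rw [hy]; ring
    rw [this]
    exact add_mem (IntermediateField.mem_adjoin_simple_self k y) (IntermediateField.algebraMap_mem _ c)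
  obtain ⟨P, hP⟩ := hF.exists_zero_place hy'
  refine ⟨P, le_antisymm ?_ (hF.deg_pos P), hP⟩
  have h1 : Module.finrank (IntermediateField.adjoin k ({y} : Set k⟮x⟯)) k⟮x⟯ = 1 :=
    IntermediateField.finrank_eq_one_iff_eq_top.mpr hgen
  have h2 := hF.deg_zeroDiv_eq hy'
  rw [h1] at h2
  have hy0 : y ≠ 0 := fun e => hy' (e ▸ isAlgebraic_zero)
  have hpos : (1 : ℤ) ≤ zeroDiv k y P := by
    rw [hF.zeroDiv_apply]
    have := (val_lt_one_iff P hy0).mp hP
    omega
  have hle : Finsupp.single P (1 : ℤ) ≤ zeroDiv k y := by
    intro R
    rcases eq_or_ne R P with rfl | hne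
    · simpa using hpos
    · rw [Finsupp.single_eq_of_ne hne]; exact IsFF.zeroDiv_nonneg y R
  have := deg_mono hle
  rw [deg_single, h2] at this
  omega

theorem isSeparable_residue_of_deg_one {P : Place k K} (hP : P.deg = 1) :
    Algebra.IsSeparable k (IsLocalRing.ResidueField P.O) := by
  refine ⟨fun r => ?_⟩
  obtain ⟨c, hc⟩ := (finrank_eq_one_iff_of_nonzero' (1 : IsLocalRing.ResidueField P.O) one_ne_zero).mp hP r
  have h1 : algebraMap k (IsLocalRing.ResidueField P.O) c = r :=
    (Algebra.algebraMap_eq_smul_one c).trans hc
  exact h1 ▸ isSeparable_algebraMap c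

theorem isSeparable_residue_of_finite [Finite k] (hF : IsFF k K) (P : Place k K) :
    Algebra.IsSeparable k (IsLocalRing.ResidueField P.O) := by
  haveI : Module.Finite k (IsLocalRing.ResidueField P.O) := hF.finiteDimensional_residueField P
  haveI : PerfectField k := PerfectField.ofFinite
  have hint : ∀ r : IsLocalRing.ResidueField P.O, IsIntegral k r := fun r =>
    @IsIntegral.of_finite k (IsLocalRing.ResidueField P.O) _ _ _ (Module.finite_of_finrank_pos (hF.deg_pos P)) r
  exact ⟨fun r => PerfectField.separable_of_irreducible (minpoly.irreducible (hint r))⟩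

end SimpleField

section Main

variable {k K : Type*} [Field k] [Field K] [Algebra k K]

/-- A uniformizer at a place with separable residue field is separating. -/
theorem separating_of_uniformizer (hF : IsFF k K) {P : Place k K}
    [Algebra.IsSeparable k (IsLocalRing.ResidueField P.O)] {t : K}
    (ht : P.1 t = exp (-1)) :
    Transcendental k t ∧ Algebra.IsSeparable (IntermediateField.adjoin k ({t} : Set K)) K := by
  have htr : Transcendental k t := by
    refine transcendental_of_val_lt_one P (ne_zero_of_val_eq ht) ?_
    rw [ht, exp_lt_one]; omega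
  refine ⟨htr, ?_⟩
  haveI := hF.finiteDimensional htr
  have hFt := isFF_adjoin htr
  haveI : IsScalarTower k (separableClosure k⟮t⟯ K) K := IsScalarTower.of_algebraMap_eq fun _ => rfl
  have hFs : IsFF k (separableClosure k⟮t⟯ K) := hFt.ext
  obtain ⟨R, hR⟩ := hFs.exists_isOver P
  have he : ramIdx P R = 1 := by
    have h1 := isOverWith_ramIdx hR
    have h2 := h1 (algebraMap k⟮t⟯ (separableClosure k⟮t⟯ K) (IntermediateField.AdjoinSimple.gen k t))
    rw [← IsScalarTower.algebraMap_apply, IntermediateField.AdjoinSimple.algebraMap_gen, ht] at h2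
    set z := algebraMap k⟮t⟯ (separableClosure k⟮t⟯ K) (IntermediateField.AdjoinSimple.gen k t)
    have hz : z ≠ 0 := fun e => exp_ne_zero (h2.trans (by rw [e, map_zero, zero_pow (overWith_pos h1).ne']))
    rw [val_eq_exp_neg_ord R hz, ← exp_nsmul, exp_injective.eq_iff, nsmul_eq_mul] at h2
    have hdvd : (ramIdx P R : ℤ) ∣ 1 := ⟨R.ord z, by linarith⟩
    have := Int.eq_one_of_dvd_one (Int.natCast_nonneg _) hdvd
    exact_mod_cast this
  have h1 : IsOverWith P R 1 := he ▸ isOverWith_ramIdx hR
  haveI : IsPurelyInseparable (separableClosure k⟮t⟯ K) K := separableClosure.isPurelyInseparable _ _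
  have hfin := finrank_eq_one_of_unramified hFs h1
  have htop : separableClosure k⟮t⟯ K = ⊤ := IntermediateField.finrank_eq_one_iff_eq_top.mp hfin
  exact (separableClosure.eq_top_iff k⟮t⟯ K).mp htop

theorem D_ne_zero_of_uniformizer (hF : IsFF k K) {P : Place k K}
    [Algebra.IsSeparable k (IsLocalRing.ResidueField P.O)] {t : K}
    (ht : P.1 t = exp (-1)) : KaehlerDifferential.D k K t ≠ 0 := by
  obtain ⟨htr, hsep⟩ := separating_of_uniformizer hF ht
  exact (kaehler_of_separating htr).2

/-- There are infinitely many places with separable residue field. -/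
theorem infinite_separable_places
    (hF : IsFF k K) {x : K} (hx : Transcendental k x)
    [Algebra.IsSeparable (IntermediateField.adjoin k ({x} : Set K)) K] :
    {P : Place k K | Algebra.IsSeparable k (IsLocalRing.ResidueField P.O)}.Infinite := by
  classical
  haveI := hF.finiteDimensional hx
  have hFx := isFF_adjoin hx
  rcases finite_or_infinite k with hk | hk
  · have huniv : {P : Place k K | Algebra.IsSeparable k (IsLocalRing.ResidueField P.O)} = Set.univ := by
      ext P
      simp only [Set.mem_ofPred_eq, Set.mem_univ, iff_true]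
      exact isSeparable_residue_of_finite hF P
    rw [huniv]
    intro hfin
    -- an element with a pole cannot be integral at every place
    have hfu : (Set.univ : Set (Place k K)).Finite := hfin
    set S := hfu.toFinset
    obtain ⟨z, hz⟩ := exists_val_sub_le S (fun R => wt R 1) (fun _ => -1)
    have hzall : ∀ R : Place k K, R.1 z = exp 1 := by
      intro R
      have h := hz R (hfu.mem_toFinset.mpr (Set.mem_univ R))
      rw [show z = wt R 1 + (z - wt R 1) by ring, Valuation.map_add_eq_of_lt_left, val_wt]
      rw [val_wt]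
      exact h.trans_lt (exp_lt_exp.mpr (by omega))
    have hz0 : z ≠ 0 := by
      obtain ⟨R⟩ := hF.nonempty_place
      exact ne_zero_of_val_eq (hzall R)
    have hL : z⁻¹ ∈ L (0 : Divisor k K) := fun R => by
      rw [map_inv₀, hzall R, ← exp_neg]
      exact exp_le_exp.mpr (by simp)
    obtain ⟨R⟩ := hF.nonempty_place
    have halg := hF.isAlgebraic_of_mem_L0 hL
    have h1 := val_eq_one_of_isAlgebraic R halg (inv_ne_zero hz0)
    rw [map_inv₀, hzall R, inv_eq_one, exp_eq_one] at h1
    omega
  · obtain ⟨θ, hθ⟩ := Field.exists_primitive_element k⟮x⟯ K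
    have hbad := finite_not_good (K := k⟮x⟯) (K' := K) hFx (Algebra.IsSeparable.isSeparable k⟮x⟯ θ) hθ
    choose P hPd hPc using exists_rational_place (k := k) hx
    have hPinj : Function.Injective P := by
      intro c d hcd
      by_contra hne
      have h1 := hPc c
      have h2 := hPc d
      rw [hcd] at h1
      have h3 := (P d).1.map_sub (IntermediateField.AdjoinSimple.gen k x - algebraMap k k⟮x⟯ c)
        (IntermediateField.AdjoinSimple.gen k x - algebraMap k k⟮x⟯ d)
      rw [show IntermediateField.AdjoinSimple.gen k x - algebraMap k k⟮x⟯ c -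
        (IntermediateField.AdjoinSimple.gen k x - algebraMap k k⟮x⟯ d) = algebraMap k k⟮x⟯ (d - c) by
          rw [map_sub]; ring, val_algebraMap _ (sub_ne_zero.mpr (Ne.symm hne))] at h3
      exact absurd (h3.trans_lt (max_lt h1 h2)) (lt_irrefl 1)
    choose Q hQ using fun c => hFx.exists_over (K' := K) (P c)
    have hQinj : Function.Injective Q := fun c d e => hPinj (over_unique (hQ c) (e ▸ hQ d))
    have hcof : {c : k | ¬ ∃ f, GoodGen (P c) θ f}.Finite := hbad.preimage hPinj.injOn
    refine Set.Infinite.mono (s := Q '' {c : k | ¬ ∃ f, GoodGen (P c) θ f}ᶜ) ?_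
      ((hcof.infinite_compl).image hQinj.injOn)
    rintro _ ⟨c, hc, rfl⟩
    obtain ⟨f, hf⟩ := not_not.mp hc
    letI : Algebra (P c).O K := ((algebraMap k⟮x⟯ K).comp (P c).O.subtype).toAlgebra
    haveI : IsScalarTower (P c).O k⟮x⟯ K := IsScalarTower.of_algebraMap_eq fun _ => rfl
    haveI := isSeparable_residue_of_deg_one (hPd c)
    exact hf.isSeparable_residue hFx (hQ c)

end Main

end Groth.FunFld1
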