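import Groth.Agent.FunFld1.Geometric
import Groth.Agent.FunFld1.Residues
import Groth.Agent.FunFld1.AffineModel
import Mathlib.FieldTheory.PrimitiveElement

/-!
Generators of a separable extension inside a given subspace, over an infinite constant field.
-/

set_option linter.style.haveILetI false
set_option linter.unusedSectionVars false

open FunFld WithZero

namespace Groth.FunFld1

variable {k : Type*} [Field k] [Infinite k]

/-- A subspace not inside any of finitely many subspaces has a point outside all of them, and so
does each of its translates. -/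
theorem exists_translate_notMem {V : Type*} [AddCommGroup V] [Module k V] {ι : Type*} (s : Finset ι)
    (W : ι → Submodule k V) (U : Submodule k V) (hU : ∀ i ∈ s, ¬ U ≤ W i) (a : V) :
    ∃ u ∈ U, ∀ i ∈ s, a + u ∉ W i := by
  classical
  induction s using Finset.induction_on with
  | empty => exact ⟨0, U.zero_mem, by simp⟩
  | insert i s hi ih =>
    obtain ⟨u, hu, hus⟩ := ih fun l hl => hU l (Finset.mem_insert_of_mem hl)
    obtain ⟨v, hv, hvi⟩ := SetLike.not_le_iff_exists.mp (hU i (Finset.mem_insert_self i s))
    by_cases h : a + u ∈ W i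
    · have hfin : ({0} ∪ ⋃ l ∈ s, {t : k | a + (u + t • v) ∈ W l}).Finite := by
        refine (Set.finite_singleton _).union (s.finite_toSet.biUnion fun l hl => ?_)
        refine Set.Subsingleton.finite fun t₁ h₁ t₂ h₂ => ?_
        by_contra hne
        have h3 : (t₁ - t₂) • v ∈ W l := by
          have := (W l).sub_mem h₁ h₂
          rwa [add_sub_add_left_eq_sub, add_sub_add_left_eq_sub, ← sub_smul] at this
        have hvl : v ∈ W l := by
          have := (W l).smul_mem (t₁ - t₂)⁻¹ h3
          rwa [inv_smul_smul₀ (sub_ne_zero.mpr hne)] at this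
        refine hus l hl ?_
        have h4 := (W l).sub_mem h₁ ((W l).smul_mem t₁ hvl)
        rwa [← add_assoc, add_sub_cancel_right] at h4
      obtain ⟨t, ht⟩ := hfin.infinite_compl.nonempty
      simp only [Set.mem_compl_iff, Set.mem_union, Set.mem_singleton_iff, Set.mem_iUnion, not_or,
        not_exists] at ht
      refine ⟨u + t • v, U.add_mem hu (U.smul_mem t hv), fun l hl => ?_⟩
      rcases Finset.mem_insert.mp hl with rfl | hl'
      · intro hmem
        rw [← add_assoc] at hmem
        have h5 := (W l).sub_mem hmem h
        rw [add_sub_cancel_left] at h5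
        have := (W l).smul_mem t⁻¹ h5
        rw [inv_smul_smul₀ ht.1] at this
        exact hvi this
      · exact ht.2 l hl'
    · exact ⟨u, hu, fun l hl => (Finset.mem_insert.mp hl).elim (fun e => e ▸ h) (hus l)⟩

/-- A translate of a generating subspace contains a primitive element of a finite separable extension. -/
theorem exists_translate_generator {K : Type*} [Field K] [Algebra k K] (F : IntermediateField k K)
    [FiniteDimensional F K] [Algebra.IsSeparable F K] (U : Submodule k K) (a : K)
    (hU : ∀ E : IntermediateField F K, (U : Set K) ⊆ E → E = ⊤) :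
    ∃ u ∈ U, IntermediateField.adjoin F ({a + u} : Set K) = ⊤ := by
  classical
  haveI : Finite (IntermediateField F K) :=
    (Field.exists_primitive_element_iff_finite_intermediateField F K).mp ⟨inferInstance, Field.exists_primitive_element F K⟩
  haveI := Fintype.ofFinite (IntermediateField F K)
  obtain ⟨u, hu, hall⟩ := exists_translate_notMem
    ((Finset.univ : Finset (IntermediateField F K)).filter fun E => E ≠ ⊤)
    (fun E => (E.restrictScalars k).toSubalgebra.toSubmodule) U
    (fun E hE hle => (Finset.mem_filter.mp hE).2 (hU E hle)) a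
  refine ⟨u, hu, by_contra fun hne => hall _ (Finset.mem_filter.mpr ⟨Finset.mem_univ _, hne⟩) ?_⟩
  exact IntermediateField.mem_adjoin_simple_self F (a + u)

/-- A generating set contains a separating element when the constants are perfect. -/
theorem exists_mem_D_ne_zero {k K : Type*} [Field k] [Field K] [Algebra k K] {x : K}
    (hx : KaehlerDifferential.D k K x ≠ 0) {S : Set K} (hS : IntermediateField.adjoin k S = ⊤) :
    ∃ w ∈ S, KaehlerDifferential.D k K w ≠ 0 := by
  by_contra! h
  refine hx ?_
  have hmem : x ∈ IntermediateField.adjoin k S := hS ▸ IntermediateField.mem_top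
  clear hx
  induction hmem using IntermediateField.adjoin_induction with
  | mem w hw => exact h w hw
  | algebraMap c => exact Derivation.map_algebraMap _ c
  | add a b _ _ ha hb => rw [map_add, ha, hb, add_zero]
  | inv a _ ha => rw [Derivation.leibniz_inv, ha, smul_zero]
  | mul a b _ _ ha hb => rw [Derivation.leibniz, ha, hb, smul_zero, smul_zero, add_zero]

theorem transcendental_of_separating {k K : Type*} [Field k] [IsAlgClosed k] [Field K] [Algebra k K]
    (hF : IsFF k K) {x : K} [Algebra.IsSeparable (IntermediateField.adjoin k ({x} : Set K)) K] :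
    Transcendental k x := by
  intro hx
  obtain ⟨z, hz, -⟩ := hF
  haveI : Algebra.IsAlgebraic (IntermediateField.adjoin k ({x} : Set K)) K :=
    Algebra.IsSeparable.isAlgebraic _ _
  haveI : Algebra.IsAlgebraic k (IntermediateField.adjoin k ({x} : Set K)) :=
    IntermediateField.isAlgebraic_adjoin_simple hx.isIntegral
  exact hz ((Algebra.IsAlgebraic.trans k (IntermediateField.adjoin k ({x} : Set K)) K).isAlgebraic z)

theorem isFunctionField_adjoin {k K : Type*} [Field k] [IsAlgClosed k] [Field K] [Algebra k K]
    {x : K} (hx : Transcendental k x) : IsFunctionField k (IntermediateField.adjoin k ({x} : Set K)) :=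
  ⟨isFF_adjoin hx, fun y hy =>
    minpoly.mem_range_of_degree_eq_one k y
      (IsAlgClosed.degree_eq_one_of_irreducible k (minpoly.irreducible hy.isIntegral))⟩

end Groth.FunFld1

namespace Groth.FunFld1

open Polynomial in
/-- An unramified place over a rational place of the line: the coordinate is a parameter. -/
theorem val_sub_eq_of_surjective {k K : Type*} [Field k] [Field K] [Algebra k K] {x : K} {c : k}
    {Q : Place k K} (hc : Q.1 (x - algebraMap k K c) < 1)
    (hsur : Function.Surjective (Q.1.comap (algebraMap (IntermediateField.adjoin k ({x} : Set K)) K))) :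
    Q.1 (x - algebraMap k K c) = exp (-1) := by
  classical
  set v := Q.1 (x - algebraMap k K c) with hv
  have hx1 : Q.1 x ≤ 1 := by
    rw [show x = (x - algebraMap k K c) + algebraMap k K c by ring]
    exact Valuation.map_add_le _ hc.le (Q.2.1 c)
  obtain ⟨w, hw⟩ := hsur (exp (-1))
  have hwv : Q.1 (w : K) = exp (-1) := hw
  have hv0 : x - algebraMap k K c ≠ 0 := by
    intro h0
    have hbot : IntermediateField.adjoin k ({x} : Set K) = ⊥ :=
      IntermediateField.adjoin_simple_eq_bot_iff.mpr
        (IntermediateField.mem_bot.mpr ⟨c, (sub_eq_zero.mp h0).symm⟩)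
    obtain ⟨d, hd⟩ := IntermediateField.mem_bot.mp ((le_of_eq hbot) w.2)
    rw [← hd] at hwv
    rcases eq_or_ne d 0 with rfl | hd0
    · rw [map_zero, map_zero] at hwv
      exact exp_ne_zero hwv.symm
    · rw [val_algebraMap Q hd0, ← exp_zero, exp_injective.eq_iff] at hwv
      omega
  have hpoly : ∀ r : k[X], r ≠ 0 → ∃ m : ℕ, Q.1 (aeval x r) = v ^ m := by
    intro r hr
    obtain ⟨r₁, hr₁, hndvd⟩ := exists_eq_pow_rootMultiplicity_mul_and_not_dvd r hr c
    refine ⟨rootMultiplicity c r, ?_⟩
    conv_lhs => rw [hr₁]
    have hev : r₁.eval c ≠ 0 := fun h => hndvd (dvd_iff_isRoot.mpr h)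
    obtain ⟨g, hg⟩ := X_sub_C_dvd_sub_C_eval (p := r₁) (a := c)
    have he : aeval x r₁ = algebraMap k K (r₁.eval c) + (x - algebraMap k K c) * aeval x g := by
      have := congrArg (aeval x) hg
      rw [map_sub, aeval_C, map_mul, map_sub, aeval_X, aeval_C] at this
      rw [← this]
      ring
    have h1 : Q.1 (aeval x r₁) = 1 := by
      rw [he, Valuation.map_add_eq_of_lt_left, val_algebraMap Q hev]
      rw [val_algebraMap Q hev, map_mul]
      refine (mul_le_of_le_one_right' ?_).trans_lt hc
      exact IsAffine.le_one (y := fun _ : Unit => x) (fun _ => hx1)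
        (by rw [Set.range_const]; exact aeval_mem_adjoin_singleton k x)
    rw [map_mul, map_pow, map_mul, map_pow, map_sub, aeval_X, aeval_C, ← hv, h1, mul_one]
  obtain ⟨r, s, hrs⟩ := (IntermediateField.mem_adjoin_simple_iff k (w : K)).mp w.2
  have hr0 : r ≠ 0 := fun h => exp_ne_zero (hwv.symm.trans (by simp [hrs, h]))
  have hs0 : s ≠ 0 := fun h => exp_ne_zero (hwv.symm.trans (by simp [hrs, h]))
  obtain ⟨m, hm⟩ := hpoly r hr0
  obtain ⟨m', hm'⟩ := hpoly s hs0
  rw [hrs, map_div₀, hm, hm'] at hwv
  rw [hv, val_eq_exp_neg_ord Q hv0] at hwv hc ⊢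
  rw [← exp_nsmul, ← exp_nsmul, ← exp_sub, exp_injective.eq_iff, nsmul_eq_mul, nsmul_eq_mul] at hwv
  rw [exp_lt_one] at hc
  rw [exp_injective.eq_iff]
  rcases Int.eq_one_or_neg_one_of_mul_eq_one (u := Q.ord (x - algebraMap k K c)) (v := (m : ℤ) - m')
    (by linarith [hwv]) with h | h <;> omega

end Groth.FunFld1
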