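import Groth.Agent.FunFld1.RiemannRoch
import Mathlib.FieldTheory.IsAlgClosed.Basic

/-!
Degree-one places, elements with one simple pole, genus zero and genus one.
-/

set_option linter.style.haveILetI false

namespace Groth.FunFld1

open WithZero FunFld

variable {k K : Type*} [Field k] [Field K] [Algebra k K]

theorem deg_eq_one_of_isAlgClosed [IsAlgClosed k] (hF : IsFF k K) (P : Place k K) : P.deg = 1 := by
  haveI := hF.finiteDimensional_residueField P
  haveI : Algebra.IsIntegral k (IsLocalRing.ResidueField P.O) :=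
    ⟨fun z => @IsIntegral.of_finite k _ _ _ _ (hF.finiteDimensional_residueField P) z⟩
  let e := AlgEquiv.ofBijective (Algebra.ofId k (IsLocalRing.ResidueField P.O))
    IsAlgClosed.algebraMap_bijective_of_isIntegral
  exact e.toLinearEquiv.finrank_eq.symm.trans (Module.finrank_self k)

/-- At a place of degree one every integral element is congruent to a constant. -/
theorem exists_const_sub_lt_one {P : Place k K} (hP : P.deg = 1) {x : K} (hx : P.1 x ≤ 1) :
    ∃ c : k, P.1 (x - algebraMap k K c) < 1 := by
  have hone : (1 : IsLocalRing.ResidueField P.O) ≠ 0 := one_ne_zero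
  obtain ⟨c, hc⟩ := (finrank_eq_one_iff_of_nonzero' (K := k) _ hone).mp hP
    (IsLocalRing.residue P.O ⟨x, hx⟩)
  refine ⟨c, ?_⟩
  have h : IsLocalRing.residue P.O (⟨x, hx⟩ - algebraMap k P.O c) = 0 := by
    rw [map_sub, ← hc, sub_eq_zero]
    exact (Algebra.algebraMap_eq_smul_one c).symm
  exact (residue_eq_zero_iff P _).mp h

theorem IsFF.adjoin_eq_top_of_finrank_eq_one {x : K}
    (h : Module.finrank (IntermediateField.adjoin k ({x} : Set K)) K = 1) :
    IntermediateField.adjoin k ({x} : Set K) = ⊤ :=
  IntermediateField.finrank_eq_one_iff_eq_top.mp h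

theorem IsFF.deg_poleDiv_le_of_mem_L (hF : IsFF k K) {D : Divisor k K} (hD : 0 ≤ D) {x : K}
    (hx : x ∈ L D) : zeroDiv k x⁻¹ ≤ D := by
  intro P
  rw [hF.zeroDiv_apply, ord_inv]
  by_cases h0 : x = 0
  · simpa [h0] using hD P
  · have h1 := (val_le_exp_iff P h0 _).mp (hx P)
    have h2 := hD P
    simp only [Finsupp.coe_zero, Pi.zero_apply] at h2
    omega

theorem effective_deg_one (hF : IsFF k K) {E : Divisor k K} (hE : 0 ≤ E) (hd : E.deg = 1) :
    ∃ P : Place k K, P.deg = 1 ∧ E = Finsupp.single P 1 := by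
  classical
  obtain ⟨P, hP⟩ : ∃ P, E P ≠ 0 := by
    by_contra! hc
    rw [show E = 0 from Finsupp.ext hc, deg_zero] at hd
    omega
  have hle : Finsupp.single P 1 ≤ E := by
    intro Q
    rw [Finsupp.single_apply]
    have h2 := hE Q
    simp only [Finsupp.coe_zero, Pi.zero_apply] at h2
    split_ifs with e
    · subst e; omega
    · exact h2
  have h1 := deg_mono hle
  rw [deg_single, hd, one_mul] at h1
  have hP1 : P.deg = 1 := by have := hF.deg_pos P; omega
  exact ⟨P, hP1, (eq_of_le_of_deg_eq hF hle (by rw [deg_single, hd, hP1]; rfl)).symm⟩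

section FunctionField

variable (hK : IsFunctionField k K)
include hK

local notation "hF" => IsFF.of_isFunctionField hK

theorem transcendental_of_adjoin_eq_top {x : K}
    (h : IntermediateField.adjoin k ({x} : Set K) = ⊤) : Transcendental k x := by
  refine transcendental_of_notMem hK fun hx => ?_
  obtain ⟨⟨y, hy, -⟩, -⟩ := id hK
  have h1 : IntermediateField.adjoin k ({x} : Set K) = ⊥ := by
    rw [IntermediateField.adjoin_simple_eq_bot_iff]
    exact hx
  have h2 : y ∈ (⊥ : IntermediateField k K) := by rw [← h1, h]; trivial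
  obtain ⟨c, rfl⟩ := IntermediateField.mem_bot.mp h2
  exact hy (isAlgebraic_algebraMap c)

theorem finrank_le_of_mem_L {D : Divisor k K} (hD : 0 ≤ D) {x : K} (hx : x ∈ L D)
    (hc : x ∉ Set.range (algebraMap k K)) :
    (Module.finrank (IntermediateField.adjoin k ({x} : Set K)) K : ℤ) ≤ D.deg := by
  rw [← (hF).deg_poleDiv_eq (transcendental_of_notMem hK hc)]
  exact deg_mono ((hF).deg_poleDiv_le_of_mem_L hD hx)

theorem exists_nonconst_mem {D : Divisor k K} (h : 2 ≤ ell D) :
    ∃ x ∈ L D, x ∉ Set.range (algebraMap k K) := by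
  by_contra! hc
  have hle : L D ≤ L (0 : Divisor k K) := by
    rw [L_zero_eq hK]
    intro x hx
    obtain ⟨c, hc⟩ := hc x hx
    exact Submodule.mem_one.mpr ⟨c, hc⟩
  haveI := (hF).finiteDimensional_L (0 : Divisor k K)
  have := Submodule.finrank_mono hle
  have h0 := ell_zero_eq hK
  unfold ell at *
  omega

/-- A place of degree one carrying a nonconstant function with at most a simple pole there. -/
theorem rational_of_ell_single {P : Place k K} (hP : P.deg = 1)
    (h : 2 ≤ ell (Finsupp.single P (1 : ℤ))) :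
    ∃ x : K, IntermediateField.adjoin k ({x} : Set K) = ⊤ := by
  obtain ⟨x, hx, hc⟩ := exists_nonconst_mem hK h
  have hD : (0 : Divisor k K) ≤ Finsupp.single P 1 := Finsupp.single_nonneg.mpr zero_le_one
  have h1 := finrank_le_of_mem_L hK hD hx hc
  rw [deg_single, hP] at h1
  haveI := (hF).finiteDimensional (transcendental_of_notMem hK hc)
  have := Module.finrank_pos (R := IntermediateField.adjoin k ({x} : Set K)) (M := K)
  exact ⟨x, IsFF.adjoin_eq_top_of_finrank_eq_one (by omega)⟩

theorem exists_simple_pole_of_rational {x : K} (h : IntermediateField.adjoin k ({x} : Set K) = ⊤) :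
    ∃ P : Place k K, P.deg = 1 ∧ P.ord x = -1 ∧ ∀ Q : Place k K, Q ≠ P → 0 ≤ Q.ord x := by
  have hx := transcendental_of_adjoin_eq_top hK h
  have hd := (hF).deg_poleDiv_eq hx
  rw [IntermediateField.finrank_eq_one_iff_eq_top.mpr h] at hd
  obtain ⟨P, hP, hE⟩ := effective_deg_one (hF) (IsFF.zeroDiv_nonneg _) hd
  refine ⟨P, hP, ?_, fun Q hQ => ?_⟩
  · have h1 := DFunLike.congr_fun hE P
    rw [(hF).zeroDiv_apply, ord_inv, Finsupp.single_eq_same] at h1
    omega
  · have h1 := DFunLike.congr_fun hE Q
    rw [(hF).zeroDiv_apply, ord_inv, Finsupp.single_eq_of_ne hQ] at h1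
    omega

theorem genus_eq_zero_of_rational {x : K} (h : IntermediateField.adjoin k ({x} : Set K) = ⊤) :
    genus k K = 0 := by
  have hx := transcendental_of_adjoin_eq_top hK h
  obtain ⟨P, hP, hord, hQ⟩ := exists_simple_pole_of_rational hK h
  obtain ⟨N, hN⟩ := riemann_theorem hK
  set m : ℕ := N.toNat
  have hg := hN (Finsupp.single P (m : ℤ)) (by rw [deg_single, hP]; omega)
  have hli : LinearIndependent k (fun j : Fin (m + 1) => x ^ (j : ℕ)) := by
    have hinj : Function.Injective (Polynomial.aeval x : Polynomial k →ₐ[k] K) :=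
      transcendental_iff_injective.mp hx
    have h1 := ((Polynomial.basisMonomials k).linearIndependent.map'
      (Polynomial.aeval x : Polynomial k →ₐ[k] K).toLinearMap
      (LinearMap.ker_eq_bot.mpr hinj)).comp (fun j : Fin (m + 1) => (j : ℕ)) Fin.val_injective
    have e : (fun j : Fin (m + 1) => x ^ (j : ℕ)) =
        (⇑(Polynomial.aeval x : Polynomial k →ₐ[k] K).toLinearMap ∘
          ⇑(Polynomial.basisMonomials k)) ∘ fun j : Fin (m + 1) => (j : ℕ) := by
      ext j; simp
    rw [e]; exact h1
  have hx0 : x ≠ 0 := fun h0 => hx (h0 ▸ isAlgebraic_zero)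
  have hmem : ∀ j : Fin (m + 1), x ^ (j : ℕ) ∈ L (Finsupp.single P (m : ℤ)) := by
    intro j Q
    rw [map_pow, val_eq_exp_neg_ord Q hx0, ← exp_nsmul, exp_le_exp, nsmul_eq_mul]
    rcases eq_or_ne Q P with rfl | hne
    · rw [hord, Finsupp.single_eq_same]
      have := j.2
      omega
    · rw [Finsupp.single_eq_of_ne hne]
      have := hQ Q hne
      nlinarith
  haveI := (hF).finiteDimensional_L (Finsupp.single P (m : ℤ))
  have hli' : LinearIndependent k (fun j => (⟨_, hmem j⟩ : L (Finsupp.single P (m : ℤ)))) :=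
    LinearIndependent.of_comp (L (Finsupp.single P (m : ℤ))).subtype hli
  have h2 := hli'.fintype_card_le_finrank
  rw [Fintype.card_fin] at h2
  unfold delta ell at hg
  rw [deg_single, hP] at hg
  omega

theorem ell_single_one_eq_one (hg : 0 < genus k K) {P : Place k K} (hP : P.deg = 1) :
    ell (Finsupp.single P (1 : ℤ)) = 1 := by
  have hD : (0 : Divisor k K) ≤ Finsupp.single P 1 := Finsupp.single_nonneg.mpr zero_le_one
  haveI := (hF).finiteDimensional_L (Finsupp.single P (1 : ℤ))
  have h1 : ell (0 : Divisor k K) ≤ ell (Finsupp.single P (1 : ℤ)) :=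
    Submodule.finrank_mono (L_mono hD)
  rw [ell_zero_eq hK] at h1
  by_contra h
  obtain ⟨x, hx⟩ := rational_of_ell_single hK hP (by omega)
  have := genus_eq_zero_of_rational hK hx
  omega

theorem eq_of_sub_eq_div (hg : 0 < genus k K) {P P' : Place k K} (_hP : P.deg = 1)
    (hP' : P'.deg = 1) {x : K} (hx : x ≠ 0)
    (h : Finsupp.single P 1 - Finsupp.single P' 1 = div k x) : P = P' := by
  classical
  have hmem : x ∈ L (Finsupp.single P' (1 : ℤ)) := by
    rw [(hF).mem_L_iff hx, ← h, add_sub_cancel]
    exact Finsupp.single_nonneg.mpr zero_le_one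
  by_cases hc : x ∈ Set.range (algebraMap k K)
  · obtain ⟨c, rfl⟩ := hc
    have h0 : div k (algebraMap k K c) = 0 := by
      ext Q
      rw [(hF).div_apply, ord_algebraMap]
      rfl
    rw [h0, sub_eq_zero] at h
    exact Finsupp.single_left_injective one_ne_zero h
  · have h1 := finrank_le_of_mem_L hK (Finsupp.single_nonneg.mpr zero_le_one) hmem hc
    rw [deg_single, hP'] at h1
    haveI := (hF).finiteDimensional (transcendental_of_notMem hK hc)
    have := Module.finrank_pos (R := IntermediateField.adjoin k ({x} : Set K)) (M := K)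
    have h2 := genus_eq_zero_of_rational hK
      (IsFF.adjoin_eq_top_of_finrank_eq_one (x := x) (by omega))
    omega

end FunctionField

end Groth.FunFld1
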