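import Groth.Agent.FunFld1.Extension
import Groth.Agent.Funfld2.Residue.Geometric
import Mathlib.RingTheory.Unramified.Field
import Mathlib.RingTheory.Etale.Field
import Mathlib.RingTheory.Etale.Kaehler
import Mathlib.RingTheory.Kaehler.Polynomial
import Mathlib.RingTheory.PolynomialAlgebra
import Mathlib.FieldTheory.RatFunc.AsPolynomial
import Mathlib.FieldTheory.PurelyInseparable.Tower
import Mathlib.RingTheory.IntegralClosure.IntegrallyClosed

/-!
Geometric function fields: differentials of a separating element and criteria for `IsGeometric`.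
-/

set_option linter.style.haveILetI false
set_option linter.unusedSectionVars false

open FunFld Polynomial
open scoped TensorProduct IntermediateField

namespace Groth.FunFld1

universe u

section Kaehler

variable {k K : Type*} [Field k] [Field K] [Algebra k K]

/-- For a separating transcendental `x`, `dx` is nonzero and the differentials have rank one. -/
theorem kaehler_of_separating {x : K} (hx : Transcendental k x)
    [Algebra.IsSeparable (IntermediateField.adjoin k ({x} : Set K)) K] :
    Module.finrank K (Ω[K⁄k]) = 1 ∧ KaehlerDifferential.D k K x ≠ 0 := by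
  let e : RatFunc k ≃ₐ[k] k⟮x⟯ := RatFunc.algEquivOfTranscendental x hx
  letI : Algebra k[X] k⟮x⟯ := (e.toAlgHom.comp (IsScalarTower.toAlgHom k k[X] (RatFunc k))).toRingHom.toAlgebra
  letI : Algebra k[X] K := ((algebraMap k⟮x⟯ K).comp (algebraMap k[X] k⟮x⟯)).toAlgebra
  haveI : IsScalarTower k[X] k⟮x⟯ K := IsScalarTower.of_algebraMap_eq fun _ => rfl
  haveI : IsScalarTower k k[X] k⟮x⟯ := IsScalarTower.of_algebraMap_eq fun c => by
    show algebraMap k k⟮x⟯ c = e (algebraMap k[X] (RatFunc k) (algebraMap k k[X] c))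
    rw [← IsScalarTower.algebraMap_apply k k[X] (RatFunc k) c, AlgEquiv.commutes]
  haveI : IsScalarTower k k[X] K := IsScalarTower.of_algebraMap_eq fun c => by
    rw [IsScalarTower.algebraMap_apply k[X] k⟮x⟯ K, ← IsScalarTower.algebraMap_apply k k[X] k⟮x⟯,
      ← IsScalarTower.algebraMap_apply k k⟮x⟯ K]
  haveI : IsLocalization (nonZeroDivisors k[X]) k⟮x⟯ := by
    refine IsLocalization.isLocalization_of_algEquiv (nonZeroDivisors k[X])
      (AlgEquiv.ofRingEquiv (f := e.toRingEquiv) fun p => ?_ : RatFunc k ≃ₐ[k[X]] k⟮x⟯)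
    rfl
  haveI : Algebra.FormallyEtale k[X] k⟮x⟯ :=
    Algebra.FormallyEtale.of_isLocalization (nonZeroDivisors k[X])
  haveI : Algebra.FormallyEtale k⟮x⟯ K := Algebra.FormallyEtale.of_isSeparable _ _
  haveI : Algebra.FormallyEtale k[X] K := Algebra.FormallyEtale.comp k[X] k⟮x⟯ K
  have h1 : Module.finrank K (Ω[K⁄k]) = 1 := by
    rw [← (KaehlerDifferential.tensorKaehlerEquivOfFormallyEtale k k[X] K).finrank_eq,
      Module.finrank_baseChange, (KaehlerDifferential.polynomialEquiv k).finrank_eq,
      Module.finrank_self]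
  refine ⟨h1, fun h => ?_⟩
  have hspan := Groth.Funfld2.Hasse.span_D_eq_top (k := k) x
  rw [h, Submodule.span_singleton_eq_bot.mpr rfl] at hspan
  rw [← finrank_top K (Ω[K⁄k]), ← hspan, finrank_bot] at h1
  exact one_ne_zero h1.symm

theorem finrank_kaehler_eq_one {k : Type u} {K : Type*} [Field k] [Field K] [Algebra k K]
    (hF : IsFF k K) (hg : IsGeometric k K) : Module.finrank K (Ω[K⁄k]) = 1 := by
  obtain ⟨x, hx, hsep⟩ := Groth.Funfld2.Residue.exists_separating hF hg
  exact (kaehler_of_separating hx).1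

theorem D_eq_zero_of_isAlgebraic_sep {x : K} (hx : x ∈ Set.range (algebraMap k K)) :
    KaehlerDifferential.D k K x = 0 := by
  obtain ⟨c, rfl⟩ := hx
  exact Derivation.map_algebraMap _ c

/-- In a geometric function field `dt ≠ 0` makes `t` separating. -/
theorem separating_of_D_ne_zero {k : Type u} {K : Type*} [Field k] [Field K] [Algebra k K]
    (hK : IsFunctionField k K) (hg : IsGeometric k K) {t : K}
    (ht : KaehlerDifferential.D k K t ≠ 0) :
    Transcendental k t ∧ Algebra.IsSeparable (IntermediateField.adjoin k ({t} : Set K)) K := by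
  have hF := IsFF.of_isFunctionField hK
  obtain ⟨x, -, hsep⟩ := Groth.Funfld2.Residue.exists_separating hF hg
  have htr : Transcendental k t := fun h => ht (D_eq_zero_of_isAlgebraic_sep (hK.2 t h))
  haveI := hF.finiteDimensional htr
  exact ⟨htr, Groth.Funfld2.Hasse.isSeparable_of_D_ne_zero (x := x) t ht⟩

end Kaehler

section Tensor

theorem isReduced_tensor_of_isField {F L K : Type*} [Field F] [CommRing L] [Algebra F L] [Field K]
    [Algebra F K] [Algebra.FormallyUnramified F K] [Algebra.EssFiniteType F K] (hL : IsField L) :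
    IsReduced (L ⊗[F] K) := by
  let _ : Field L := hL.toField
  exact Algebra.FormallyUnramified.isReduced_of_field L _

variable {k k' K : Type*} [Field k] [Field k'] [Field K] [Algebra k k'] [Algebra k K]

/-- A domain `k' ⊗ K` with `k'` finite over `k` is a field. -/
theorem isField_tensor_of_isDomain [FiniteDimensional k k'] (h : IsDomain (K ⊗[k] k')) :
    IsField (k' ⊗[k] K) :=
  MulEquiv.isField (isField_of_isIntegral_of_isField' (R := K) (S := K ⊗[k] k') (Field.toIsField K))
    (Algebra.TensorProduct.comm k k' K).toRingEquiv.toMulEquiv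

/-- If `k' ⊗ A` is a domain and `K` consists of fractions of `A`, then `k' ⊗ K` is a domain. -/
theorem isDomain_tensor_of_frac {A : Type*} [CommRing A] [Algebra k A] (f : A →ₐ[k] K)
    (hf : Function.Injective f) (hfr : ∀ y : K, ∃ a d : A, f d ≠ 0 ∧ y * f d = f a)
    [IsDomain (k' ⊗[k] A)] : IsDomain (k' ⊗[k] K) := by
  set g : k' ⊗[k] A →ₐ[k] k' ⊗[k] K := Algebra.TensorProduct.map (AlgHom.id k k') f with hg
  have hginj : Function.Injective g :=
    Module.Flat.lTensor_preserves_injective_linearMap (M := k') f.toLinearMap hf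
  haveI : Nontrivial (k' ⊗[k] K) := hginj.nontrivial
  have hclear : ∀ r : k' ⊗[k] K, ∃ d : A, f d ≠ 0 ∧ r * ((1 : k') ⊗ₜ[k] f d) ∈ Set.range g := by
    intro r
    induction r using TensorProduct.induction_on with
    | zero => exact ⟨1, by rw [map_one]; exact one_ne_zero, 0, by rw [map_zero, zero_mul]⟩
    | tmul c y =>
      obtain ⟨a, d, hd, he⟩ := hfr y
      exact ⟨d, hd, c ⊗ₜ a, by
        rw [Algebra.TensorProduct.tmul_mul_tmul, mul_one, he, hg, Algebra.TensorProduct.map_tmul,
          AlgHom.id_apply]⟩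
    | add r s hr hs =>
      obtain ⟨d, hd, a, ha⟩ := hr
      obtain ⟨e, he, b, hb⟩ := hs
      refine ⟨d * e, by rw [map_mul]; exact mul_ne_zero hd he,
        a * ((1 : k') ⊗ₜ e) + b * ((1 : k') ⊗ₜ d), ?_⟩
      have h1 : ∀ x : A, g ((1 : k') ⊗ₜ x) = (1 : k') ⊗ₜ[k] f x := fun x => by
        rw [hg, Algebra.TensorProduct.map_tmul, AlgHom.id_apply]
      rw [map_add, map_mul, map_mul, h1, h1, ha, hb, map_mul]
      rw [show ((1 : k') ⊗ₜ[k] (f d * f e)) = ((1 : k') ⊗ₜ[k] f d) * ((1 : k') ⊗ₜ[k] f e) by
        rw [Algebra.TensorProduct.tmul_mul_tmul, mul_one]]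
      ring
  have hunit : ∀ d : A, f d ≠ 0 → IsUnit ((1 : k') ⊗ₜ[k] f d) := fun d hd =>
    (isUnit_iff_ne_zero.mpr hd).map (Algebra.TensorProduct.includeRight : K →ₐ[k] k' ⊗[k] K)
  haveI : NoZeroDivisors (k' ⊗[k] K) := by
    refine ⟨fun {r s} hrs => ?_⟩
    obtain ⟨d, hd, a, ha⟩ := hclear r
    obtain ⟨e, he, b, hb⟩ := hclear s
    have h0 : g (a * b) = 0 := by rw [map_mul, ha, hb, mul_mul_mul_comm, hrs, zero_mul]
    rcases mul_eq_zero.mp (hginj (h0.trans (map_zero g).symm)) with ha0 | hb0
    · left; rwa [ha0, map_zero, eq_comm, (hunit d hd).mul_left_eq_zero] at ha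
    · right; rwa [hb0, map_zero, eq_comm, (hunit e he).mul_left_eq_zero] at hb
  exact NoZeroDivisors.to_isDomain _

variable [FiniteDimensional k k']

/-- `k' ⊗ k(x)` is a field. -/
theorem isField_tensor_adjoin {x : K} (hx : Transcendental k x) :
    IsField (k' ⊗[k] (IntermediateField.adjoin k ({x} : Set K))) := by
  haveI : IsDomain (k' ⊗[k] k[X]) := MulEquiv.isDomain k'[X] (polyEquivTensor k k').symm.toRingEquiv.toMulEquiv
  let f : k[X] →ₐ[k] k⟮x⟯ := aeval (IntermediateField.AdjoinSimple.gen k x)
  have hc : ∀ p, (f p : K) = aeval x p := fun p =>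
    (aeval_algHom_apply (IntermediateField.val _) _ p).symm
  have hinj : Function.Injective f := fun p q h => transcendental_iff_injective.mp hx
    (by simpa only [hc] using congrArg (fun z : k⟮x⟯ => (z : K)) h)
  have hd : IsDomain (k' ⊗[k] k⟮x⟯) := by
    refine isDomain_tensor_of_frac f hinj fun y => ?_
    obtain ⟨r, s, h⟩ := (IntermediateField.mem_adjoin_simple_iff k _).1 y.2
    by_cases hs : aeval x s = 0
    · refine ⟨0, 1, by simp, Subtype.ext ?_⟩
      rw [hs, div_zero] at h
      simp [h]
    · refine ⟨r, s, fun e => hs (by rw [← hc, e]; rfl), Subtype.ext ?_⟩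
      rw [MulMemClass.coe_mul, hc, hc, h, div_mul_cancel₀ _ hs]
  exact isField_tensor_of_isDomain
    (MulEquiv.isDomain (k' ⊗[k] k⟮x⟯) (Algebra.TensorProduct.comm k k⟮x⟯ k').toRingEquiv.toMulEquiv)

/-- `k' ⊗ K` is reduced when `K/F` is finite separable and `k' ⊗ F` is a field. -/
theorem isReduced_tensor_of_tower {F : Type*} [Field F] [Algebra k F] [Algebra F K]
    [IsScalarTower k F K] [FiniteDimensional F K] [Algebra.IsSeparable F K]
    (hL : IsField (k' ⊗[k] F)) : IsReduced (k' ⊗[k] K) := by
  have hL' : IsField (F ⊗[k] k') :=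
    MulEquiv.isField hL (Algebra.TensorProduct.comm k F k').toRingEquiv.toMulEquiv
  haveI : Algebra.FormallyUnramified F K := Algebra.FormallyUnramified.of_isSeparable F K
  haveI := isReduced_tensor_of_isField (F := F) (L := F ⊗[k] k') (K := K) hL'
  let e1 : K ⊗[F] (F ⊗[k] k') ≃+* K ⊗[k] k' :=
    (Algebra.TensorProduct.cancelBaseChange k F K K k').toRingEquiv
  let e : k' ⊗[k] K ≃+* (F ⊗[k] k') ⊗[F] K :=
    ((Algebra.TensorProduct.comm k k' K).toRingEquiv.trans e1.symm).trans
      (Algebra.TensorProduct.comm F K (F ⊗[k] k')).toRingEquiv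
  exact isReduced_of_injective e e.injective

/-- `k' ⊗ K` is reduced when `K` has a separating element. -/
theorem isReduced_tensor_of_separating {x : K} (hx : Transcendental k x)
    [FiniteDimensional (IntermediateField.adjoin k ({x} : Set K)) K]
    [Algebra.IsSeparable (IntermediateField.adjoin k ({x} : Set K)) K] :
    IsReduced (k' ⊗[k] K) :=
  isReduced_tensor_of_tower (isField_tensor_adjoin hx)

end Tensor

section Closed

variable {k k' K : Type*} [Field k] [Field k'] [Field K] [Algebra k k'] [Algebra k K]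

/-- Minimal polynomials over `k` stay minimal over `K` when `k` is algebraically closed in `K`. -/
theorem minpoly_map_of_closed (hcl : ∀ y : K, IsAlgebraic k y → y ∈ Set.range (algebraMap k K))
    {L : Type*} [Field L] [Algebra K L] [Algebra k L] [IsScalarTower k K L] {θ : L}
    (hθ : IsIntegral k θ) : minpoly K θ = (minpoly k θ).map (algebraMap k K) := by
  have hθ' : IsIntegral K θ := hθ.tower_top
  obtain ⟨g, hg⟩ : ∃ g : k[X], g.map (algebraMap k K) = minpoly K θ := by
    refine (mem_lifts _).mp ((lifts_iff_coeff_lifts _).mpr fun n => ?_)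
    have h := integralClosure.mem_lifts_of_monic_of_dvd_map K (minpoly.monic hθ)
      (minpoly.monic hθ') (minpoly.dvd_map_of_isScalarTower k K θ)
    obtain ⟨a, ha⟩ := (lifts_iff_coeff_lifts _).mp h n
    exact hcl _ (ha ▸ a.2.isAlgebraic)
  have hg0 : g.Monic := monic_map_iff.mp (hg ▸ minpoly.monic hθ')
  have hgθ : aeval θ g = 0 := by rw [← aeval_map_algebraMap K, hg, minpoly.aeval]
  refine eq_of_monic_of_dvd_of_natDegree_le (minpoly.monic hθ') ((minpoly.monic hθ).map _)
    (minpoly.dvd_map_of_isScalarTower k K θ) ?_ |>.symm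
  rw [natDegree_map, ← hg, natDegree_map]
  exact natDegree_le_of_dvd (minpoly.dvd k θ hgθ) hg0.ne_zero

/-- `k' ⊗ K` is a field for simple `k'/k` and `k` algebraically closed in `K`. -/
theorem isField_tensor_of_simple [FiniteDimensional k k']
    (hcl : ∀ y : K, IsAlgebraic k y → y ∈ Set.range (algebraMap k K)) {θ : k'}
    (hθ : IntermediateField.adjoin k ({θ} : Set k') = ⊤) : IsField (k' ⊗[k] K) := by
  let σ : k' →ₐ[k] AlgebraicClosure K := IsAlgClosed.lift
  let g : K ⊗[k] k' →ₐ[K] AlgebraicClosure K :=
    Algebra.TensorProduct.lift (Algebra.ofId K _) σ fun _ _ => Commute.all _ _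
  have hi : IsIntegral k θ := IsIntegral.of_finite k θ
  have hi' : IsIntegral k (σ θ) := hi.map σ
  have hle : (IntermediateField.adjoin K ({σ θ} : Set (AlgebraicClosure K))).toSubalgebra ≤ g.range := by
    rw [IntermediateField.adjoin_simple_toSubalgebra_of_isAlgebraic hi'.tower_top.isAlgebraic,
      Algebra.adjoin_le_iff, Set.singleton_subset_iff]
    exact ⟨1 ⊗ₜ θ, by simp [g]⟩
  have hdim : Module.finrank K (K ⊗[k] k') ≤ Module.finrank K g.toLinearMap.range := by
    rw [Module.finrank_baseChange, ← IntermediateField.finrank_top' (F := k) (E := k'), ← hθ,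
      IntermediateField.adjoin.finrank hi, ← minpoly.algHom_eq σ σ.injective θ,
      ← natDegree_map (algebraMap k K), ← minpoly_map_of_closed hcl hi',
      ← IntermediateField.adjoin.finrank hi'.tower_top]
    haveI : FiniteDimensional K g.toLinearMap.range := inferInstance
    exact Submodule.finrank_mono
      (s := (IntermediateField.adjoin K ({σ θ} : Set (AlgebraicClosure K))).toSubalgebra.toSubmodule)
      (t := g.toLinearMap.range) fun z hz => hle hz
  have hinj : Function.Injective g := by
    have h := LinearMap.finrank_range_add_finrank_ker g.toLinearMap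
    have h0 : Module.finrank K (LinearMap.ker g.toLinearMap) = 0 := by omega
    exact LinearMap.ker_eq_bot.mp (Submodule.finrank_eq_zero.mp h0)
  exact isField_tensor_of_isDomain (hinj.isDomain g)

/-- `k' ⊗ K` is a field for separable `k'/k` and `k` algebraically closed in `K`. -/
theorem isField_tensor_of_isSeparable [FiniteDimensional k k'] [Algebra.IsSeparable k k']
    (hcl : ∀ y : K, IsAlgebraic k y → y ∈ Set.range (algebraMap k K)) : IsField (k' ⊗[k] K) := by
  obtain ⟨θ, hθ⟩ := Field.exists_primitive_element k k'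
  exact isField_tensor_of_simple hcl hθ

/-- `k' ⊗ K` is a field once it is reduced, for `k` algebraically closed in `K`. -/
theorem isField_tensor_of_isReduced [FiniteDimensional k k']
    (hcl : ∀ y : K, IsAlgebraic k y → y ∈ Set.range (algebraMap k K))
    [IsReduced (k' ⊗[k] K)] : IsField (k' ⊗[k] K) := by
  let S := separableClosure k k'
  letI := (isField_tensor_of_isSeparable (k' := S) hcl).toField
  let f : S ⊗[k] K →ₐ[k] k' ⊗[k] K := Algebra.TensorProduct.map S.val (AlgHom.id k K)
  let q := ringExpChar k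
  haveI : Nontrivial (k' ⊗[k] K) := (Algebra.TensorProduct.includeRight_injective (R := k) (A := k')
    (B := K) (algebraMap k k').injective).nontrivial
  haveI : ExpChar (k' ⊗[k] K) q := expChar_of_injective_algebraMap (algebraMap k (k' ⊗[k] K)).injective q
  haveI : ExpChar S q := expChar_of_injective_algebraMap (algebraMap k S).injective q
  have hup : ∀ (r : k' ⊗[k] K) (n m : ℕ), n ≤ m → r ^ q ^ n ∈ f.range → r ^ q ^ m ∈ f.range := by
    intro r n m hnm hr
    obtain ⟨d, rfl⟩ := Nat.exists_eq_add_of_le hnm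
    rw [pow_add, pow_mul]
    exact pow_mem hr _
  have key : ∀ r : k' ⊗[k] K, ∃ n : ℕ, r ^ q ^ n ∈ f.range := by
    intro r
    induction r using TensorProduct.induction_on with
    | zero => exact ⟨0, by simp⟩
    | tmul c y =>
      obtain ⟨n, s, hs⟩ := IsPurelyInseparable.pow_mem S q c
      exact ⟨n, s ⊗ₜ (y ^ q ^ n), by
        rw [Algebra.TensorProduct.tmul_pow, ← hs]; rfl⟩
    | add r s hr hs =>
      obtain ⟨n, hn⟩ := hr
      obtain ⟨m, hm⟩ := hs
      refine ⟨max n m, ?_⟩
      rw [add_pow_expChar_pow]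
      exact add_mem (hup r n _ (le_max_left _ _) hn) (hup s m _ (le_max_right _ _) hm)
  refine ⟨⟨0, 1, zero_ne_one⟩, mul_comm, fun {r} hr => ?_⟩
  obtain ⟨n, t, ht⟩ := key r
  have ht0 : t ≠ 0 := by
    rintro rfl
    exact hr (eq_zero_of_pow_eq_zero (ht.symm.trans (map_zero f)))
  have hu : IsUnit (r ^ q ^ n) := ht ▸ (isUnit_iff_ne_zero.mpr ht0).map f
  exact (isUnit_pow_iff (pow_ne_zero _ (expChar_pos k q).ne')).mp hu |>.exists_right_inv

end Closed

section Geometric

variable {k : Type u} {K : Type*} [Field k] [Field K] [Algebra k K]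

/-- A function field over a perfect field is geometric. -/
theorem isGeometric_of_perfectField [PerfectField k] (hK : IsFunctionField k K) :
    IsGeometric k K := by
  intro k' _ _ _
  exact isField_tensor_of_isSeparable hK.2

/-- A function field with a separating element is geometric. -/
theorem isGeometric_of_separating (hK : IsFunctionField k K) {x : K} (hx : Transcendental k x)
    [Algebra.IsSeparable (IntermediateField.adjoin k ({x} : Set K)) K] : IsGeometric k K := by
  haveI := (IsFF.of_isFunctionField hK).finiteDimensional hx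
  intro k' _ _ _
  haveI := isReduced_tensor_of_separating (k' := k') hx
  exact isField_tensor_of_isReduced hK.2

/-- The base field of a geometric extension is algebraically closed in it. -/
theorem IsGeometric.mem_range (hg : IsGeometric k K) {y : K} (hy : IsAlgebraic k y) :
    y ∈ Set.range (algebraMap k K) := by
  have hi : IsIntegral k y := hy.isIntegral
  haveI : Fact (Irreducible (minpoly k y)) := ⟨minpoly.irreducible hi⟩
  haveI : FiniteDimensional k (AdjoinRoot (minpoly k y)) :=
    (AdjoinRoot.powerBasis (minpoly.ne_zero hi)).finite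
  letI := (hg (AdjoinRoot (minpoly k y)) inferInstance).toField
  let φ : AdjoinRoot (minpoly k y) ⊗[k] K →ₐ[k] K := Algebra.TensorProduct.productMap
    (AdjoinRoot.liftAlgHom (minpoly k y) (Algebra.ofId k K) y (minpoly.aeval k y)) (AlgHom.id k K)
  have he : AdjoinRoot.root (minpoly k y) ⊗ₜ[k] (1 : K) =
      (1 : AdjoinRoot (minpoly k y)) ⊗ₜ[k] y := φ.toRingHom.injective <| by simp [φ]
  obtain ⟨f, hf⟩ : ∃ f : AdjoinRoot (minpoly k y) →ₗ[k] k, f 1 = 1 :=
    Module.Projective.exists_dual_eq_one (K := k) (V := AdjoinRoot (minpoly k y)) one_ne_zero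
  have h := congrArg ((TensorProduct.lid k K).toLinearMap ∘ₗ LinearMap.rTensor K f) he
  simp only [LinearMap.comp_apply, LinearMap.rTensor_tmul, LinearEquiv.coe_coe, TensorProduct.lid_tmul,
    hf, one_smul] at h
  exact ⟨f (AdjoinRoot.root _), by rw [Algebra.algebraMap_eq_smul_one]; exact h⟩

end Geometric

end Groth.FunFld1
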