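import Groth.Agent.FunFld1.Geometric
import Mathlib.RingTheory.Polynomial.GaussLemma
import Mathlib.FieldTheory.KummerPolynomial
import Mathlib.FieldTheory.PurelyInseparable.PerfectClosure

/-!
The subfield `k(K^p)` of a geometric function field.
-/

set_option linter.style.haveILetI false
set_option linter.unusedSectionVars false

open FunFld
open scoped IntermediateField

namespace Groth.FunFld1

universe u

variable {k : Type u} {K : Type*} [Field k] [Field K] [Algebra k K] (p : ℕ) [Fact p.Prime] [CharP K p]

/-- `k(K^p)`. -/
abbrev frobField (k K : Type*) [Field k] [Field K] [Algebra k K] (p : ℕ) : IntermediateField k K :=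
  IntermediateField.adjoin k (Set.range fun y : K => y ^ p)

theorem pow_mem_frobField (y : K) : y ^ p ∈ frobField k K p :=
  IntermediateField.subset_adjoin k _ ⟨y, rfl⟩

theorem D_eq_zero_of_mem_frobField {y : K} (hy : y ∈ frobField k K p) :
    KaehlerDifferential.D k K y = 0 := by
  induction hy using IntermediateField.adjoin_induction with
  | mem z hz =>
    obtain ⟨w, rfl⟩ := hz
    show KaehlerDifferential.D k K (w ^ p) = 0
    rw [Derivation.leibniz_pow, ← Nat.cast_smul_eq_nsmul K p, CharP.cast_eq_zero, zero_smul]
  | algebraMap c => exact Derivation.map_algebraMap _ c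
  | add a b _ _ ha hb => rw [map_add, ha, hb, add_zero]
  | mul a b _ _ ha hb => rw [Derivation.leibniz, ha, hb, smul_zero, smul_zero, add_zero]
  | inv a _ ha => rw [Derivation.leibniz_inv, ha, smul_zero]

theorem finrank_frobField_adjoin {x : K} (hx : x ∉ frobField k K p) :
    Module.finrank (frobField k K p) (IntermediateField.adjoin (frobField k K p) ({x} : Set K)) = p := by
  have hp : p.Prime := Fact.out
  set E := frobField k K p
  set a : E := ⟨x ^ p, pow_mem_frobField p x⟩
  have hirr : Irreducible (Polynomial.X ^ p - Polynomial.C a) := by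
    refine X_pow_sub_C_irreducible_of_prime hp fun b hb => hx ?_
    have h : (b : K) ^ p = x ^ p := congrArg Subtype.val hb
    rw [← frobenius_def, ← frobenius_def] at h
    exact frobenius_inj K p h ▸ b.2
  have hmin : minpoly E x = Polynomial.X ^ p - Polynomial.C a := by
    refine (minpoly.eq_of_irreducible_of_monic hirr ?_ (Polynomial.monic_X_pow_sub_C _ hp.ne_zero)).symm
    simp [a]
  have hi : IsIntegral E x := ⟨Polynomial.X ^ p - Polynomial.C a, Polynomial.monic_X_pow_sub_C _ hp.ne_zero,
    by simp [a]⟩
  rw [IntermediateField.adjoin.finrank hi, hmin, Polynomial.natDegree_X_pow_sub_C]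

theorem adjoin_frobField_of_separating {x : K}
    [Algebra.IsSeparable (IntermediateField.adjoin k ({x} : Set K)) K] :
    IntermediateField.adjoin (frobField k K p) ({x} : Set K) = ⊤ := by
  haveI : CharP k⟮x⟯ p := (RingHom.charP_iff (algebraMap k⟮x⟯ K) (algebraMap k⟮x⟯ K).injective p).mpr ‹_›
  haveI : ExpChar k⟮x⟯ p := ExpChar.prime Fact.out
  set F := IntermediateField.adjoin k ({x} : Set K)
  set M := IntermediateField.adjoin (frobField k K p) ({x} : Set K)
  have h1 := IntermediateField.adjoin_eq_adjoin_pow_expChar_of_isSeparable' F K (Set.univ) p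
  rw [IntermediateField.adjoin_univ] at h1
  refine eq_top_iff.mpr fun z htop => ?_
  clear htop
  have hz : z ∈ IntermediateField.adjoin F ((· ^ p) '' (Set.univ : Set K)) := h1 ▸ IntermediateField.mem_top
  induction hz using IntermediateField.adjoin_induction with
  | mem w hw =>
    obtain ⟨v, -, rfl⟩ := hw
    exact M.algebraMap_mem ⟨v ^ p, pow_mem_frobField p v⟩
  | algebraMap c =>
    have hc : (c : K) ∈ M.restrictScalars k := by
      refine (IntermediateField.adjoin_simple_le_iff.mpr ?_) c.2
      exact IntermediateField.mem_adjoin_simple_self _ x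
    exact hc
  | add a b _ _ ha hb => exact add_mem ha hb
  | mul a b _ _ ha hb => exact mul_mem ha hb
  | inv a _ ha => exact inv_mem ha

theorem finrank_frobField (hF : IsFF k K) (hg : IsGeometric k K) :
    Module.finrank (frobField k K p) K = p := by
  obtain ⟨x, hx, hsep⟩ := Groth.Funfld2.Residue.exists_separating hF hg
  have hnot : x ∉ frobField k K p := fun h =>
    (kaehler_of_separating hx).2 (D_eq_zero_of_mem_frobField p h)
  have h := finrank_frobField_adjoin p hnot
  rwa [adjoin_frobField_of_separating p, IntermediateField.finrank_top'] at h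

theorem adjoin_frobField_of_notMem (hF : IsFF k K) (hg : IsGeometric k K) {x : K}
    (hx : x ∉ frobField k K p) : IntermediateField.adjoin (frobField k K p) ({x} : Set K) = ⊤ := by
  haveI : FiniteDimensional (frobField k K p) K :=
    Module.finite_of_finrank_pos (by rw [finrank_frobField p hF hg]; exact (Fact.out : p.Prime).pos)
  refine IntermediateField.eq_of_le_of_finrank_eq le_top ?_
  rw [IntermediateField.finrank_top', finrank_frobField_adjoin p hx, finrank_frobField p hF hg]

theorem mem_frobField_iff_D (hF : IsFF k K) (hg : IsGeometric k K) (x : K) :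
    x ∈ frobField k K p ↔ KaehlerDifferential.D k K x = 0 := by
  refine ⟨D_eq_zero_of_mem_frobField p, fun h => ?_⟩
  by_contra hx
  obtain ⟨z, hz, hsep⟩ := Groth.Funfld2.Residue.exists_separating hF hg
  refine (kaehler_of_separating hz).2 ?_
  clear hz hsep
  have hmem : z ∈ IntermediateField.adjoin (frobField k K p) ({x} : Set K) :=
    adjoin_frobField_of_notMem p hF hg hx ▸ IntermediateField.mem_top
  induction hmem using IntermediateField.adjoin_induction with
  | mem w hw => rw [Set.mem_singleton_iff.mp hw, h]
  | algebraMap c => exact D_eq_zero_of_mem_frobField p c.2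
  | add a b _ _ ha hb => rw [map_add, ha, hb, add_zero]
  | mul a b _ _ ha hb => rw [Derivation.leibniz, ha, hb, smul_zero, smul_zero, add_zero]
  | inv a _ ha => rw [Derivation.leibniz_inv, ha, smul_zero]

theorem mem_frobField_iff_not_separable (hK : IsFunctionField k K) (hg : IsGeometric k K) (x : K) :
    x ∈ frobField k K p ↔ ¬ Algebra.IsSeparable (IntermediateField.adjoin k ({x} : Set K)) K := by
  have hF := IsFF.of_isFunctionField hK
  constructor
  · intro hx hsep
    by_cases htr : Transcendental k x
    · exact (kaehler_of_separating htr).2 (D_eq_zero_of_mem_frobField p hx)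
    · haveI : Algebra.IsAlgebraic k (IntermediateField.adjoin k ({x} : Set K)) := by
        haveI := IntermediateField.adjoin.finiteDimensional (not_not.mp htr).isIntegral
        infer_instance
      obtain ⟨z, hz, -⟩ := hK.1
      haveI : Algebra.IsAlgebraic k K :=
        Algebra.IsAlgebraic.trans k (IntermediateField.adjoin k ({x} : Set K)) K
      exact hz (Algebra.IsAlgebraic.isAlgebraic z)
  · intro h
    by_contra hx
    exact h (separating_of_D_ne_zero hK hg fun h0 => hx ((mem_frobField_iff_D p hF hg x).mpr h0)).2

theorem eq_frobField_iff (hF : IsFF k K) (hg : IsGeometric k K) (K₀ : IntermediateField k K) :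
    (IsPurelyInseparable K₀ K ∧ Module.finrank K₀ K = p) ↔ K₀ = frobField k K p := by
  have hp : p.Prime := Fact.out
  haveI : ExpChar K₀ p := by
    haveI : CharP K₀ p := (RingHom.charP_iff (algebraMap K₀ K) (algebraMap K₀ K).injective p).mpr ‹_›
    exact ExpChar.prime hp
  constructor
  · rintro ⟨hpi, hdim⟩
    haveI : FiniteDimensional K₀ K := Module.finite_of_finrank_pos (by rw [hdim]; exact hp.pos)
    have hle : frobField k K p ≤ K₀ := by
      rw [IntermediateField.adjoin_le_iff]
      rintro _ ⟨y, rfl⟩
      obtain ⟨n, a, ha⟩ := IsPurelyInseparable.minpoly_eq_X_pow_sub_C K₀ p y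
      have hn : p ^ n ≤ p ^ 1 := by
        have := minpoly.natDegree_le (A := K₀) y
        rwa [ha, Polynomial.natDegree_X_pow_sub_C, hdim, ← pow_one p, ← pow_mul, one_mul] at this
      have hn1 : n ≤ 1 := (Nat.pow_le_pow_iff_right hp.one_lt).mp hn
      have hroot : y ^ p ^ n = (a : K) := by
        have := minpoly.aeval K₀ y
        rw [ha] at this
        simpa [sub_eq_zero] using this
      obtain rfl | rfl : n = 0 ∨ n = 1 := by omega
      · rw [pow_zero, pow_one] at hroot
        exact pow_mem (hroot ▸ a.2 : y ∈ K₀) p
      · rw [pow_one] at hroot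
        show y ^ p ∈ K₀
        rw [hroot]; exact a.2
    haveI : FiniteDimensional (frobField k K p) K :=
      Module.finite_of_finrank_pos (by rw [finrank_frobField p hF hg]; exact hp.pos)
    exact (IntermediateField.eq_of_le_of_finrank_eq' hle (by rw [finrank_frobField p hF hg, hdim])).symm
  · rintro rfl
    exact ⟨(isPurelyInseparable_iff_pow_mem _ p).mpr fun y =>
      ⟨1, ⟨⟨y ^ p ^ 1, by rw [pow_one]; exact pow_mem_frobField p y⟩, rfl⟩⟩, finrank_frobField p hF hg⟩

end Groth.FunFld1
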