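import Groth.Agent.FunFld1.PlaneSpaces

/-!
Genus and nonsingularity of an arbitrary plane model `(1 : x : y)`.
-/

set_option linter.unusedSectionVars false

namespace Groth.FunFld1

open WithZero FunFld
open scoped IntermediateField

variable {k K : Type*} [Field k] [Field K] [Algebra k K]

/-- Nonsingularity only depends on the span of the coordinates. -/
theorem nonsingular_of_span_eq [IsAlgClosed k] (hK : IsFunctionField k K) {φ φ' : Fin 3 → K}
    (h0 : ∃ i, φ i ≠ 0) {D : Divisor k K}
    (hs : Submodule.span k (Set.range φ) = Submodule.span k (Set.range φ'))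
    (hD : Submodule.span k (Set.range φ) ≤ L D)
    (hmax : ∀ (R : Place k K) (j : Fin 3), IsMin φ R j → R.1 (φ j) = exp (D R)) {P : Place k K}
    (h : IsNonsingularAt φ P) : IsNonsingularAt φ' P := by
  have hd := deg_eq_one_of_isAlgClosed (IsFF.of_isFunctionField hK)
  refine nonsingular_of_codim hK hd (hs ▸ hD) P fun Q => ?_
  rw [← hs]
  exact codim_of_nonsingular' hK hd h0 hD hmax h Q

theorem deg_mapDiv_eq_finrank [IsAlgClosed k] (hK : IsFunctionField k K) {x y : K} {c : k}
    (hl : Transcendental k (x + c • y))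
    (hD : zeroDiv k (x + c • y)⁻¹ = mapDiv k ![(1 : K), x, y]) :
    (mapDiv k ![(1 : K), x, y]).deg =
      Module.finrank (IntermediateField.adjoin k ({x + c • y} : Set K)) K := by
  rw [← hD]
  exact (IsFF.of_isFunctionField hK).deg_poleDiv_eq hl

theorem two_mul_genus_le_plane [IsAlgClosed k] (hK : IsFunctionField k K) {x y : K}
    (hxy : IntermediateField.adjoin k ({x, y} : Set K) = ⊤) :
    2 * (genus k K : ℤ) ≤ ((mapDiv k ![(1 : K), x, y]).deg - 1) *
      ((mapDiv k ![(1 : K), x, y]).deg - 2) := by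
  obtain ⟨c, hl, hgen, hD, hy, -⟩ := exists_plane_coord hK hxy
  rw [deg_mapDiv_eq_finrank hK hl hD]
  exact plane_genus_le hK hl hgen hy

theorem two_mul_genus_eq_iff [IsAlgClosed k] (hK : IsFunctionField k K) {x y : K}
    (hxy : IntermediateField.adjoin k ({x, y} : Set K) = ⊤) :
    2 * (genus k K : ℤ) = ((mapDiv k ![(1 : K), x, y]).deg - 1) *
        ((mapDiv k ![(1 : K), x, y]).deg - 2) ↔
      ∀ P : Place k K, IsNonsingularAt ![(1 : K), x, y] P := by
  obtain ⟨c, hl, hgen, hD, hy, hs⟩ := exists_plane_coord hK hxy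
  rw [deg_mapDiv_eq_finrank hK hl hD]
  have hs' : Submodule.span k (Set.range ![(1 : K), x + c • y, y]) =
      Submodule.span k (Set.range ![(1 : K), x, y]) := by
    rw [hs, planeW]
    congr 1
    ext z
    simp [Fin.exists_fin_succ, eq_comm]; tauto
  have hle : Submodule.span k (Set.range ![(1 : K), x, y]) ≤ L (zeroDiv k (x + c • y)⁻¹) := by
    rw [hs]; exact planeW_le hK hl hgen hy
  have hmax' := fun (R : Place k K) (j : Fin 3) (hj : IsMin ![(1 : K), x + c • y, y] R j) =>
    isMin_val hK hl hy R hj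
  have hmax : ∀ (R : Place k K) (j : Fin 3), IsMin ![(1 : K), x, y] R j →
      R.1 (![(1 : K), x, y] j) = exp (zeroDiv k (x + c • y)⁻¹ R) := by
    intro R j hj
    obtain ⟨j', hj'⟩ := exists_isMin (φ := ![(1 : K), x + c • y, y]) ⟨(0 : Fin 3), by simp⟩ R
    refine le_antisymm (hle (Submodule.subset_span (Set.mem_range_self j)) R) ?_
    rw [← hmax' R j' hj']
    exact val_le_of_mem_span hj.2 (hs' ▸ Submodule.subset_span (Set.mem_range_self j'))
  constructor
  · intro h P
    exact nonsingular_of_span_eq hK ⟨0, by simp⟩ hs' (hs' ▸ hle) hmax'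
      (nonsingular_of_genus_eq hK hl hgen hy h P)
  · intro h
    exact genus_eq_of_nonsingular hK hl hgen hy fun P =>
      nonsingular_of_span_eq hK ⟨0, by simp⟩ hs'.symm hle hmax (h P)

theorem exists_triangular [IsAlgClosed k] (hK : IsFunctionField k K) {x y : K}
    (hxy : IntermediateField.adjoin k ({x, y} : Set K) = ⊤)
    (h : ∀ P : Place k K, IsNonsingularAt ![(1 : K), x, y] P) :
    ∃ m : ℕ, 2 * genus k K = m * (m + 1) := by
  obtain ⟨c, hl, hgen, hD, hy, -⟩ := exists_plane_coord hK hxy
  have hg := (two_mul_genus_eq_iff hK hxy).mpr h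
  rw [deg_mapDiv_eq_finrank hK hl hD] at hg
  have hd := deg₀_pos hK hl hgen hy
  generalize Module.finrank (IntermediateField.adjoin k ({x + c • y} : Set K)) K = d at hg hd
  rcases eq_or_lt_of_le (show 1 ≤ d from hd) with rfl | h2
  · refine ⟨0, ?_⟩
    push_cast at hg
    simp at hg ⊢
    omega
  · refine ⟨d - 2, ?_⟩
    zify [show 2 ≤ d from h2]
    linear_combination hg

end Groth.FunFld1
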