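import Groth.Agent.FunFld1.Gaps

/-!
Function fields of genus one with a place of degree one; base-point-freeness.
-/

set_option linter.style.haveILetI false

namespace Groth.FunFld1

open WithZero FunFld

variable {k K : Type*} [Field k] [Field K] [Algebra k K]

section FunctionField

variable (hK : IsFunctionField k K)
include hK

local notation "hF" => IsFF.of_isFunctionField hK

theorem ell_sub_single_lt (hg : 0 < genus k K) {D : Divisor k K}
    (hD : 2 * (genus k K : ℤ) ≤ D.deg ∨ IsCanonical k K D) {P : Place k K} (hP : P.deg = 1) :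
    ell (D - Finsupp.single P 1) < ell D := by
  have hd : (D - Finsupp.single P (1 : ℤ)).deg = D.deg - 1 := by rw [deg_sub, deg_single, hP]; simp
  rcases hD with h | h
  · have h1 := ell_eq_of_deg_ge hK (D := D) (by omega)
    have h2 := ell_eq_of_deg_ge hK (D := D - Finsupp.single P 1) (by rw [hd]; omega)
    rw [hd] at h2
    omega
  · have h1 := riemann_roch hK h (D - Finsupp.single P 1)
    rw [hd, deg_canonical hK h, sub_sub_cancel, ell_single_one_eq_one hK hg hP] at h1
    rw [ell_canonical hK h]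
    omega

/-- For genus one, the class map from degree-one places is bijective. -/
theorem existsUnique_place_of_deg_zero (hg : genus k K = 1) {P₀ : Place k K} (hP : P₀.deg = 1)
    {D : Divisor k K} (hD : D.deg = 0) :
    ∃! P : Place k K, P.deg = 1 ∧
      ∃ x : K, x ≠ 0 ∧ D = Finsupp.single P 1 - Finsupp.single P₀ 1 + div k x := by
  classical
  have hd : (D + Finsupp.single P₀ (1 : ℤ)).deg = 1 := by rw [deg_add, deg_single, hD, hP]; rfl
  have h1 := ell_eq_of_deg_ge hK (D := D + Finsupp.single P₀ 1) (by rw [hd, hg]; norm_num)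
  rw [hd, hg] at h1
  have hne : L (D + Finsupp.single P₀ (1 : ℤ)) ≠ ⊥ := by
    intro h
    have h0 : ell (D + Finsupp.single P₀ (1 : ℤ)) = 0 := by
      unfold ell; rw [h]; exact finrank_bot k K
    omega
  obtain ⟨z, hz, hzD⟩ := (hF).exists_effective_of_ne_bot hne
  obtain ⟨P, hP1, hE⟩ := effective_deg_one (hF) hzD (by rw [deg_add, hd, (hF).deg_div]; rfl)
  refine ⟨P, ⟨hP1, z⁻¹, inv_ne_zero hz, ?_⟩, ?_⟩
  · rw [(hF).div_inv, ← hE]; abel
  · rintro P' ⟨hP', x, hx, hxD⟩
    refine (eq_of_sub_eq_div hK (by omega) hP' hP1 (x := (z * x)⁻¹)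
      (inv_ne_zero (mul_ne_zero hz hx)) ?_)
    rw [(hF).div_inv, (hF).div_mul hz hx, ← hE, hxD]
    abel

/-- The Weierstrass form of a genus-one function field. -/
theorem weierstrass_form (hg : genus k K = 1) {P₀ : Place k K} (hP : P₀.deg = 1) :
    ∃ x y : K, x ∈ L (Finsupp.single P₀ 2) ∧ y ∈ L (Finsupp.single P₀ 3) ∧
      P₀.ord x = -2 ∧ P₀.ord y = -3 ∧
      IntermediateField.adjoin k ({x, y} : Set K) = ⊤ ∧
      ∃ f g : Polynomial k, f.natDegree ≤ 1 ∧ g.natDegree = 3 ∧
        y ^ 2 + Polynomial.aeval x f * y + Polynomial.aeval x g = 0 := by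
  classical
  have hell : ∀ n : ℕ, 1 ≤ n → ell (Finsupp.single P₀ (n : ℤ)) = n := fun n hn => by
    have h1 := ell_eq_of_deg_ge hK (D := Finsupp.single P₀ (n : ℤ))
      (by rw [deg_single, hP, hg]; omega)
    rw [deg_single, hP, hg] at h1
    omega
  have hng : ∀ n : ℕ, 2 ≤ n →
      L (Finsupp.single P₀ (n : ℤ)) ≠ L (Finsupp.single P₀ ((n : ℤ) - 1)) := fun n hn h => by
    have h1 := hell n (by omega)
    have h2 := hell (n - 1) (by omega)
    unfold ell at h1 h2
    rw [h, show ((n : ℤ) - 1) = ((n - 1 : ℕ) : ℤ) by omega, h2] at h1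
    omega
  obtain ⟨x, hx, hxP⟩ := exists_of_not_gap (hng 2 le_rfl)
  obtain ⟨y, hy, hyP⟩ := exists_of_not_gap (hng 3 (by omega))
  have hx0 := ne_zero_of_val_eq hxP
  have hy0 := ne_zero_of_val_eq hyP
  have hxc : x ∉ Set.range (algebraMap k K) := by
    rintro ⟨c, rfl⟩
    have := ord_algebraMap P₀ c
    rw [ord_eq_of_val_eq P₀ hxP] at this
    omega
  have hyc : y ∉ Set.range (algebraMap k K) := by
    rintro ⟨c, rfl⟩
    have := ord_algebraMap P₀ c
    rw [ord_eq_of_val_eq P₀ hyP] at this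
    omega
  have hxt := transcendental_of_notMem hK hxc
  have hyt := transcendental_of_notMem hK hyc
  haveI := (hF).finiteDimensional hxt
  haveI := (hF).finiteDimensional hyt
  have hpole : ∀ {n : ℕ} {z : K}, z ∈ L (Finsupp.single P₀ (n : ℤ)) → P₀.1 z = exp (n : ℤ) →
      Transcendental k z →
      Module.finrank (IntermediateField.adjoin k ({z} : Set K)) K = n := by
    intro n z hz hzP hzt
    have h0 := (hF).deg_poleDiv_eq hzt
    have heq : zeroDiv k z⁻¹ = Finsupp.single P₀ (n : ℤ) := by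
      refine le_antisymm ((hF).deg_poleDiv_le_of_mem_L (Finsupp.single_nonneg.mpr (by omega)) hz) ?_
      intro Q
      rw [(hF).zeroDiv_apply, ord_inv]
      rcases eq_or_ne Q P₀ with rfl | hne
      · rw [Finsupp.single_eq_same, ord_eq_of_val_eq Q hzP]; omega
      · rw [Finsupp.single_eq_of_ne hne]; omega
    rw [heq, deg_single, hP] at h0
    omega
  have htop : IntermediateField.adjoin k ({x, y} : Set K) = ⊤ := by
    set F := IntermediateField.adjoin k ({x, y} : Set K)
    have h1 : IntermediateField.adjoin k ({x} : Set K) ≤ F :=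
      IntermediateField.adjoin.mono _ _ _ (by simp)
    have h2 : IntermediateField.adjoin k ({y} : Set K) ≤ F :=
      IntermediateField.adjoin.mono _ _ _ (by simp)
    have d : ∀ E : IntermediateField k K, E ≤ F → Module.finrank F K ∣ Module.finrank E K := by
      intro E hE
      letI := (IntermediateField.inclusion hE).toRingHom.toAlgebra
      haveI : IsScalarTower E F K := IsScalarTower.of_algebraMap_eq fun _ => rfl
      exact ⟨_, ((mul_comm _ _).trans (Module.finrank_mul_finrank E F K)).symm⟩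
    refine IntermediateField.finrank_eq_one_iff_eq_top.mp (Nat.dvd_one.mp ?_)
    have d2 := d _ h1
    have d3 := d _ h2
    rw [hpole hx hxP hxt] at d2
    rw [hpole hy hyP hyt] at d3
    exact Nat.dvd_gcd d2 d3
  refine ⟨x, y, hx, hy, ord_eq_of_val_eq P₀ hxP, ord_eq_of_val_eq P₀ hyP, htop, ?_⟩
  -- seven functions in the six dimensional space `L(6 P₀)`
  let w : Fin 6 → K := ![1, x, y, x ^ 2, x * y, x ^ 3]
  let d : Fin 6 → ℕ := ![0, 2, 3, 4, 5, 6]
  have hwP : ∀ i, P₀.1 (w i) = exp (d i : ℤ) := by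
    intro i
    fin_cases i <;> simp [w, d, hxP, hyP, ← exp_nsmul, ← exp_add]
  have hmul : ∀ {a b : ℤ} {u v : K}, u ∈ L (Finsupp.single P₀ a) → v ∈ L (Finsupp.single P₀ b) →
      u * v ∈ L (Finsupp.single P₀ (a + b)) := fun {a b u v} hu hv Q => by
    rw [map_mul, Finsupp.single_add, Finsupp.add_apply, exp_add]
    exact mul_le_mul' (hu Q) (hv Q)
  have h1L : (1 : K) ∈ L (Finsupp.single P₀ (0 : ℤ)) := fun Q => by simp
  have hup : ∀ {a : ℤ} {u : K}, a ≤ 6 → u ∈ L (Finsupp.single P₀ a) →
      u ∈ L (Finsupp.single P₀ (6 : ℤ)) :=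
    fun ha hu => L_mono (Finsupp.single_le_single.mpr ha) hu
  have hx2 : x ^ 2 ∈ L (Finsupp.single P₀ ((2 : ℕ) + (2 : ℕ) : ℤ)) := pow_two x ▸ hmul hx hx
  have hw6 : ∀ i, w i ∈ L (Finsupp.single P₀ (6 : ℤ)) := by
    intro i
    fin_cases i
    · exact hup (by omega) h1L
    · exact hup (by omega) hx
    · exact hup (by omega) hy
    · exact hup (by omega) hx2
    · exact hup (by omega) (hmul hx hy)
    · show x ^ 3 ∈ _
      rw [pow_succ]
      exact hup (by omega) (hmul hx2 hx)
  haveI := (hF).finiteDimensional_L (Finsupp.single P₀ (6 : ℤ))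
  have hv : ∀ (c : Fin 6 → k) (i : Fin 6), c i ≠ 0 → (∀ j, d i < d j → c j = 0) →
      P₀.1 (∑ j, c j • w j) = exp (d i : ℤ) := by
    intro c i hi htop'
    have hinj : Function.Injective d := by decide
    have hterm : P₀.1 (c i • w i) = exp (d i : ℤ) := by
      rw [Algebra.smul_def, map_mul, val_algebraMap P₀ hi, hwP, one_mul]
    rw [P₀.1.map_sum_eq_of_lt (Finset.mem_univ i) (fun j hj => ?_), hterm]
    simp only [Finset.mem_sdiff, Finset.mem_singleton] at hj
    by_cases hcj : c j = 0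
    · rw [hterm, hcj]; simp
    · rw [hterm, Algebra.smul_def, map_mul, val_algebraMap P₀ hcj, hwP, one_mul, exp_lt_exp]
      have hle : ¬ d i < d j := fun h => hcj (htop' j h)
      have hne : d j ≠ d i := fun h => hj.2 (hinj h)
      omega
  have hli : LinearIndependent k w := by
    rw [Fintype.linearIndependent_iff]
    intro c hc
    by_contra! hne
    obtain ⟨i, hi⟩ := hne
    obtain ⟨j, hj, hjmax⟩ := (Finset.univ.filter fun i => c i ≠ 0).exists_max_image d ⟨i, by simp [hi]⟩
    have h := hv c j (Finset.mem_filter.mp hj).2 fun l hl => by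
      by_contra hcl
      exact absurd (hjmax l (by simp [hcl])) (by omega)
    rw [hc, map_zero] at h
    exact exp_ne_zero h.symm
  let w' : Fin 6 → L (Finsupp.single P₀ (6 : ℤ)) := fun i => ⟨w i, hw6 i⟩
  have hli' : LinearIndependent k w' :=
    LinearIndependent.of_comp (L (Finsupp.single P₀ (6 : ℤ))).subtype hli
  let b := basisOfLinearIndependentOfCardEqFinrank hli' (by
    rw [Fintype.card_fin]; exact (hell 6 (by omega)).symm)
  have hy2 : y ^ 2 ∈ L (Finsupp.single P₀ (6 : ℤ)) := by
    rw [pow_two]; exact hup (by omega) (hmul hy hy)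
  obtain ⟨c, hc⟩ : ∃ c : Fin 6 → k, ∑ i, c i • w i = y ^ 2 := by
    refine ⟨fun i => b.repr ⟨y ^ 2, hy2⟩ i, ?_⟩
    have h := congrArg (fun u : L (Finsupp.single P₀ (6 : ℤ)) => (u : K)) (b.sum_repr ⟨y ^ 2, hy2⟩)
    simpa [b, w'] using h
  have hc5 : c 5 ≠ 0 := by
    intro h5
    have h2 : P₀.1 (y ^ 2) = exp (6 : ℤ) := by rw [map_pow, hyP, ← exp_nsmul]; norm_num
    have hle : P₀.1 (∑ i, c i • w i) ≤ exp (5 : ℤ) := by
      refine Valuation.map_sum_le _ fun i _ => ?_
      by_cases hci : c i = 0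
      · simp [hci]
      · rw [Algebra.smul_def, map_mul, val_algebraMap P₀ hci, hwP, one_mul, exp_le_exp]
        fin_cases i <;> simp_all [d]
    rw [hc, h2, exp_le_exp] at hle
    omega
  refine ⟨-(Polynomial.C (c 2) + Polynomial.C (c 4) * Polynomial.X),
    -(Polynomial.C (c 0) + Polynomial.C (c 1) * Polynomial.X + Polynomial.C (c 3) * Polynomial.X ^ 2
      + Polynomial.C (c 5) * Polynomial.X ^ 3), ?_, ?_, ?_⟩
  · rw [Polynomial.natDegree_neg]
    compute_degree
  · rw [Polynomial.natDegree_neg]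
    compute_degree!
  · rw [← hc, Fin.sum_univ_six]
    simp [w, Algebra.smul_def]
    ring

end FunctionField

end Groth.FunFld1
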