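import Mathlib.LinearAlgebra.Dimension.RankNullity
import Mathlib.LinearAlgebra.Dimension.Finite
import Mathlib.LinearAlgebra.FiniteDimensional.Lemmas
import Mathlib.LinearAlgebra.Quotient.Basic
import Mathlib.LinearAlgebra.Isomorphisms
import Mathlib.Tactic

/-!
`QFin A B n`: `A ≤ B` and `B/A` is finite of dimension `n`.
-/

namespace Groth.FunFld1

variable {k V W : Type*} [Field k] [AddCommGroup V] [Module k V] [AddCommGroup W] [Module k W]

/-- `A ≤ B` and `B/A` has dimension `n`. -/
def QFin (A B : Submodule k V) (n : ℕ) : Prop :=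
  A ≤ B ∧ FiniteDimensional k (↥B ⧸ Submodule.comap B.subtype A) ∧
    Module.finrank k (↥B ⧸ Submodule.comap B.subtype A) = n

namespace QFin

theorem refl (A : Submodule k V) : QFin A A 0 := by
  have h : Submodule.comap A.subtype A = ⊤ := Submodule.comap_subtype_self A
  have : Subsingleton (↥A ⧸ Submodule.comap A.subtype A) := by
    rw [h]; exact Submodule.Quotient.subsingleton_iff.mpr rfl
  exact ⟨le_rfl, inferInstance, Module.finrank_zero_of_subsingleton⟩

theorem of_surjective {A B : Submodule k V} (hAB : A ≤ B) (f : ↥B →ₗ[k] W)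
    (hf : Function.Surjective f) (hker : f.ker = Submodule.comap B.subtype A)
    [FiniteDimensional k W] : QFin A B (Module.finrank k W) := by
  let e : (↥B ⧸ Submodule.comap B.subtype A) ≃ₗ[k] W :=
    (Submodule.quotEquivOfEq _ _ hker.symm).trans (f.quotKerEquivOfSurjective hf)
  exact ⟨hAB, e.symm.finiteDimensional, e.finrank_eq⟩

theorem trans {A B C : Submodule k V} {m n : ℕ} (h₁ : QFin A B m) (h₂ : QFin B C n) :
    QFin A C (m + n) := by
  obtain ⟨hAB, f₁, e₁⟩ := h₁
  obtain ⟨hBC, f₂, e₂⟩ := h₂
  set A' := Submodule.comap C.subtype A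
  set B' := Submodule.comap C.subtype B
  have hle : A' ≤ B' := Submodule.comap_mono hAB
  let i : (↥B ⧸ Submodule.comap B.subtype A) →ₗ[k] (↥C ⧸ A') :=
    Submodule.mapQ _ _ (Submodule.inclusion hBC) (by intro x hx; exact hx)
  have hi : Function.Injective i := by
    rw [← LinearMap.ker_eq_bot, Submodule.eq_bot_iff]
    intro x
    induction x using Submodule.Quotient.induction_on with
    | H x =>
      intro hx
      replace hx := (Submodule.Quotient.mk_eq_zero _).mp (LinearMap.mem_ker.mp hx)
      rw [Submodule.Quotient.mk_eq_zero]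
      exact hx
  have hr : LinearMap.range i = Submodule.map A'.mkQ B' := by
    apply le_antisymm
    · rintro _ ⟨x, rfl⟩
      induction x using Submodule.Quotient.induction_on with
      | H x => exact ⟨Submodule.inclusion hBC x, x.2, rfl⟩
    · rintro _ ⟨x, hx, rfl⟩
      exact ⟨Submodule.Quotient.mk ⟨(x : V), hx⟩, rfl⟩
  let e := (LinearEquiv.ofInjective i hi).trans (LinearEquiv.ofEq _ _ hr)
  have hsub : FiniteDimensional k ↥(Submodule.map A'.mkQ B') := e.finiteDimensional
  let q := Submodule.quotientQuotientEquivQuotient A' B' hle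
  have hquo : FiniteDimensional k ((↥C ⧸ A') ⧸ Submodule.map A'.mkQ B') := q.symm.finiteDimensional
  have hfin : FiniteDimensional k (↥C ⧸ A') :=
    Module.Finite.of_submodule_quotient (Submodule.map A'.mkQ B')
  refine ⟨hAB.trans hBC, hfin, ?_⟩
  rw [← Submodule.finrank_quotient_add_finrank (Submodule.map A'.mkQ B'), q.finrank_eq, e₂,
    ← e.finrank_eq, e₁, add_comm]

/-- Pulling back along a linear map can only decrease the dimension. -/
theorem comap_le {A B : Submodule k W} {n : ℕ} (h : QFin A B n) (f : V →ₗ[k] W) :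
    ∃ m ≤ n, QFin (A.comap f) (B.comap f) m := by
  obtain ⟨hAB, hf, he⟩ := h
  let g : (↥(B.comap f) ⧸ Submodule.comap (B.comap f).subtype (A.comap f)) →ₗ[k]
      (↥B ⧸ Submodule.comap B.subtype A) :=
    Submodule.mapQ _ _ (f.restrict fun _ hx => hx) (by intro x hx; exact hx)
  have hg : Function.Injective g := by
    rw [← LinearMap.ker_eq_bot, Submodule.eq_bot_iff]
    intro x
    induction x using Submodule.Quotient.induction_on with
    | H x =>
      intro hx
      replace hx := (Submodule.Quotient.mk_eq_zero _).mp (LinearMap.mem_ker.mp hx)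
      rw [Submodule.Quotient.mk_eq_zero]
      exact hx
  refine ⟨_, ?_, Submodule.comap_mono hAB, FiniteDimensional.of_injective g hg, rfl⟩
  rw [← he]
  exact LinearMap.finrank_le_finrank_of_injective hg

/-- With finite-dimensional smaller space, the dimensions add up. -/
theorem finite_and_finrank {A B : Submodule k V} {n : ℕ} (h : QFin A B n)
    [FiniteDimensional k A] :
    FiniteDimensional k B ∧ Module.finrank k B = Module.finrank k A + n := by
  obtain ⟨hAB, hf, he⟩ := h
  let e := Submodule.comapSubtypeEquivOfLe hAB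
  have hA : FiniteDimensional k ↥(Submodule.comap B.subtype A) := e.symm.finiteDimensional
  have hB : FiniteDimensional k B :=
    Module.Finite.of_submodule_quotient (Submodule.comap B.subtype A)
  refine ⟨hB, ?_⟩
  rw [← Submodule.finrank_quotient_add_finrank (Submodule.comap B.subtype A), he, e.finrank_eq,
    add_comm]

theorem unique {A B : Submodule k V} {m n : ℕ} (h₁ : QFin A B m) (h₂ : QFin A B n) : m = n :=
  h₁.2.2.symm.trans h₂.2.2

theorem eq_of_zero {A B : Submodule k V} (h : QFin A B 0) : A = B := by
  obtain ⟨hAB, hf, he⟩ := h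
  refine le_antisymm hAB fun x hx => ?_
  have := Module.finrank_zero_iff.mp he
  have h0 : (Submodule.Quotient.mk (⟨x, hx⟩ : ↥B) : ↥B ⧸ Submodule.comap B.subtype A) = 0 :=
    Subsingleton.elim _ _
  exact (Submodule.Quotient.mk_eq_zero (Submodule.comap B.subtype A) (x := ⟨x, hx⟩)).mp h0

end QFin

end Groth.FunFld1
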