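import Groth.Agent.FunFld1.Places
import Groth.Agent.FunFld1.QuotDim
import Mathlib.Algebra.Polynomial.Basis
import Mathlib.RingTheory.AlgebraTower

/-!
Degrees of places and divisors, finiteness of `L(D)`, the degree of a zero divisor is `[K : k(x)]`.
-/

set_option linter.style.haveILetI false

namespace Groth.FunFld1

open WithZero FunFld Polynomial
open scoped IntermediateField

variable {k K : Type*} [Field k] [Field K] [Algebra k K]

/-! ### Balls and residue maps -/

/-- `{x | v_P x ≤ exp n}`. -/
def Ball (P : Place k K) (n : ℤ) : Submodule k K where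
  carrier := {x | P.1 x ≤ exp n}
  add_mem' {x y} hx hy := (P.1.map_add x y).trans (max_le hx hy)
  zero_mem' := by simp
  smul_mem' c x hx := by
    simp only [Set.mem_ofPred_eq, Algebra.smul_def, map_mul] at hx ⊢
    exact (mul_le_mul' (P.2.1 c) hx).trans_eq (one_mul _)

@[simp] theorem mem_Ball {P : Place k K} {n : ℤ} {x : K} : x ∈ Ball P n ↔ P.1 x ≤ exp n := Iff.rfl

/-- `{x | v_P x ≤ exp (D P)}` for all `P ∈ S`. -/
def SBall (S : Finset (Place k K)) (D : Place k K → ℤ) : Submodule k K := ⨅ P ∈ S, Ball P (D P)

@[simp] theorem mem_SBall {S : Finset (Place k K)} {D : Place k K → ℤ} {x : K} :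
    x ∈ SBall S D ↔ ∀ P ∈ S, P.1 x ≤ exp (D P) := by simp [SBall]

/-- An element of value `exp n` at `P`. -/
noncomputable def wt (P : Place k K) (n : ℤ) : K := (exists_val_eq_exp P n).choose

theorem val_wt (P : Place k K) (n : ℤ) : P.1 (wt P n) = exp n := (exists_val_eq_exp P n).choose_spec

/-- The residue map `Ball P n → F_P`. -/
noncomputable def ballRes (P : Place k K) (n : ℤ) : Ball P n →ₗ[k] IsLocalRing.ResidueField P.O where
  toFun x := IsLocalRing.residue P.O ⟨x.1 * wt P (-n), by
    show P.1 _ ≤ 1
    rw [map_mul, val_wt, exp_neg]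
    exact mul_inv_le_one_of_le₀ x.2 zero_le⟩
  map_add' x y := by
    rw [← map_add]; congr 1; ext; exact add_mul _ _ _
  map_smul' c x := by
    rw [RingHom.id_apply]
    refine Eq.trans ?_ (Algebra.smul_def c _).symm
    change _ = IsLocalRing.residue P.O (algebraMap k P.O c) * _
    refine Eq.trans ?_ (map_mul _ _ _)
    congr 1; ext
    show (c • x).1 * _ = algebraMap k K c * (x.1 * _)
    rw [Submodule.coe_smul, Algebra.smul_def, mul_assoc]

theorem ballRes_surjective (P : Place k K) (n : ℤ) : Function.Surjective (ballRes P n) := by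
  intro r
  obtain ⟨a, rfl⟩ := IsLocalRing.residue_surjective r
  have h0 : wt P (-n) ≠ 0 := ne_zero_of_val_eq (val_wt P (-n))
  refine ⟨⟨a.1 * (wt P (-n))⁻¹, ?_⟩, ?_⟩
  · rw [mem_Ball, map_mul, map_inv₀, val_wt, exp_neg, inv_inv]
    exact mul_le_of_le_one_left' a.2
  · refine congrArg (IsLocalRing.residue P.O) (Subtype.ext ?_)
    exact inv_mul_cancel_right₀ h0 a.1

theorem residue_eq_zero_iff (P : Place k K) (a : P.O) :
    IsLocalRing.residue P.O a = 0 ↔ P.1 a.1 < 1 := by
  rw [IsLocalRing.residue_eq_zero_iff]
  exact P.1.mem_maximalIdeal_iff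

theorem ker_ballRes (P : Place k K) (n : ℤ) :
    (ballRes P n).ker = Submodule.comap (Ball P n).subtype (Ball P (n - 1)) := by
  ext x
  rw [LinearMap.mem_ker, Submodule.mem_comap, mem_Ball]
  refine (residue_eq_zero_iff P _).trans ?_
  rw [lt_one_iff_le_exp_neg_one, map_mul, val_wt]
  constructor
  · intro h
    have := mul_le_mul' h (le_refl (exp n))
    rwa [mul_assoc, ← exp_add, ← exp_add, neg_add_cancel, exp_zero, mul_one,
      show -1 + n = n - 1 by ring] at this
  · intro h
    refine (mul_le_mul' h le_rfl).trans_eq ?_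
    rw [← exp_add]; congr 1; ring

/-- Independence over `k(x)` from independence modulo `x` at a set of zeros of `x`. -/
theorem linearIndependent_of_residual {ι : Type*} {x : K} (hx : x ≠ 0) (S : Finset (Place k K))
    (hSx : ∀ P ∈ S, P.1 x ≤ 1) {w : ι → K} (hw : ∀ i, ∀ P ∈ S, P.1 (w i) ≤ 1)
    (h : ∀ (s : Finset ι) (c : ι → k), (∀ P ∈ S, P.1 (∑ i ∈ s, c i • w i) ≤ P.1 x) →
      ∀ i ∈ s, c i = 0) :
    LinearIndependent (IntermediateField.adjoin k ({x} : Set K)) w := by
  refine linearIndependent_adjoin hx fun s φ hs => h s _ fun P hP => ?_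
  have e : ∀ j ∈ s, aeval x (φ j) * w j =
      (φ j).coeff 0 • w j + x * (aeval x (φ j).divX * w j) := by
    intro j _
    conv_lhs => rw [← X_mul_divX_add (φ j)]
    rw [map_add, map_mul, aeval_X, aeval_C, Algebra.smul_def]
    ring
  rw [Finset.sum_congr rfl e, Finset.sum_add_distrib, ← Finset.mul_sum, add_eq_zero_iff_eq_neg] at hs
  rw [hs, Valuation.map_neg, map_mul]
  refine mul_le_of_le_one_right' (Valuation.map_sum_le _ fun j _ => ?_)
  rw [map_mul]
  refine mul_le_one' ?_ (hw j P hP)
  generalize (φ j).divX = q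
  induction q using Polynomial.induction_on' with
  | add p q hp hq => rw [map_add]; exact (P.1.map_add _ _).trans (max_le hp hq)
  | monomial m c =>
    rw [aeval_monomial, map_mul, map_pow]
    exact mul_le_one' (P.2.1 c) (pow_le_one₀ zero_le (hSx P hP))

namespace IsFF

theorem finiteDimensional_residueField (hF : IsFF k K) (P : Place k K) :
    FiniteDimensional k (IsLocalRing.ResidueField P.O) := by
  classical
  obtain ⟨t, ht0, ht⟩ := exists_uniformizer P
  have htlt : P.1 t < 1 := by rw [ht, exp_lt_one]; omega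
  haveI := hF.finiteDimensional (transcendental_of_val_lt_one P ht0 htlt)
  let b := Module.Basis.ofVectorSpace k (IsLocalRing.ResidueField P.O)
  choose z hz using fun i => ballRes_surjective P 0 (b i)
  have hli : LinearIndependent (IntermediateField.adjoin k ({t} : Set K)) (fun i => (z i).1) := by
    refine linearIndependent_of_residual ht0 {P} (by simp [htlt.le])
      (fun i Q hQ => by
        rw [Finset.mem_singleton.mp hQ]
        exact (z i).2.trans_eq exp_zero) ?_
    intro s c h
    have hsum : ∑ i ∈ s, c i • b i = 0 := by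
      rw [show ∑ i ∈ s, c i • b i = ballRes P 0 (∑ i ∈ s, c i • z i) by
        rw [map_sum]; exact Finset.sum_congr rfl fun i _ => by rw [map_smul, hz]]
      rw [← LinearMap.mem_ker, ker_ballRes, Submodule.mem_comap, mem_Ball]
      refine le_of_le_of_eq ?_ (ht.trans (by norm_num))
      simpa using h P (Finset.mem_singleton_self P)
    exact linearIndependent_iff'.mp b.linearIndependent s c hsum
  haveI := hli.finite
  exact Module.Finite.of_basis b

theorem deg_pos (hF : IsFF k K) (P : Place k K) : 0 < P.deg := by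
  haveI := hF.finiteDimensional_residueField P
  exact Module.finrank_pos

theorem qfin_ball (hF : IsFF k K) (P : Place k K) (n : ℤ) :
    QFin (Ball P (n - 1)) (Ball P n) P.deg :=
  haveI := hF.finiteDimensional_residueField P
  QFin.of_surjective (fun x (hx : P.1 x ≤ exp (n - 1)) => hx.trans (by rw [exp_le_exp]; omega))
    (ballRes P n) (ballRes_surjective P n) (ker_ballRes P n)

open Classical in
theorem qfin_sball_step (hF : IsFF k K) {S : Finset (Place k K)} {P : Place k K} (hP : P ∈ S)
    (D : Place k K → ℤ) :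
    QFin (SBall S (Function.update D P (D P - 1))) (SBall S D) P.deg := by
  haveI := hF.finiteDimensional_residueField P
  let ι : SBall S D →ₗ[k] Ball P (D P) :=
    Submodule.inclusion fun x hx => mem_SBall.mp hx P hP
  refine QFin.of_surjective ?_ ((ballRes P (D P)).comp ι) ?_ ?_
  · intro x hx
    rw [mem_SBall] at hx ⊢
    intro Q hQ
    refine (hx Q hQ).trans ?_
    rw [exp_le_exp, Function.update_apply]
    split_ifs with h
    · subst h; omega
    · exact le_rfl
  · intro r
    obtain ⟨⟨y, hy⟩, rfl⟩ := ballRes_surjective P (D P) r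
    obtain ⟨z, hz⟩ := exists_val_sub_le S (fun Q => if Q = P then y else 0)
      (fun Q => if Q = P then D P - 1 else D Q)
    have hzP : P.1 (z - y) ≤ exp (D P - 1) := by simpa using hz P hP
    have hzS : z ∈ SBall S D := by
      rw [mem_SBall]
      intro Q hQ
      by_cases h : Q = P
      · subst h
        have : z = (z - y) + y := by ring
        rw [this]
        exact Valuation.map_add_le _ (hzP.trans (by rw [exp_le_exp]; omega)) hy
      · simpa [h] using hz Q hQ
    refine ⟨⟨z, hzS⟩, ?_⟩
    rw [LinearMap.comp_apply, ← sub_eq_zero, ← map_sub, ← LinearMap.mem_ker, ker_ballRes]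
    exact hzP
  · ext x
    rw [LinearMap.mem_ker, LinearMap.comp_apply, ← LinearMap.mem_ker, ker_ballRes,
      Submodule.mem_comap, Submodule.mem_comap, mem_SBall]
    constructor
    · intro h Q hQ
      rw [Function.update_apply]
      split_ifs with e
      · subst e; exact h
      · exact mem_SBall.mp x.2 Q hQ
    · intro h
      have h2 := h P hP
      rw [Function.update_self] at h2
      exact h2

open Classical in
theorem qfin_sball (hF : IsFF k K) (S : Finset (Place k K)) (D : Place k K → ℤ)
    (m : Place k K → ℕ) :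
    QFin (SBall S (fun P => D P - m P)) (SBall S D) (∑ P ∈ S, m P * P.deg) := by
  generalize hN : ∑ P ∈ S, m P = N
  induction N generalizing D m with
  | zero =>
    have h0 := (Finset.sum_eq_zero_iff.mp hN)
    rw [Finset.sum_eq_zero (fun P hP => by simp [h0 P hP])]
    convert QFin.refl (SBall S D) using 1
    ext x
    simp only [mem_SBall]
    exact forall₂_congr fun P hP => by simp [h0 P hP]
  | succ N ih =>
    obtain ⟨P, hP, hmP⟩ : ∃ P ∈ S, m P ≠ 0 := by
      by_contra hc
      push Not at hc
      rw [Finset.sum_eq_zero hc] at hN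
      omega
    set m' := Function.update m P (m P - 1) with hm'
    have hsum : ∀ f : Place k K → ℕ,
        ∑ Q ∈ S, m Q * f Q = (∑ Q ∈ S, m' Q * f Q) + f P := by
      intro f
      have hm : ∀ Q, m Q = m' Q + if Q = P then 1 else 0 := by
        intro Q
        rw [hm', Function.update_apply]
        split_ifs with h
        · subst h; omega
        · rfl
      rw [Finset.sum_congr rfl fun Q _ => show m Q * f Q =
          m' Q * f Q + (if Q = P then f P else 0) by
        rw [hm Q, add_mul]; split_ifs with h <;> simp [h]]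
      rw [Finset.sum_add_distrib, Finset.sum_ite_eq' S P, if_pos hP]
    have hN' : ∑ Q ∈ S, m' Q = N := by
      have := hsum (fun _ => 1)
      simp only [mul_one] at this
      omega
    set D' := Function.update D P (D P - 1) with hD'
    have e : (fun Q => D Q - (m Q : ℤ)) = fun Q => D' Q - (m' Q : ℤ) := by
      funext Q
      rw [hD', hm', Function.update_apply, Function.update_apply]
      split_ifs with h
      · subst h; omega
      · rfl
    rw [hsum, e]
    exact (ih D' m' hN').trans (qfin_sball_step hF hP D)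

/-- The sum of multiplicity times degree over any finite set of zeros of `x` is at most `[K : k(x)]`. -/
theorem sum_ord_mul_deg_le (hF : IsFF k K) {x : K} (hx : Transcendental k x)
    (S : Finset (Place k K)) (hS : ∀ P ∈ S, P.1 x < 1) :
    ∑ P ∈ S, (P.ord x).toNat * P.deg ≤
      Module.finrank (IntermediateField.adjoin k ({x} : Set K)) K := by
  classical
  have hx0 : x ≠ 0 := fun h => hx (h ▸ isAlgebraic_zero)
  haveI := hF.finiteDimensional hx
  obtain ⟨-, hfin, hrk⟩ := qfin_sball hF S 0 (fun P => (P.ord x).toNat)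
  let b := @Module.Free.chooseBasis k
    (↥(SBall S (0 : Place k K → ℤ)) ⧸ Submodule.comap (SBall S (0 : Place k K → ℤ)).subtype
      (SBall S fun P => (0 : Place k K → ℤ) P - ((P.ord x).toNat : ℤ))) _ _ _ _
  choose z hz using fun i => Submodule.Quotient.mk_surjective _ (b i)
  have hli : LinearIndependent (IntermediateField.adjoin k ({x} : Set K)) (fun i => (z i).1) := by
    refine linearIndependent_of_residual hx0 S (fun P hP => (hS P hP).le)
      (fun i P hP => (mem_SBall.mp (z i).2 P hP).trans_eq exp_zero) ?_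
    intro s c h
    have hsum : ∑ i ∈ s, c i • b i = 0 := by
      rw [show ∑ i ∈ s, c i • b i = Submodule.mkQ _ (∑ i ∈ s, c i • z i) by
          rw [map_sum]
          exact Finset.sum_congr rfl fun i _ => by rw [map_smul, Submodule.mkQ_apply, hz],
        Submodule.mkQ_apply, Submodule.Quotient.mk_eq_zero,
        Submodule.mem_comap, mem_SBall]
      intro P hP
      have hpos := (val_lt_one_iff P hx0).mp (hS P hP)
      refine le_of_le_of_eq ?_ ((val_eq_exp_neg_ord P hx0).trans (congrArg exp ?_))
      · simpa using h P hP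
      · simp [Int.toNat_of_nonneg hpos.le]
    exact linearIndependent_iff'.mp b.linearIndependent s c hsum
  haveI := hfin
  have := hli.fintype_card_le_finrank
  rwa [← Module.finrank_eq_card_basis b, hrk] at this

theorem finite_zeros (hF : IsFF k K) (x : K) : {P : Place k K | 0 < P.ord x}.Finite := by
  classical
  by_cases hx : Transcendental k x
  · by_contra hinf
    obtain ⟨T, hT, hTc⟩ := (Set.not_finite.mp hinf).exists_subset_card_eq
      (Module.finrank (IntermediateField.adjoin k ({x} : Set K)) K + 1)
    have hb := hF.sum_ord_mul_deg_le hx T fun P hP => ((ord_pos_iff P x).mp (hT hP)).2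
    have h2 : T.card * 1 ≤ ∑ P ∈ T, (P.ord x).toNat * P.deg := by
      rw [← smul_eq_mul]
      refine T.card_nsmul_le_sum _ 1 fun P hP => Nat.mul_pos ?_ (hF.deg_pos P)
      have : 0 < P.ord x := hT hP
      omega
    omega
  · refine Set.Finite.subset Set.finite_empty fun P hP => ?_
    obtain ⟨h0, h1⟩ := (ord_pos_iff P x).mp hP
    exact absurd (val_eq_one_of_isAlgebraic P (not_not.mp hx) h0) h1.ne

theorem finite_support_ord (hF : IsFF k K) (x : K) :
    (Function.support fun P : Place k K => P.ord x).Finite := by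
  refine ((hF.finite_zeros x).union (hF.finite_zeros x⁻¹)).subset fun P hP => ?_
  simp only [Set.mem_union, Set.mem_ofPred_eq, ord_inv]
  have : P.ord x ≠ 0 := hP
  omega

@[simp] theorem div_apply (hF : IsFF k K) (x : K) (P : Place k K) : div k x P = P.ord x := by
  unfold FunFld.div
  rw [dif_pos (hF.finite_support_ord x)]
  rfl

end IsFF

/-! ### Degrees of divisors -/

theorem deg_zero : (0 : Divisor k K).deg = 0 := rfl

theorem deg_add (D E : Divisor k K) : (D + E).deg = D.deg + E.deg :=
  Finsupp.sum_add_index' (fun _ => zero_mul _) (fun _ _ _ => add_mul _ _ _)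

theorem deg_neg (D : Divisor k K) : (-D).deg = -D.deg := by
  have := deg_add (-D) D
  rw [neg_add_cancel, deg_zero] at this
  linarith

theorem deg_sub (D E : Divisor k K) : (D - E).deg = D.deg - E.deg := by
  rw [sub_eq_add_neg, deg_add, deg_neg]; ring

theorem deg_single (P : Place k K) (n : ℤ) : Divisor.deg (Finsupp.single P n) = n * P.deg :=
  Finsupp.sum_single_index (zero_mul _)

theorem deg_nsmul (m : ℕ) (D : Divisor k K) : (m • D).deg = m * D.deg := by
  induction m with
  | zero => simp [deg_zero]
  | succ m ih => rw [succ_nsmul, deg_add, ih]; push_cast; ring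

theorem deg_nonneg {D : Divisor k K} (h : 0 ≤ D) : 0 ≤ D.deg :=
  Finset.sum_nonneg fun P _ => mul_nonneg (h P) (Int.natCast_nonneg _)

theorem deg_mono {D E : Divisor k K} (h : D ≤ E) : D.deg ≤ E.deg := by
  have := deg_nonneg (sub_nonneg.mpr h)
  rw [deg_sub] at this
  linarith

open Classical in
theorem eq_of_le_of_deg_eq (hF : IsFF k K) {D E : Divisor k K} (h : D ≤ E) (he : D.deg = E.deg) :
    D = E := by
  by_contra hne
  have h0 : 0 ≤ E - D := sub_nonneg.mpr h
  obtain ⟨P, hP⟩ : ∃ P, (E - D) P ≠ 0 := by
    by_contra! hc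
    exact hne (sub_eq_zero.mp (Finsupp.ext hc : E - D = 0)).symm
  have hle : Finsupp.single P 1 ≤ E - D := by
    intro Q
    rw [Finsupp.single_apply]
    split_ifs with e
    · subst e; have := h0 P; simp only [Finsupp.coe_zero, Pi.zero_apply] at this; omega
    · exact h0 Q
  have h1 := deg_mono hle
  rw [deg_single, deg_sub] at h1
  have := hF.deg_pos P
  omega

/-! ### `A(D)` and `L(D)` -/

theorem mem_L {D : Divisor k K} {x : K} : x ∈ L D ↔ ∀ P, P.1 x ≤ exp (D P) := Iff.rfl

theorem mem_AD {D : Divisor k K} {a : Place k K → K} : a ∈ AD D ↔ ∀ P, P.1 (a P) ≤ exp (D P) :=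
  Iff.rfl

theorem comap_diag (D : Divisor k K) : (AD D).comap (diag k K) = L D := rfl

theorem AD_mono {D E : Divisor k K} (h : D ≤ E) : AD D ≤ AD E :=
  fun _ ha P => (ha P).trans (exp_le_exp.mpr (h P))

theorem L_mono {D E : Divisor k K} (h : D ≤ E) : L D ≤ L E :=
  fun _ ha P => (ha P).trans (exp_le_exp.mpr (h P))

namespace IsFF

open Classical in
theorem qfin_AD_step (hF : IsFF k K) (D : Divisor k K) (P : Place k K) :
    QFin (AD D) (AD (D + Finsupp.single P 1)) P.deg := by
  haveI := hF.finiteDimensional_residueField P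
  let ev : AD (D + Finsupp.single P 1) →ₗ[k] Ball P (D P + 1) :=
    ((LinearMap.proj P).comp (Submodule.subtype _)).codRestrict _ fun a => by
      simpa using a.2 P
  refine QFin.of_surjective (AD_mono fun Q => ?_) ((ballRes P (D P + 1)).comp ev) ?_ ?_
  · simp only [Finsupp.add_apply, Finsupp.single_apply]; split_ifs <;> omega
  · intro r
    obtain ⟨⟨y, hy⟩, rfl⟩ := ballRes_surjective P (D P + 1) r
    refine ⟨⟨Pi.single P y, fun Q => ?_⟩, ?_⟩
    · by_cases h : Q = P
      · subst h; simpa using hy
      · simp [h]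
    · simp only [LinearMap.comp_apply]
      congr 1
      ext
      simp [ev]
  · ext a
    rw [LinearMap.mem_ker, LinearMap.comp_apply, ← LinearMap.mem_ker, ker_ballRes,
      Submodule.mem_comap, Submodule.mem_comap, mem_AD]
    simp only [add_sub_cancel_right]
    constructor
    · intro h Q
      by_cases e : Q = P
      · subst e; exact h
      · simpa [Finsupp.single_apply, Ne.symm e] using a.2 Q
    · exact fun h => h P

theorem qfin_AD (hF : IsFF k K) {D E : Divisor k K} (h : D ≤ E) :
    QFin (AD D) (AD E) (E.deg - D.deg).toNat := by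
  classical
  suffices H : ∀ F : Divisor k K, 0 ≤ F → ∀ D, QFin (AD D) (AD (D + F)) F.deg.toNat by
    have := H (E - D) (sub_nonneg.mpr h) D
    rwa [deg_sub, add_sub_cancel] at this
  intro F
  induction F using Finsupp.induction with
  | zero => intro _ D; simpa [deg_zero] using QFin.refl (AD D)
  | single_add P n F hPF hn ih =>
    intro h0 D
    have hn0 : 0 ≤ n := by
      have := h0 P
      simpa [Finsupp.notMem_support_iff.mp hPF] using this
    have hF0 : 0 ≤ F := fun Q => by
      have := h0 Q
      by_cases e : Q = P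
      · subst e; simp [Finsupp.notMem_support_iff.mp hPF]
      · simpa [Finsupp.single_apply, Ne.symm e] using this
    obtain ⟨m, rfl⟩ := Int.eq_ofNat_of_zero_le hn0
    have hs : ∀ (m : ℕ) (D : Divisor k K),
        QFin (AD D) (AD (D + Finsupp.single P (m : ℤ))) (m * P.deg) := by
      intro m
      induction m with
      | zero => intro D; simpa using QFin.refl (AD D)
      | succ m ihm =>
        intro D
        have e : D + Finsupp.single P ((m + 1 : ℕ) : ℤ) =
            D + Finsupp.single P (m : ℤ) + Finsupp.single P 1 := by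
          rw [add_assoc, ← Finsupp.single_add]; norm_num
        rw [e, add_mul, one_mul]
        exact (ihm D).trans (hF.qfin_AD_step _ P)
    have := (hs m D).trans (ih hF0 (D + Finsupp.single P (m : ℤ)))
    rw [add_assoc] at this
    convert this using 2
    rw [deg_add, deg_single]
    have := deg_nonneg hF0
    have h2 : ((m * P.deg : ℕ) : ℤ) = (m : ℤ) * P.deg := by push_cast; ring
    omega

theorem eq_zero_of_pos_ord (hF : IsFF k K) {x : K} (hx : x ∈ L (0 : Divisor k K)) (P : Place k K)
    (h : P.1 x < 1) : x = 0 := by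
  by_contra h0
  have ht : Transcendental k x⁻¹ := fun ha =>
    transcendental_of_val_lt_one P h0 h (inv_inv x ▸ ha.inv)
  obtain ⟨Q, hQ⟩ := hF.exists_zero_place ht
  rw [map_inv₀, inv_lt_one_iff₀] at hQ
  rcases hQ with hQ | hQ
  · exact h0 (by simpa using le_zero_iff.mp hQ)
  · exact absurd ((hx Q).trans_eq exp_zero) (not_le.mpr hQ)

theorem nonempty_place (hF : IsFF k K) : Nonempty (Place k K) :=
  let ⟨_, hx, _⟩ := hF
  let ⟨P, _⟩ := hF.exists_zero_place hx
  ⟨P⟩

theorem finiteDimensional_L0 (hF : IsFF k K) : FiniteDimensional k (L (0 : Divisor k K)) := by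
  obtain ⟨P⟩ := hF.nonempty_place
  haveI := hF.finiteDimensional_residueField P
  let f : L (0 : Divisor k K) →ₗ[k] IsLocalRing.ResidueField P.O :=
    (ballRes P 0).comp (Submodule.inclusion fun x hx => hx P)
  refine FiniteDimensional.of_injective f ?_
  rw [← LinearMap.ker_eq_bot, Submodule.eq_bot_iff]
  intro x hx
  rw [LinearMap.mem_ker, LinearMap.comp_apply, ← LinearMap.mem_ker, ker_ballRes] at hx
  refine Subtype.ext (hF.eq_zero_of_pos_ord x.2 P ?_)
  have hx' : P.1 (x : K) ≤ exp (0 - 1) := hx
  exact lt_one_iff_le_exp_neg_one.mpr (by simpa using hx')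

theorem finiteDimensional_L (hF : IsFF k K) (D : Divisor k K) : FiniteDimensional k (L D) := by
  obtain ⟨m, -, hm⟩ := (hF.qfin_AD (le_sup_right : (0 : Divisor k K) ≤ D ⊔ 0)).comap_le (diag k K)
  haveI : FiniteDimensional k ((AD (0 : Divisor k K)).comap (diag k K)) := hF.finiteDimensional_L0
  haveI : FiniteDimensional k (L (D ⊔ (0 : Divisor k K))) := hm.finite_and_finrank.1
  exact Submodule.finiteDimensional_of_le (L_mono (le_sup_left : D ≤ D ⊔ 0))

theorem ell_sub_le (hF : IsFF k K) {D E : Divisor k K} (h : D ≤ E) :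
    (ell E : ℤ) - ell D ≤ E.deg - D.deg := by
  obtain ⟨m, hle, hm⟩ := (hF.qfin_AD h).comap_le (diag k K)
  haveI : FiniteDimensional k ((AD D).comap (diag k K)) := hF.finiteDimensional_L D
  have he : ell E = ell D + m := hm.finite_and_finrank.2
  have := deg_mono h
  omega

theorem ell_le_of_nonneg (hF : IsFF k K) {D : Divisor k K} (h : 0 ≤ D) :
    (ell D : ℤ) ≤ D.deg + ell (0 : Divisor k K) := by
  have := hF.ell_sub_le h
  rw [deg_zero] at this
  linarith

/-- The divisor of zeros of `x`. -/
noncomputable def _root_.Groth.FunFld1.zeroDiv (k : Type*) {K : Type*} [Field k] [Field K]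
    [Algebra k K] (x : K) : Divisor k K :=
  div k x ⊔ 0

theorem zeroDiv_apply (hF : IsFF k K) (x : K) (P : Place k K) :
    zeroDiv k x P = max (P.ord x) 0 := by
  simp [zeroDiv, hF.div_apply]

theorem zeroDiv_nonneg (x : K) : 0 ≤ zeroDiv k x := le_sup_right

theorem val_le_exp_zeroDiv_inv (hF : IsFF k K) (x : K) (P : Place k K) :
    P.1 x ≤ exp (zeroDiv k x⁻¹ P) := by
  by_cases hx : x = 0
  · simp [hx]
  · rw [val_le_exp_iff P hx, hF.zeroDiv_apply, ord_inv]; omega

theorem deg_zeroDiv_le (hF : IsFF k K) {x : K} (hx : Transcendental k x) :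
    (zeroDiv k x).deg ≤ Module.finrank (IntermediateField.adjoin k ({x} : Set K)) K := by
  classical
  have hb := hF.sum_ord_mul_deg_le hx (zeroDiv k x).support fun P hP => by
    rw [Finsupp.mem_support_iff, hF.zeroDiv_apply] at hP
    exact ((ord_pos_iff P x).mp (by omega)).2
  refine le_trans (le_of_eq ?_) (Int.ofNat_le.mpr hb)
  push_cast
  refine Finset.sum_congr rfl fun P hP => ?_
  rw [Finsupp.mem_support_iff, hF.zeroDiv_apply] at hP
  rw [hF.zeroDiv_apply]
  congr 1
  omega

theorem adjoin_inv_eq (x : K) :
    IntermediateField.adjoin k ({x⁻¹} : Set K) = IntermediateField.adjoin k ({x} : Set K) := by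
  apply le_antisymm <;> rw [IntermediateField.adjoin_simple_le_iff]
  · exact inv_mem (IntermediateField.mem_adjoin_simple_self k x)
  · simpa using inv_mem (IntermediateField.mem_adjoin_simple_self k x⁻¹)

theorem transcendental_inv {x : K} (hx : Transcendental k x) : Transcendental k x⁻¹ :=
  fun h => hx (inv_inv x ▸ h.inv)

/-- The lower bound `(m+1) n ≤ ℓ(m A + C)` for `A` the pole divisor of `x`. -/
theorem exists_mul_le_ell (hF : IsFF k K) {x : K} (hx : Transcendental k x) :
    ∃ C : Divisor k K, 0 ≤ C ∧ ∀ m : ℕ,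
      (m + 1) * Module.finrank (IntermediateField.adjoin k ({x} : Set K)) K ≤
        ell (m • zeroDiv k x⁻¹ + C) := by
  classical
  haveI := hF.finiteDimensional hx
  let u := Module.finBasis (IntermediateField.adjoin k ({x} : Set K)) K
  refine ⟨∑ i, zeroDiv k (u i)⁻¹, Finset.sum_nonneg fun i _ => zeroDiv_nonneg _, fun m => ?_⟩
  set D := m • zeroDiv k x⁻¹ + ∑ i, zeroDiv k (u i)⁻¹ with hD
  let g : IntermediateField.adjoin k ({x} : Set K) := IntermediateField.AdjoinSimple.gen k x
  have hg : LinearIndependent k (fun j : Fin (m + 1) => g ^ (j : ℕ)) := by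
    refine LinearIndependent.of_comp (IntermediateField.val _).toLinearMap ?_
    have hinj : Function.Injective (aeval x : k[X] →ₐ[k] K) := transcendental_iff_injective.mp hx
    have h1 := ((Polynomial.basisMonomials k).linearIndependent.map'
      (aeval x : k[X] →ₐ[k] K).toLinearMap (LinearMap.ker_eq_bot.mpr hinj)).comp
      (fun j : Fin (m + 1) => (j : ℕ)) Fin.val_injective
    have e : ⇑(IntermediateField.val (IntermediateField.adjoin k ({x} : Set K))).toLinearMap ∘
        (fun j : Fin (m + 1) => g ^ (j : ℕ)) =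
        (⇑(aeval x : k[X] →ₐ[k] K).toLinearMap ∘ ⇑(Polynomial.basisMonomials k)) ∘
          fun j : Fin (m + 1) => (j : ℕ) := by
      ext j
      simp [g]
    rw [e]
    exact h1
  have hli := linearIndependent_smul hg u.linearIndependent
  have hmem : ∀ p : Fin (m + 1) × _, (g ^ (p.1 : ℕ)) • u p.2 ∈ L D := by
    intro p P
    show P.1 ((g ^ (p.1 : ℕ) : IntermediateField.adjoin k ({x} : Set K)).1 * u p.2) ≤ _
    rw [map_mul, hD, Finsupp.add_apply, exp_add, Finsupp.coe_finsetSum, Finset.sum_apply]
    refine mul_le_mul' ?_ ?_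
    · rw [SubmonoidClass.coe_pow, map_pow]
      have h1 := hF.val_le_exp_zeroDiv_inv x P
      have h0 : 0 ≤ zeroDiv k x⁻¹ P := zeroDiv_nonneg _ P
      refine (pow_le_pow_left₀ zero_le h1 _).trans ?_
      rw [← exp_nsmul, exp_le_exp, Finsupp.smul_apply, nsmul_eq_mul, nsmul_eq_mul]
      exact mul_le_mul_of_nonneg_right (by exact_mod_cast Nat.lt_succ_iff.mp p.1.2) h0
    · refine (hF.val_le_exp_zeroDiv_inv _ P).trans ?_
      rw [exp_le_exp]
      exact Finset.single_le_sum (f := fun i => zeroDiv k (u i)⁻¹ P)
        (fun i _ => zeroDiv_nonneg _ P) (Finset.mem_univ p.2)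
  haveI := hF.finiteDimensional_L D
  have hli' : LinearIndependent k (fun p => (⟨_, hmem p⟩ : L D)) :=
    LinearIndependent.of_comp (L D).subtype hli
  have := hli'.fintype_card_le_finrank
  simpa [ell, Fintype.card_prod] using this

theorem deg_poleDiv_eq (hF : IsFF k K) {x : K} (hx : Transcendental k x) :
    (zeroDiv k x⁻¹).deg = Module.finrank (IntermediateField.adjoin k ({x} : Set K)) K := by
  refine le_antisymm ?_ ?_
  · have := hF.deg_zeroDiv_le (transcendental_inv hx)
    rwa [adjoin_inv_eq] at this
  · obtain ⟨C, hC, hm⟩ := hF.exists_mul_le_ell hx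
    set n := Module.finrank (IntermediateField.adjoin k ({x} : Set K)) K
    set a := (zeroDiv k x⁻¹).deg
    by_contra hlt
    push Not at hlt
    set c := C.deg + ell (0 : Divisor k K)
    have hbound : ∀ m : ℕ, ((m : ℤ) + 1) * n ≤ m * a + c := fun m => by
      have h1 := hm m
      have h2 := hF.ell_le_of_nonneg (D := m • zeroDiv k x⁻¹ + C)
        (add_nonneg (nsmul_nonneg (zeroDiv_nonneg _) m) hC)
      rw [deg_add, deg_nsmul] at h2
      have : (((m + 1) * n : ℕ) : ℤ) ≤ ell (m • zeroDiv k x⁻¹ + C) := by exact_mod_cast h1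
      push_cast at this
      linarith
    have := hbound c.toNat
    have hc := Int.self_le_toNat c
    haveI := hF.finiteDimensional hx
    have hn : (0 : ℤ) < n := by exact_mod_cast Module.finrank_pos
    nlinarith

theorem deg_zeroDiv_eq (hF : IsFF k K) {x : K} (hx : Transcendental k x) :
    (zeroDiv k x).deg = Module.finrank (IntermediateField.adjoin k ({x} : Set K)) K := by
  have := hF.deg_poleDiv_eq (transcendental_inv hx)
  rwa [inv_inv, adjoin_inv_eq] at this

theorem deg_div (hF : IsFF k K) (x : K) : (div k x).deg = 0 := by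
  by_cases hx : Transcendental k x
  · have e : div k x = zeroDiv k x - zeroDiv k x⁻¹ := by
      ext P
      rw [Finsupp.sub_apply, hF.div_apply, hF.zeroDiv_apply, hF.zeroDiv_apply, ord_inv]
      omega
    rw [e, deg_sub, hF.deg_zeroDiv_eq hx, hF.deg_poleDiv_eq hx, sub_self]
  · have e : div k x = 0 := by
      ext P
      rw [hF.div_apply, Finsupp.coe_zero, Pi.zero_apply]
      by_cases h0 : x = 0
      · simp [h0]
      · exact (val_eq_one_iff P h0).mp (val_eq_one_of_isAlgebraic P (not_not.mp hx) h0)
    rw [e, deg_zero]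

end IsFF

end Groth.FunFld1
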