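import Groth.Agent.FunFld1.Geometric
import Mathlib.RingTheory.TensorProduct.MvPolynomial
import Mathlib.RingTheory.Polynomial.GaussLemma
import Mathlib.RingTheory.Polynomial.UniqueFactorization
import Mathlib.RingTheory.AlgebraicIndependent.TranscendenceBasis
import Mathlib.Algebra.MvPolynomial.Equiv
import Mathlib.FieldTheory.PrimitiveElement

/-!
Plane equations over an arbitrary field: geometricity and absolute irreducibility.
-/

set_option linter.style.haveILetI false
set_option linter.unusedSectionVars false

open FunFld MvPolynomial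
open scoped TensorProduct IntermediateField

namespace Groth.FunFld1

universe u

variable {k : Type u} {K : Type*} [Field k] [Field K] [Algebra k K]

theorem aeval_finSucc (v : Fin 2 → K) (f : MvPolynomial (Fin 2) k) :
    (finSuccEquiv k 1 f).eval₂ (aeval ![v 1] : MvPolynomial (Fin 1) k →ₐ[k] K).toRingHom (v 0) =
      aeval v f := by
  have e : ((Polynomial.eval₂RingHom (aeval ![v 1] : MvPolynomial (Fin 1) k →ₐ[k] K).toRingHom (v 0)).comp
      (finSuccEquiv k 1).toAlgHom.toRingHom) = (aeval v : MvPolynomial (Fin 2) k →ₐ[k] K).toRingHom := by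
    refine MvPolynomial.ringHom_ext (fun c => ?_) fun i => ?_
    · simp [finSuccEquiv_apply]
    · fin_cases i
      · simp [finSuccEquiv_apply]
      · simp [finSuccEquiv_apply, Fin.cases, Fin.induction, Fin.induction.go]
  exact RingHom.congr_fun e f

theorem aeval_fin_one_injective {b : K} (hb : Transcendental k b) :
    Function.Injective (aeval ![b] : MvPolynomial (Fin 1) k →ₐ[k] K) := by
  have h : AlgebraicIndependent k ![b] := algebraicIndependent_unique_type_iff.mpr hb
  exact h

/-- With `b` transcendental, the kernel at `(a, b)` is generated by any irreducible element of it. -/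
theorem ker_eq_span_of_irreducible {v : Fin 2 → K} (hb : Transcendental k (v 1))
    {f : MvPolynomial (Fin 2) k} (hf : Irreducible f) (hfv : aeval v f = 0) :
    RingHom.ker (aeval v : MvPolynomial (Fin 2) k →ₐ[k] K) = Ideal.span {f} := by
  classical
  refine le_antisymm (fun g hg => ?_) (by rw [Ideal.span_le, Set.singleton_subset_iff]; exact hfv)
  set e := finSuccEquiv k 1
  set ψ := (aeval ![v 1] : MvPolynomial (Fin 1) k →ₐ[k] K).toRingHom with hψ
  have hψinj : Function.Injective ψ := aeval_fin_one_injective hb
  set R := MvPolynomial (Fin 1) k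
  set L := FractionRing R
  have hF : Irreducible (e f) := (MulEquiv.irreducible_iff e.toRingEquiv.toMulEquiv).mpr hf
  have hev : ∀ p, (e p).eval₂ ψ (v 0) = aeval v p := aeval_finSucc v
  have hdeg : (e f).natDegree ≠ 0 := by
    intro h0
    have he := hev f
    rw [hfv, Polynomial.eq_C_of_natDegree_eq_zero h0, Polynomial.eval₂_C] at he
    have : (e f).coeff 0 = 0 := hψinj (he.trans ψ.map_zero.symm)
    rw [Polynomial.eq_C_of_natDegree_eq_zero h0, this, Polynomial.C_0] at hF
    exact hF.ne_zero rfl
  have hprim := hF.isPrimitive hdeg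
  have hirr : Irreducible ((e f).map (algebraMap R L)) :=
    (hprim.irreducible_iff_irreducible_map_fraction_map (K := L)).mp hF
  by_contra hng
  have hnd : ¬ (e f).map (algebraMap R L) ∣ (e g).map (algebraMap R L) := by
    intro hd
    refine hng (Ideal.mem_span_singleton.mpr ?_)
    have := (hprim.dvd_iff_fraction_map_dvd_fraction_map (K := L)).mpr hd
    simpa using map_dvd e.symm this
  obtain ⟨A, B, hAB⟩ := hirr.coprime_iff_not_dvd.mpr hnd
  obtain ⟨c₁, hc₁⟩ := IsLocalization.integerNormalization_map_to_map (nonZeroDivisors R) A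
  obtain ⟨c₂, hc₂⟩ := IsLocalization.integerNormalization_map_to_map (nonZeroDivisors R) B
  set A' := IsLocalization.integerNormalization (nonZeroDivisors R) A
  set B' := IsLocalization.integerNormalization (nonZeroDivisors R) B
  have key : Polynomial.C ((c₁ : R) * c₂) =
      Polynomial.C (c₂ : R) * A' * e f + Polynomial.C (c₁ : R) * B' * e g := by
    apply Polynomial.map_injective _ (IsFractionRing.injective R L)
    rw [← Polynomial.coe_mapRingHom]
    simp only [map_mul, map_add, Polynomial.coe_mapRingHom, Polynomial.map_C, hc₁, hc₂,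
      Algebra.smul_def, Polynomial.algebraMap_apply]
    linear_combination (-(Polynomial.C (algebraMap R L c₁) * Polynomial.C (algebraMap R L c₂))) * hAB
  have h0 := congrArg (Polynomial.eval₂ ψ (v 0)) key
  rw [Polynomial.eval₂_C, Polynomial.eval₂_add, Polynomial.eval₂_mul, Polynomial.eval₂_mul,
    Polynomial.eval₂_mul, Polynomial.eval₂_mul, hev, hev, hfv, show aeval v g = 0 from hg,
    mul_zero, mul_zero, add_zero, ← ψ.map_zero] at h0
  exact mul_ne_zero (nonZeroDivisors.coe_ne_zero c₁) (nonZeroDivisors.coe_ne_zero c₂) (hψinj h0)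

/-- With `b` transcendental and a nonzero relation, `a` is algebraic over `k(b)`. -/
theorem isAlgebraic_of_relation {v : Fin 2 → K} (hb : Transcendental k (v 1))
    {f : MvPolynomial (Fin 2) k} (hf : f ≠ 0) (hfv : aeval v f = 0) :
    IsAlgebraic (IntermediateField.adjoin k ({v 1} : Set K)) (v 0) := by
  set F := IntermediateField.adjoin k ({v 1} : Set K)
  let θ : MvPolynomial (Fin 1) k →ₐ[k] F := aeval ![⟨v 1, IntermediateField.mem_adjoin_simple_self k _⟩]
  have hθ : (algebraMap F K).comp θ.toRingHom = (aeval ![v 1] : MvPolynomial (Fin 1) k →ₐ[k] K).toRingHom := by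
    refine MvPolynomial.ringHom_ext (fun c => ?_) fun i => ?_
    · simp [θ, ← IsScalarTower.algebraMap_apply]
    · simp [θ]
  have hinj : Function.Injective θ.toRingHom := fun a b h => aeval_fin_one_injective hb <| by
    have := congrArg (algebraMap F K) h
    rwa [← RingHom.comp_apply, ← RingHom.comp_apply, hθ] at this
  refine ⟨(finSuccEquiv k 1 f).map θ.toRingHom, ?_, ?_⟩
  · rw [ne_eq, Polynomial.map_eq_zero_iff hinj]
    exact fun h => hf ((map_eq_zero_iff _ (finSuccEquiv k 1).injective).mp h)
  · rw [Polynomial.aeval_def, Polynomial.eval₂_map, hθ, aeval_finSucc, hfv]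

theorem isFF_of_plane_relation {a b : K} (hab : IntermediateField.adjoin k ({a, b} : Set K) = ⊤)
    (hb : Transcendental k b) {f : MvPolynomial (Fin 2) k} (hf : f ≠ 0) (hfv : aeval ![a, b] f = 0) :
    IsFF k K := by
  refine ⟨b, hb, ?_⟩
  have halg : IsAlgebraic (IntermediateField.adjoin k ({b} : Set K)) a :=
    isAlgebraic_of_relation (v := ![a, b]) hb hf hfv
  haveI := IntermediateField.adjoin.finiteDimensional halg.isIntegral
  have htop : IntermediateField.adjoin (IntermediateField.adjoin k ({b} : Set K)) ({a} : Set K) = ⊤ := by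
    rw [← IntermediateField.restrictScalars_eq_top_iff (K := k),
      IntermediateField.adjoin_adjoin_left, Set.union_singleton, hab]
  have := (IntermediateField.equivOfEq htop).toLinearEquiv.finiteDimensional
  exact Module.Finite.equiv IntermediateField.topEquiv.toLinearEquiv

/-- `k' ⊗ k[x,y]` against `k'[X,Y]` modulo the equation. -/
theorem isDomain_tensor_range_iff {k' : Type*} [Field k'] [Algebra k k'] {v : Fin 2 → K}
    {f : MvPolynomial (Fin 2) k}
    (hker : RingHom.ker (aeval v : MvPolynomial (Fin 2) k →ₐ[k] K) = Ideal.span {f}) :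
    IsDomain (k' ⊗[k] (aeval v : MvPolynomial (Fin 2) k →ₐ[k] K).range) ↔
      (Ideal.span {MvPolynomial.map (algebraMap k k') f}).IsPrime := by
  set η := (aeval v : MvPolynomial (Fin 2) k →ₐ[k] K) with hη
  set q := η.rangeRestrict
  let e := MvPolynomial.algebraTensorAlgEquiv (σ := Fin 2) k k'
  let Ψ : MvPolynomial (Fin 2) k' →ₐ[k] k' ⊗[k] η.range :=
    (Algebra.TensorProduct.map (AlgHom.id k k') q).comp (e.symm.restrictScalars k).toAlgHom
  have hqs : Function.Surjective q := η.rangeRestrict_surjective
  have hsurj : Function.Surjective Ψ :=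
    (Algebra.TensorProduct.map_surjective (AlgHom.id k k') q Function.surjective_id hqs).comp
      e.symm.surjective
  have hkerq : RingHom.ker q = Ideal.span {f} := by
    rw [← hker]
    ext p
    simp only [RingHom.mem_ker]
    exact ⟨fun h => congrArg Subtype.val h, fun h => Subtype.ext h⟩
  have hkΨ : RingHom.ker Ψ = Ideal.span {MvPolynomial.map (algebraMap k k') f} := by
    have h1 : RingHom.ker Ψ = Ideal.comap e.symm.toRingEquiv.toRingHom
        (RingHom.ker (Algebra.TensorProduct.map (AlgHom.id k k') q)) := by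
      ext p; rfl
    rw [h1, Algebra.TensorProduct.lTensor_ker q hqs, hkerq, Ideal.map_span, Set.image_singleton]
    have h2 : (Algebra.TensorProduct.includeRight : MvPolynomial (Fin 2) k →ₐ[k] k' ⊗[k] _) f =
        e.symm.toRingEquiv (MvPolynomial.map (algebraMap k k') f) :=
      (MvPolynomial.algebraTensorAlgEquiv_symm_map k k' f).symm
    rw [h2]
    rw [← Set.image_singleton (f := e.symm.toRingEquiv), ← Ideal.map_span]
    exact Ideal.comap_map_of_bijective _ e.symm.bijective
  rw [← hkΨ]
  constructor
  · intro h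
    exact RingHom.ker_isPrime Ψ
  · intro h
    exact (Ideal.quotientKerAlgEquivOfSurjective hsurj).symm.toMulEquiv.isDomain _

theorem range_aeval_frac {v : Fin 2 → K} (hv : IntermediateField.adjoin k (Set.range v) = ⊤) (y : K) :
    ∃ a d : (aeval v : MvPolynomial (Fin 2) k →ₐ[k] K).range, (d : K) ≠ 0 ∧ y * d = a := by
  have hy : y ∈ IntermediateField.adjoin k (Set.range v) := hv ▸ IntermediateField.mem_top
  obtain ⟨r, hr, s, hs, rfl⟩ := IntermediateField.mem_adjoin_iff_div.mp hy
  rw [Algebra.adjoin_range_eq_range_aeval] at hr hs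
  by_cases h0 : s = 0
  · exact ⟨0, 1, by simp, by simp [h0]⟩
  · exact ⟨⟨r, hr⟩, ⟨s, hs⟩, h0, div_mul_cancel₀ r h0⟩

theorem exists_abs_irreducible_model (hK : IsFunctionField k K) (hg : IsGeometric k K) :
    ∃ (x y : K) (f : MvPolynomial (Fin 2) k),
      IntermediateField.adjoin k ({x, y} : Set K) = ⊤ ∧
      (∀ (k' : Type u) [Field k'] [Algebra k k'], FiniteDimensional k k' →
        Irreducible (MvPolynomial.map (algebraMap k k') f)) ∧
      RingHom.ker (aeval ![x, y] : MvPolynomial (Fin 2) k →ₐ[k] K) = Ideal.span {f} := by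
  classical
  have hF := IsFF.of_isFunctionField hK
  obtain ⟨b, hb, hsep⟩ := Groth.Funfld2.Residue.exists_separating hF hg
  haveI := hF.finiteDimensional hb
  obtain ⟨a, ha⟩ := Field.exists_primitive_element (IntermediateField.adjoin k ({b} : Set K)) K
  have hab : IntermediateField.adjoin k ({a, b} : Set K) = ⊤ := by
    have h2 := (IntermediateField.restrictScalars_eq_top_iff (K := k)).mpr ha
    rwa [IntermediateField.adjoin_adjoin_left, Set.union_singleton] at h2
  set η := (aeval ![a, b] : MvPolynomial (Fin 2) k →ₐ[k] K)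
  have hne : RingHom.ker η ≠ ⊥ := by
    intro h0
    have hind : AlgebraicIndependent k ![a, b] := (RingHom.injective_iff_ker_eq_bot _).mpr h0
    have := hind.lift_cardinalMk_le_trdeg
    rw [hF.trdeg_eq_one] at this
    simp at this
  haveI hP : (RingHom.ker η).IsPrime := RingHom.ker_isPrime _
  obtain ⟨f, hfmem, hfp⟩ := hP.exists_mem_prime_of_ne_bot hne
  have hker := ker_eq_span_of_irreducible (v := ![a, b]) hb hfp.irreducible hfmem
  refine ⟨a, b, f, hab, fun k' _ _ _ => ?_, hker⟩
  haveI : IsDomain (k' ⊗[k] K) := (hg k' inferInstance).isDomain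
  have hinj : Function.Injective (Algebra.TensorProduct.map (AlgHom.id k k') η.range.val) :=
    Module.Flat.lTensor_preserves_injective_linearMap (M := k') η.range.val.toLinearMap
      Subtype.val_injective
  have hd : IsDomain (k' ⊗[k] η.range) :=
    Function.Injective.isDomain (Algebra.TensorProduct.map (AlgHom.id k k') η.range.val).toRingHom hinj
  have hprime := (isDomain_tensor_range_iff (k' := k') hker).mp hd
  have hne0 : MvPolynomial.map (algebraMap k k') f ≠ 0 := by
    rw [ne_eq, map_eq_zero_iff _ (MvPolynomial.map_injective _ (algebraMap k k').injective)]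
    exact hfp.ne_zero
  exact ((Ideal.span_singleton_prime hne0).mp hprime).irreducible

theorem isGeometric_of_abs_irreducible {x y : K} {f : MvPolynomial (Fin 2) k}
    (hxy : IntermediateField.adjoin k ({x, y} : Set K) = ⊤)
    (hirr : ∀ (k' : Type u) [Field k'] [Algebra k k'], FiniteDimensional k k' →
      Irreducible (MvPolynomial.map (algebraMap k k') f))
    (hker : RingHom.ker (aeval ![x, y] : MvPolynomial (Fin 2) k →ₐ[k] K) = Ideal.span {f}) :
    IsFunctionField k K ∧ IsGeometric k K := by
  classical
  have hf : Irreducible f := by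
    have := hirr k inferInstance
    rwa [Algebra.algebraMap_self, MvPolynomial.map_id] at this
  have hf0 : aeval ![x, y] f = 0 := by
    rw [← RingHom.mem_ker, hker]
    exact Ideal.mem_span_singleton_self f
  have hgeo : IsGeometric k K := by
    intro k' _ _ _
    set η := (aeval ![x, y] : MvPolynomial (Fin 2) k →ₐ[k] K)
    haveI : IsDomain (k' ⊗[k] η.range) := (isDomain_tensor_range_iff (k' := k') hker).mpr
      ((Ideal.span_singleton_prime (hirr k' inferInstance).ne_zero).mpr (hirr k' inferInstance).prime)
    have hr : Set.range ![x, y] = {x, y} := by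
      rw [Matrix.range_cons, Matrix.range_cons, Matrix.range_empty, Set.union_empty, Set.singleton_union]
    have := isDomain_tensor_of_frac (k' := k') η.range.val Subtype.val_injective
      (range_aeval_frac (hr ▸ hxy))
    exact isField_tensor_of_isDomain
      (MulEquiv.isDomain (k' ⊗[k] K) (Algebra.TensorProduct.comm k K k').toRingEquiv.toMulEquiv)
  refine ⟨⟨?_, fun z hz => IsGeometric.mem_range hgeo hz⟩, hgeo⟩
  by_cases hy : Transcendental k y
  · exact isFF_of_plane_relation hxy hy hf.ne_zero hf0
  by_cases hx : Transcendental k x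
  · refine isFF_of_plane_relation (a := y) (b := x) (by rwa [Set.pair_comm]) hx
      (f := rename (Equiv.swap 0 1) f) ?_ ?_
    · rw [ne_eq, map_eq_zero_iff _ (rename_injective _ (Equiv.swap 0 1).injective)]
      exact hf.ne_zero
    · rw [aeval_rename, show ![y, x] ∘ Equiv.swap (0 : Fin 2) 1 = ![x, y] from by
        funext i; fin_cases i <;> simp]
      exact hf0
  exfalso
  obtain ⟨c, hc⟩ := IsGeometric.mem_range hgeo (not_not.mp hx)
  obtain ⟨d, hd⟩ := IsGeometric.mem_range hgeo (not_not.mp hy)
  have h1 : f ∣ X 0 - C c := by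
    rw [← Ideal.mem_span_singleton, ← hker, RingHom.mem_ker]; simp [hc]
  have h2 : f ∣ X 1 - C d := by
    rw [← Ideal.mem_span_singleton, ← hker, RingHom.mem_ker]; simp [hd]
  obtain ⟨u, hu⟩ := h1
  obtain ⟨w, hw⟩ := h2
  -- a cofactor of a linear polynomial is a unit
  have hA : ∀ (i : Fin 2) (e : k) (t : MvPolynomial (Fin 2) k), X i - C e = f * t → IsUnit t := by
    intro i e t ht
    have hdeg : (X i - C e : MvPolynomial (Fin 2) k).totalDegree ≤ 1 :=
      (totalDegree_sub_C_le _ _).trans (totalDegree_X i).le
    have hne : (X i - C e : MvPolynomial (Fin 2) k) ≠ 0 := fun h => by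
      have := congrArg (coeff (Finsupp.single i 1)) h
      simp [coeff_C, (Finsupp.single_ne_zero.mpr one_ne_zero).symm] at this
    rw [ht] at hdeg hne
    rw [totalDegree_mul_of_isDomain (left_ne_zero_of_mul hne) (right_ne_zero_of_mul hne)] at hdeg
    have hf1 : f.totalDegree ≠ 0 := by
      intro h0
      rw [totalDegree_eq_zero_iff_eq_C.mp h0] at hf
      by_cases hc0 : coeff 0 f = 0
      · exact hf.ne_zero (by rw [hc0, map_zero])
      · exact hf.not_isUnit ((isUnit_iff_ne_zero.mpr hc0).map C)
    have ht0 : t.totalDegree = 0 := by omega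
    rw [totalDegree_eq_zero_iff_eq_C.mp ht0] at ht ⊢
    refine (isUnit_iff_ne_zero.mpr ?_).map C
    intro h
    exact right_ne_zero_of_mul hne (by rw [totalDegree_eq_zero_iff_eq_C.mp ht0, h, map_zero])
  obtain ⟨u', hu'⟩ := (hA 0 c u hu).dvd (a := w)
  have : X 1 - C d = (X 0 - C c) * u' := by rw [hw, hu, hu']; ring
  have h3 := congrArg (aeval ![algebraMap k k c, d + 1] : MvPolynomial (Fin 2) k →ₐ[k] k) this
  simp at h3

end Groth.FunFld1
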