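import Groth.Agent.FunFld1.AffineModel

/-!
Approximation in an affine model and the local ring at a separated place with a parameter.
-/

set_option linter.style.haveILetI false
set_option linter.unusedSectionVars false

namespace Groth.FunFld1

open WithZero FunFld
open scoped IntermediateField

variable {k K : Type*} [Field k] [Field K] [Algebra k K] {ι : Type*} [Fintype ι]

theorem SepParam.exists_isolating {y : ι → K} {P : Place k K} (h : SepParam y P)
    (T : Finset (Place k K)) (hT : ∀ Q ∈ T, IsAffine y Q) (hPa : IsAffine y P) :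
    ∃ b ∈ Algebra.adjoin k (Set.range y), P.1 (b - 1) < 1 ∧ ∀ Q ∈ T, Q ≠ P → Q.1 b < 1 := by
  classical
  induction T using Finset.induction with
  | empty => exact ⟨1, one_mem _, by simp, by simp⟩
  | insert R T hR ih =>
    obtain ⟨b, hb, hbP, hbT⟩ := ih fun Q hQ => hT Q (Finset.mem_insert_of_mem hQ)
    by_cases hRP : R = P
    · exact ⟨b, hb, hbP, fun Q hQ hne =>
        hbT Q ((Finset.mem_insert.mp hQ).resolve_left (hRP ▸ hne)) hne⟩
    obtain ⟨c, hc, hcP, hcR⟩ := h.2 R hRP (hT R (Finset.mem_insert_self _ _))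
    refine ⟨b * c, mul_mem hb hc, ?_, fun Q hQ hne => ?_⟩
    · rw [show b * c - 1 = (b - 1) * c + (c - 1) by ring]
      refine (P.1.map_add _ _).trans_lt (max_lt ?_ hcP)
      rw [map_mul]
      exact (mul_le_of_le_one_right' (hPa.le_one hc)).trans_lt hbP
    · rw [map_mul]
      rcases Finset.mem_insert.mp hQ with rfl | hQ'
      · exact (mul_le_of_le_one_left' ((hT Q hQ).le_one hb)).trans_lt hcR
      · exact (mul_le_of_le_one_right' ((hT Q hQ).le_one hc)).trans_lt (hbT Q hQ' hne)

/-- Arbitrary approximation at one place by elements of `k[y]`. -/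
theorem SepParam.exists_approx_at {y : ι → K} {P : Place k K} (h : SepParam y P) (hd : P.deg = 1)
    {z : K} (hz : P.1 z ≤ 1) (N : ℕ) :
    ∃ s ∈ Algebra.adjoin k (Set.range y), P.1 (z - s) ≤ exp (-(N : ℤ)) := by
  obtain ⟨⟨t, ht, htP⟩, -⟩ := h
  have ht0 : t ≠ 0 := ne_zero_of_val_eq htP
  induction N with
  | zero => exact ⟨0, zero_mem _, by simpa using hz⟩
  | succ N ih =>
    obtain ⟨s, hs, hsP⟩ := ih
    have hq : P.1 ((z - s) / t ^ N) ≤ 1 := by
      rw [map_div₀, map_pow, htP, ← exp_nsmul]
      refine (div_le_one₀ exp_pos).mpr (hsP.trans_eq ?_)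
      simp
    obtain ⟨c, hc⟩ := exists_const_sub_lt_one hd hq
    refine ⟨s + algebraMap k K c * t ^ N,
      add_mem hs (mul_mem (Subalgebra.algebraMap_mem _ c) (pow_mem ht N)), ?_⟩
    have e : z - (s + algebraMap k K c * t ^ N) = ((z - s) / t ^ N - algebraMap k K c) * t ^ N := by
      rw [sub_mul, div_mul_cancel₀ _ (pow_ne_zero _ ht0)]; ring
    rw [e, map_mul, map_pow, htP, ← exp_nsmul]
    refine (mul_le_mul' (lt_one_iff_le_exp_neg_one.mp hc) le_rfl).trans ?_
    rw [← exp_add, exp_le_exp, nsmul_eq_mul]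
    push_cast
    omega

/-- Simultaneous approximation by elements of `k[y]`. -/
theorem exists_mem_adjoin_approx {y : ι → K} (T : Finset (Place k K))
    (hT : ∀ Q ∈ T, IsAffine y Q) (hS : ∀ Q ∈ T, SepParam y Q) (hd : ∀ Q ∈ T, Q.deg = 1) {z : K}
    (hz : ∀ Q ∈ T, Q.1 z ≤ 1) (N : ℕ) :
    ∃ s ∈ Algebra.adjoin k (Set.range y), ∀ Q ∈ T, Q.1 (z - s) ≤ exp (-(N : ℤ)) := by
  classical
  set A := Algebra.adjoin k (Set.range y)
  have hkey : ∀ P ∈ T, ∃ b ∈ A, P.1 (b - 1) ≤ exp (-(N : ℤ)) ∧
      ∀ Q ∈ T, Q ≠ P → Q.1 b ≤ exp (-(N : ℤ)) := by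
    intro P hP
    obtain ⟨b, hb, hbP, hbT⟩ := (hS P hP).exists_isolating T hT (hT P hP)
    refine ⟨1 - (1 - b ^ N) ^ N, sub_mem (one_mem _) (pow_mem (sub_mem (one_mem _) (pow_mem hb N)) N),
      ?_, fun Q hQ hne => ?_⟩
    · rw [show (1 : K) - (1 - b ^ N) ^ N - 1 = -((1 - b ^ N) ^ N) by ring, Valuation.map_neg, map_pow]
      refine pow_le_exp_neg ?_ N
      obtain ⟨r, hr⟩ := sub_one_dvd_pow_sub_one b N
      rw [show (1 : K) - b ^ N = -(b ^ N - 1) by ring, Valuation.map_neg]
      have hgeo : b ^ N - 1 = (b - 1) * ∑ i ∈ Finset.range N, b ^ i := (mul_geom_sum b N).symm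
      rw [hgeo, map_mul]
      refine (mul_le_of_le_one_right' (Valuation.map_sum_le _ fun i _ => ?_)).trans_lt hbP
      rw [map_pow]; exact pow_le_one₀ zero_le ((hT P hP).le_one hb)
    · have hgeo : (1 : K) - (1 - b ^ N) ^ N = b ^ N * ∑ i ∈ Finset.range N, (1 - b ^ N) ^ i := by
        have := geom_sum_mul_neg (1 - b ^ N) N
        rw [sub_sub_cancel] at this
        rw [← this]; ring
      rw [hgeo, map_mul, map_pow]
      refine (mul_le_of_le_one_right' (Valuation.map_sum_le _ fun i _ => ?_)).trans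
        (pow_le_exp_neg (hbT Q hQ hne) N)
      rw [map_pow]
      exact pow_le_one₀ zero_le ((hT Q hQ).le_one (sub_mem (one_mem _) (pow_mem hb N)))
  choose! b hbA hbP hbT using hkey
  have happ : ∀ P ∈ T, ∃ s ∈ A, P.1 (z - s) ≤ exp (-(N : ℤ)) := fun P hP =>
    (hS P hP).exists_approx_at (hd P hP) (hz P hP) N
  choose! s hsA hsP using happ
  refine ⟨∑ P ∈ T, b P * s P, sum_mem fun P hP => mul_mem (hbA P hP) (hsA P hP), fun Q hQ => ?_⟩
  rw [← Finset.add_sum_erase T _ hQ,
    show z - (b Q * s Q + ∑ P ∈ T.erase Q, b P * s P) =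
      (z - s Q) - (b Q - 1) * s Q - ∑ P ∈ T.erase Q, b P * s P by ring]
  refine Valuation.map_sub_le _ (Valuation.map_sub_le _ (hsP Q hQ) ?_) (Valuation.map_sum_le _ fun P hP => ?_)
  · rw [map_mul]
    exact (mul_le_of_le_one_right' ((hT Q hQ).le_one (hsA Q hQ))).trans (hbP Q hQ)
  · rw [map_mul]
    exact (mul_le_of_le_one_right' ((hT Q hQ).le_one (hsA P (Finset.mem_of_mem_erase hP)))).trans
      (hbT P (Finset.mem_of_mem_erase hP) Q hQ (Finset.ne_of_mem_erase hP).symm)

/-- An affine place separated from the others and having a parameter: the model is birational. -/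
theorem birational_of_sepParam (hF : IsFF k K) (hd : ∀ Q : Place k K, Q.deg = 1) {y : ι → K}
    {P : Place k K} (hP : IsAffine y P) (h : SepParam y P) :
    IntermediateField.adjoin k (Set.range y) = ⊤ := by
  classical
  set L := IntermediateField.adjoin k (Set.range y)
  have hle : ∀ a ∈ Algebra.adjoin k (Set.range y), a ∈ L := fun a ha =>
    IntermediateField.algebra_adjoin_le_adjoin _ _ ha
  obtain ⟨t, ht, htP⟩ := h.1
  have htK : Transcendental k t := transcendental_of_val_lt_one P (ne_zero_of_val_eq htP)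
    (by rw [htP, exp_lt_one]; omega)
  haveI := hF.finiteDimensional htK
  have hsub : IntermediateField.adjoin k ({t} : Set K) ≤ L :=
    IntermediateField.adjoin_simple_le_iff.mpr (hle t ht)
  letI : Algebra (IntermediateField.adjoin k ({t} : Set K)) L :=
    (IntermediateField.inclusion hsub).toRingHom.toAlgebra
  haveI : IsScalarTower (IntermediateField.adjoin k ({t} : Set K)) L K :=
    IsScalarTower.of_algebraMap_eq fun _ => rfl
  haveI : FiniteDimensional L K :=
    Module.Finite.of_restrictScalars_finite (IntermediateField.adjoin k ({t} : Set K)) L K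
  let tL : L := ⟨t, hle t ht⟩
  have htL : Transcendental k tL := fun halg => htK (halg.algHom L.val)
  have hL : IsFF k L := by
    refine ⟨tL, htL, ?_⟩
    have e : (IntermediateField.adjoin k ({tL} : Set L)).map L.val =
        IntermediateField.adjoin k ({t} : Set K) := by
      rw [IntermediateField.adjoin_map, Set.image_singleton]; rfl
    haveI : FiniteDimensional (IntermediateField.adjoin k ({t} : Set K)) L :=
      FiniteDimensional.left (IntermediateField.adjoin k ({t} : Set K)) L K
    exact Module.Finite.of_equiv_equiv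
      ((IntermediateField.equivMap _ L.val).trans (IntermediateField.equivOfEq e)).toRingEquiv.symm
      (RingEquiv.refl L) (RingHom.ext fun a => Subtype.ext (by
        have := congrArg Subtype.val
          (((IntermediateField.equivMap (IntermediateField.adjoin k ({tL} : Set L)) L.val).trans
            (IntermediateField.equivOfEq e)).apply_symm_apply a)
        exact this))
  obtain ⟨P₀, hP₀⟩ := hL.exists_isOver P
  have hover := isOverWith_ramIdx hP₀
  have hord := overWith_ord hover tL
  rw [show algebraMap L K tL = t from rfl, ord_eq_of_val_eq P htP] at hord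
  have he1 : ramIdx P P₀ = 1 := by
    have h2 : (ramIdx P P₀ : ℤ) ∣ 1 := ⟨P₀.ord tL, by simpa using hord⟩
    exact Nat.dvd_one.mp (by exact_mod_cast h2)
  have hfib : (hL.above P₀ : Finset (Place k K)) = {P} := by
    refine Finset.eq_singleton_iff_unique_mem.mpr ⟨hL.mem_above.mpr hP₀, fun Q hQ => ?_⟩
    rw [hL.mem_above] at hQ
    by_contra hne
    have haff : IsAffine y Q := fun i =>
      (over_le_one_iff hQ ⟨y i, IntermediateField.subset_adjoin k _ (Set.mem_range_self i)⟩).mpr
        ((over_le_one_iff hP₀ ⟨y i, IntermediateField.subset_adjoin k _ (Set.mem_range_self i)⟩).mp (hP i))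
    obtain ⟨b, hb, hbP, hbQ⟩ := h.2 Q hne haff
    have h1 : P₀.1 (⟨b, hle b hb⟩ : L) < 1 := (over_lt_one_iff hQ _).mp hbQ
    have h2 : P.1 b < 1 := (over_lt_one_iff hP₀ (⟨b, hle b hb⟩ : L)).mpr h1
    have h3 : P.1 ((b - 1) - b) < 1 := (P.1.map_sub _ _).trans_lt (max_lt hbP h2)
    rw [sub_sub_cancel_left, Valuation.map_neg, map_one] at h3
    exact lt_irrefl _ h3
  have hsum := hL.sum_ramIdx_deg (K' := K) P₀
  rw [hfib, Finset.sum_singleton, he1, hd P, one_mul] at hsum
  have h1 : Module.finrank L K = 1 := Nat.eq_one_of_mul_eq_one_right hsum.symm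
  exact IntermediateField.finrank_eq_one_iff_eq_top.mp h1

section FunctionField

variable (hK : IsFunctionField k K) (hd : ∀ Q : Place k K, Q.deg = 1) {y : ι → K}
include hK hd

local notation "hF" => IsFF.of_isFunctionField hK

/-- A denominator for `z`, regular at the affine places and a unit at `P`. -/
theorem exists_denominator (hy : IntermediateField.adjoin k (Set.range y) = ⊤) {P : Place k K}
    (hP : IsAffine y P) {z : K} (hz : P.1 z ≤ 1) :
    ∃ w : K, (∀ Q : Place k K, IsAffine y Q → Q.1 w ≤ 1) ∧ P.1 w = 1 ∧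
      ∀ Q : Place k K, IsAffine y Q → Q.1 (z * w) ≤ 1 := by
  classical
  obtain ⟨x, hxA, hxt, hiff⟩ := exists_transcendental_affine hK hy
  obtain ⟨Pinf, hPinf⟩ := (hF).exists_zero_place (IsFF.transcendental_inv hxt)
  have hinf : ¬ IsAffine y Pinf := by
    rw [hiff, not_le]
    rw [map_inv₀, inv_lt_one_iff₀] at hPinf
    refine hPinf.resolve_left fun h0 => ?_
    have hx0 : x = 0 := by simpa using le_zero_iff.mp h0
    exact hxt (hx0 ▸ isAlgebraic_zero)
  -- a denominator
  let U : Finset (Place k K) :=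
    (insert P ((zeroDiv k z⁻¹).support)).filter fun Q => IsAffine y Q
  obtain ⟨w, hwU, hwo⟩ := strong_approximation hK Pinf U
    (fun h => hinf (Finset.mem_filter.mp h).2) (fun Q => if Q = P then 1 else 0)
    (fun Q => if Q = P then -1 else -(zeroDiv k z⁻¹ Q))
  have hwP : P.1 (w - 1) = exp (-1) := by
    simpa using hwU P (by simp [U, hP])
  have hwP1 : P.1 w = 1 := by
    rw [show w = 1 + (w - 1) by ring]
    exact val_one_add_of_lt_one P (by rw [hwP, exp_lt_one]; omega)
  have hwR : ∀ Q : Place k K, IsAffine y Q → Q.1 w ≤ 1 := by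
    intro Q hQ
    by_cases hQU : Q ∈ U
    · rcases eq_or_ne Q P with rfl | hne
      · exact hwP1.le
      · have h1 := hwU Q hQU
        simp only [if_neg hne, sub_zero] at h1
        rw [h1, exp_le_one]
        have := IsFF.zeroDiv_nonneg (k := k) z⁻¹ Q
        simp only [Finsupp.coe_zero, Pi.zero_apply] at this
        omega
    · exact hwo Q (fun e => hinf (e ▸ hQ)) hQU
  have hzwR : ∀ Q : Place k K, IsAffine y Q → Q.1 (z * w) ≤ 1 := by
    intro Q hQ
    rw [map_mul]
    rcases eq_or_ne Q P with rfl | hne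
    · exact mul_le_one' hz hwP1.le
    by_cases hQs : Q ∈ (zeroDiv k z⁻¹).support
    · have h1 := hwU Q (by simp [U, hQ, hQs])
      simp only [if_neg hne, sub_zero] at h1
      refine (mul_le_mul' ((hF).val_le_exp_zeroDiv_inv z Q) h1.le).trans_eq ?_
      rw [← exp_add, add_neg_cancel, exp_zero]
    · refine mul_le_one' ?_ (hwR Q hQ)
      refine ((hF).val_le_exp_zeroDiv_inv z Q).trans_eq ?_
      rw [Finsupp.notMem_support_iff.mp hQs, exp_zero]
  exact ⟨w, hwR, hwP1, hzwR⟩

/-- Away from the zeros of a conductor the local ring of the model is the valuation ring. -/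
theorem exists_frac_of_conductor (hy : IntermediateField.adjoin k (Set.range y) = ⊤) {P : Place k K}
    (hP : IsAffine y P) {a : K} (haP : P.1 a = 1)
    (hcond : ∀ z : K, (∀ Q : Place k K, IsAffine y Q → Q.1 z ≤ 1) →
      a * z ∈ Algebra.adjoin k (Set.range y)) {z : K} (hz : P.1 z ≤ 1) :
    ∃ u ∈ Algebra.adjoin k (Set.range y), ∃ w ∈ Algebra.adjoin k (Set.range y),
      P.1 w = 1 ∧ z * w = u := by
  obtain ⟨w, hwR, hwP1, hzwR⟩ := exists_denominator hK hd hy hP hz
  exact ⟨a * (z * w), hcond _ hzwR, a * w, hcond _ hwR, by rw [map_mul, haP, hwP1, one_mul], by ring⟩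

theorem exists_frac_of_sepParam {P : Place k K} (hP : IsAffine y P) (h : SepParam y P) {z : K}
    (hz : P.1 z ≤ 1) :
    ∃ u ∈ Algebra.adjoin k (Set.range y), ∃ w ∈ Algebra.adjoin k (Set.range y),
      P.1 w = 1 ∧ z * w = u := by
  classical
  have hy := birational_of_sepParam (hF) hd hP h
  set A := Algebra.adjoin k (Set.range y)
  obtain ⟨a, ha, ha0, hcond⟩ := exists_conductor hK hy
  obtain ⟨w, hwR, hwP1, hzwR⟩ := exists_denominator hK hd hy hP hz
  -- the power of an isolating element
  let T : Finset (Place k K) := (insert P (zeroDiv k a).support).filter fun Q => IsAffine y Q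
  obtain ⟨b, hb, hbP, hbT⟩ := h.exists_isolating T (fun Q hQ => (Finset.mem_filter.mp hQ).2) hP
  set N := T.sup fun Q => (Q.ord a).toNat with hN
  have hmain : ∀ v : K, (∀ Q : Place k K, IsAffine y Q → Q.1 v ≤ 1) → b ^ N * v ∈ A := by
    intro v hv
    obtain ⟨s, hs, hsP⟩ := h.exists_approx_at (hd P) (hv P hP) N
    have hq : ∀ Q : Place k K, IsAffine y Q → Q.1 ((b ^ N * v - b ^ N * s) / a) ≤ 1 := by
      intro Q hQ
      rw [map_div₀, div_le_one₀ (zero_lt_iff.mpr (by simpa using ha0)), ← mul_sub, map_mul, map_pow]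
      have hbQ : Q.1 b ≤ 1 := hQ.le_one hb
      have hvs : Q.1 (v - s) ≤ 1 := Valuation.map_sub_le _ (hv Q hQ) (hQ.le_one hs)
      rw [val_eq_exp_neg_ord Q ha0]
      by_cases hQT : Q ∈ T
      · have hn : (Q.ord a).toNat ≤ N := Finset.le_sup (f := fun Q : Place k K => (Q.ord a).toNat) hQT
        have hexp : exp (-(N : ℤ)) ≤ exp (-Q.ord a) := by rw [exp_le_exp]; omega
        rcases eq_or_ne Q P with rfl | hne
        · exact (mul_le_of_le_one_left' (pow_le_one₀ zero_le hbQ)).trans (hsP.trans hexp)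
        · exact (mul_le_of_le_one_right' hvs).trans ((pow_le_exp_neg (hbT Q hQT hne) N).trans hexp)
      · have h0 : zeroDiv k a Q = 0 := by
          by_contra hne
          exact hQT (by simp [T, hQ, hne])
        rw [(hF).zeroDiv_apply] at h0
        refine (mul_le_one' (pow_le_one₀ zero_le hbQ) hvs).trans ?_
        rw [one_le_exp]; omega
    have := add_mem (hcond _ hq) (mul_mem (pow_mem hb N) hs)
    rwa [mul_div_cancel₀ _ ha0, sub_add_cancel] at this
  refine ⟨b ^ N * (z * w), hmain _ hzwR, b ^ N * w, hmain _ hwR, ?_, by ring⟩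
  have hbP1 : P.1 b = 1 := by
    rw [show b = 1 + (b - 1) by ring]
    exact val_one_add_of_lt_one P hbP
  rw [map_mul, map_pow, hbP1, hwP1, one_pow, one_mul]

/-- The conductor refinement: away from the zeros of a conductor every place is separated. -/
theorem mem_adjoin_of_integral (hsep : ∀ Q : Place k K, IsAffine y Q → SepParam y Q) {z : K}
    (hy : IntermediateField.adjoin k (Set.range y) = ⊤)
    (hz : ∀ Q : Place k K, IsAffine y Q → Q.1 z ≤ 1) : z ∈ Algebra.adjoin k (Set.range y) := by
  classical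
  obtain ⟨a, ha, ha0, hcond⟩ := exists_conductor hK hy
  let T : Finset (Place k K) := (zeroDiv k a).support.filter fun Q => IsAffine y Q
  set N := T.sup fun Q => (Q.ord a).toNat
  obtain ⟨s, hs, hsT⟩ := exists_mem_adjoin_approx (y := y) T (fun Q hQ => (Finset.mem_filter.mp hQ).2)
    (fun Q hQ => hsep Q (Finset.mem_filter.mp hQ).2) (fun Q _ => hd Q)
    (fun Q hQ => hz Q (Finset.mem_filter.mp hQ).2) N
  have hq : ∀ Q : Place k K, IsAffine y Q → Q.1 ((z - s) / a) ≤ 1 := by
    intro Q hQ
    rw [map_div₀, div_le_one₀ (zero_lt_iff.mpr (by simpa using ha0)), val_eq_exp_neg_ord Q ha0]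
    by_cases hQT : Q ∈ T
    · have hn : (Q.ord a).toNat ≤ N := Finset.le_sup (f := fun Q : Place k K => (Q.ord a).toNat) hQT
      exact (hsT Q hQT).trans (by rw [exp_le_exp]; omega)
    · have h0 : zeroDiv k a Q = 0 := by
        by_contra hne
        exact hQT (by simp [T, hQ, hne])
      rw [(hF).zeroDiv_apply] at h0
      refine (Valuation.map_sub_le _ (hz Q hQ) (hQ.le_one hs)).trans ?_
      rw [one_le_exp]; omega
  have := add_mem (hcond _ hq) hs
  rwa [mul_div_cancel₀ _ ha0, sub_add_cancel] at this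

end FunctionField

end Groth.FunFld1
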