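import Groth.Agent.FunFld1.Quadratic
import Groth.Agent.FunFld1.Rational
import Groth.Agent.FunFld1.Zeta.Fibre
import Mathlib.FieldTheory.RatFunc.IntermediateField

/-!
Artin–Schreier quadratic extensions in characteristic 2 with all poles of odd order.
-/

set_option linter.style.haveILetI false
set_option linter.unusedSectionVars false

open FunFld WithZero Polynomial

namespace Groth.FunFld1

theorem transcendental_ratFunc_X (k : Type*) [Field k] : Transcendental k (RatFunc.X : RatFunc k) := by
  rw [← RatFunc.algebraMap_X]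
  exact (transcendental_algebraMap_iff (IsFractionRing.injective (Polynomial k) (RatFunc k))).mpr
    (Polynomial.transcendental_X k)

theorem isFunctionField_ratFunc (k : Type*) [Field k] : IsFunctionField k (RatFunc k) := by
  have hx := transcendental_ratFunc_X k
  have hfin : Module.Finite (IntermediateField.adjoin k ({(RatFunc.X : RatFunc k)} : Set (RatFunc k))) (RatFunc k) :=
    Module.finite_of_finrank_pos (by
      rw [IntermediateField.finrank_eq_one_iff_eq_top.mpr RatFunc.adjoin_X]; exact one_pos)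
  have hF : IsFF k (RatFunc k) := ⟨_, hx, hfin⟩
  refine ⟨hF, fun z hz => ?_⟩
  have hz0 : z ∈ L (0 • zeroDiv k (RatFunc.X : RatFunc k)⁻¹ : Divisor k (RatFunc k)) := fun Q => by
    rw [zero_smul, Finsupp.coe_zero, Pi.zero_apply, exp_zero]
    by_cases h0 : z = 0
    · simp [h0]
    · exact (val_eq_one_of_isAlgebraic Q hz h0).le
  have hmem : z ∈ IntermediateField.adjoin k ({(RatFunc.X : RatFunc k)} : Set (RatFunc k)) := by
    rw [RatFunc.adjoin_X]; exact IntermediateField.mem_top
  obtain ⟨q, hq, rfl⟩ := (mem_L_adjoin_iff hF hx hmem 0).mp hz0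
  exact ⟨q.coeff 0, by rw [eq_C_of_natDegree_eq_zero (Nat.le_zero.mp hq), aeval_C, coeff_C_zero]⟩

variable {k F K : Type*} [Field k] [Field F] [Field K] [Algebra k F] [Algebra F K] [Algebra k K]
  [IsScalarTower k F K]

/-- `y² + y = f` in characteristic two, `[K : F] = 2`. -/
structure ASExt (y : K) (f : F) : Prop where
  two_eq : (2 : k) = 0
  deg_two : Module.finrank F K = 2
  notMem : y ∉ Set.range (algebraMap F K)
  eqn : y ^ 2 + y = algebraMap F K f

namespace ASExt

variable {y : K} {f : F} (h : ASExt (k := k) y f)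
include h

theorem finite : FiniteDimensional F K := Module.finite_of_finrank_pos (by rw [h.deg_two]; norm_num)

theorem two_eq' : (2 : K) = 0 := by
  have := congrArg (algebraMap k K) h.two_eq
  rwa [map_ofNat, map_zero] at this

theorem minpoly_eq : minpoly F y = X ^ 2 + X - C f := by
  haveI := h.finite
  have hm : (X ^ 2 + X - C f : F[X]).Monic := by monicity!
  have hroot : aeval y (X ^ 2 + X - C f : F[X]) = 0 := by simp [h.eqn]
  have hi : IsIntegral F y := IsIntegral.of_finite F y
  refine (eq_of_monic_of_dvd_of_natDegree_le (minpoly.monic hi) hm (minpoly.dvd _ _ hroot) ?_).symm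
  have hd : (X ^ 2 + X - C f : F[X]).natDegree = 2 := by compute_degree!
  rw [hd]
  by_contra hlt
  have := minpoly.natDegree_pos hi
  exact h.notMem (minpoly.natDegree_eq_one_iff.mp (by omega))

theorem adjoin_y : IntermediateField.adjoin F ({y} : Set K) = ⊤ := by
  haveI := h.finite
  refine IntermediateField.eq_of_le_of_finrank_eq le_top ?_
  rw [IntermediateField.finrank_top', IntermediateField.adjoin.finrank (IsIntegral.of_finite F y),
    h.minpoly_eq, h.deg_two]
  compute_degree!

theorem exists_coords (z : K) : ∃ a b : F, z = algebraMap F K a + algebraMap F K b * y := by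
  haveI := h.finite
  have hi : IsIntegral F y := IsIntegral.of_finite F y
  have hz : z ∈ IntermediateField.adjoin F ({y} : Set K) := h.adjoin_y ▸ IntermediateField.mem_top
  rw [← IntermediateField.mem_toSubalgebra,
    IntermediateField.adjoin_simple_toSubalgebra_of_isAlgebraic hi.isAlgebraic,
    Algebra.adjoin_singleton_eq_range_aeval] at hz
  obtain ⟨p, hp⟩ := hz
  have hd : (minpoly F y).natDegree = 2 := by rw [h.minpoly_eq]; compute_degree!
  have h3 : aeval y (p %ₘ minpoly F y) = z := by
    have e := congrArg (aeval y) (modByMonic_add_div p (q := minpoly F y))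
    rw [map_add, map_mul, minpoly.aeval, zero_mul, add_zero] at e
    exact e.trans hp
  have hdeg : (p %ₘ minpoly F y).natDegree < 2 :=
    hd ▸ natDegree_modByMonic_lt p (minpoly.monic hi) (fun e => by rw [e, natDegree_one] at hd; omega)
  refine ⟨(p %ₘ minpoly F y).coeff 0, (p %ₘ minpoly F y).coeff 1, ?_⟩
  rw [← h3, aeval_eq_sum_range' hdeg, Finset.sum_range_succ, Finset.sum_range_one]
  simp [Algebra.smul_def]

theorem coords_unique {a b : F} (he : algebraMap F K a + algebraMap F K b * y = 0) : a = 0 ∧ b = 0 := by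
  by_cases hb : b = 0
  · subst hb
    exact ⟨by simpa using he, rfl⟩
  · exfalso
    refine h.notMem ⟨-a / b, ?_⟩
    have hb' : algebraMap F K b ≠ 0 := by simpa using hb
    rw [map_div₀, map_neg, div_eq_iff hb']
    linear_combination -he

theorem exists_conj : ∃ σ : K ≃ₐ[F] K, σ y = y + 1 := by
  haveI := h.finite
  let pb : PowerBasis F K := (IntermediateField.adjoin.powerBasis (IsIntegral.of_finite F y)).map
    ((IntermediateField.equivOfEq h.adjoin_y).trans IntermediateField.topEquiv)
  have hgen : pb.gen = y := by simp [pb]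
  have hroot : aeval (y + 1) (minpoly F pb.gen) = 0 := by
    rw [hgen, h.minpoly_eq]
    simp only [map_sub, map_add, map_pow, aeval_X, aeval_C]
    linear_combination h.eqn + (y + 1) * h.two_eq'
  have hσ : pb.lift (y + 1) hroot y = y + 1 :=
    (congrArg (pb.lift (y + 1) hroot) hgen.symm).trans (pb.lift_gen (y + 1) hroot)
  exact ⟨AlgEquiv.ofBijective (pb.lift (y + 1) hroot) (AlgHom.bijective _), hσ⟩

/-- At a pole of odd order the place is ramified and `y` has a pole of that order. -/
theorem at_pole (hF : IsFF k F) {Q : Place k K} {P : Place k F} (hQ : IsOver Q P) {m : ℕ}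
    (hm : P.1 f = exp (m : ℤ)) (hodd : Odd m) : IsOverWith Q P 2 ∧ Q.1 y = exp (m : ℤ) := by
  classical
  haveI := h.finite
  obtain ⟨j, hj⟩ := hodd
  have he := isOverWith_ramIdx hQ
  have hepos := overWith_pos he
  have hfQ : Q.1 (y ^ 2 + y) = exp ((ramIdx Q P : ℤ) * m) := by
    rw [h.eqn, he, hm, ← exp_nsmul, nsmul_eq_mul]
  have hy1 : 1 < Q.1 y := by
    refine not_le.mp fun hle => ?_
    have : Q.1 (y ^ 2 + y) ≤ 1 :=
      Valuation.map_add_le _ (by rw [map_pow]; exact pow_le_one₀ zero_le hle) hle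
    rw [hfQ, exp_le_one] at this
    have : (0 : ℤ) < (ramIdx Q P : ℤ) * m := mul_pos (by exact_mod_cast hepos) (by omega)
    omega
  have hsq : Q.1 (y ^ 2 + y) = Q.1 y ^ 2 := by
    rw [Valuation.map_add_eq_of_lt_left, map_pow]
    rw [map_pow, pow_two]
    exact lt_mul_of_one_lt_left (zero_lt_one.trans hy1) hy1
  have hy0 : y ≠ 0 := fun e => by simp [e] at hy1
  rw [hfQ, val_eq_exp_neg_ord Q hy0, ← exp_nsmul, exp_injective.eq_iff, nsmul_eq_mul] at hsq
  have hle2 : ramIdx Q P ≤ 2 := by
    have hsum := hF.sum_ramIdx_deg (K' := K) P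
    rw [h.deg_two] at hsum
    have h1 : ramIdx Q P * Q.deg ≤ 2 * P.deg :=
      hsum ▸ Finset.single_le_sum (f := fun R => ramIdx R P * R.deg) (fun _ _ => Nat.zero_le _) (hF.mem_above.mpr hQ)
    have h2 : P.deg ≤ Q.deg := Nat.le_of_dvd ((hF.ext (K' := K)).deg_pos Q) (deg_dvd_deg hF hQ)
    exact Nat.le_of_mul_le_mul_right ((Nat.mul_le_mul_left _ h2).trans h1) (hF.deg_pos P)
  rcases (by omega : ramIdx Q P = 1 ∨ ramIdx Q P = 2) with e | e
  · rw [e] at hsq; push_cast at hsq; omega
  · refine ⟨e ▸ he, ?_⟩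
    rw [e] at hsq
    rw [val_eq_exp_neg_ord Q hy0]
    congr 1
    push_cast at hsq; omega

/-- `L(conorm E)` in coordinates, where `A` collects half the pole orders. -/
theorem mem_L_iff (hF : IsFF k F) (A : Divisor k F)
    (hpole : ∀ P : Place k F, 1 < P.1 f → ∃ m : ℕ, P.1 f = exp (m : ℤ) ∧ Odd m ∧ 2 * A P = (m : ℤ) + 1)
    (hnon : ∀ P : Place k F, P.1 f ≤ 1 → A P = 0) (E : Divisor k F) (a b : F) :
    algebraMap F K a + algebraMap F K b * y ∈ L (conorm K E) ↔ a ∈ L E ∧ b ∈ L (E - A) := by
  classical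
  haveI := h.finite
  have hiy : ∀ (Q : Place k K) (P : Place k F), IsOver Q P → P.1 f ≤ 1 → Q.1 y ≤ 1 := by
    intro Q P hQ hP
    refine not_lt.mp fun hlt => ?_
    have h1 : Q.1 (y ^ 2 + y) = Q.1 y ^ 2 := by
      rw [Valuation.map_add_eq_of_lt_left, map_pow]
      rw [map_pow, pow_two]
      exact lt_mul_of_one_lt_left (zero_lt_one.trans hlt) hlt
    have h2 : Q.1 (y ^ 2 + y) ≤ 1 := by rw [h.eqn]; exact (over_le_one_iff hQ f).mpr hP
    rw [h1] at h2
    exact absurd ((pow_le_one_iff two_ne_zero).mp h2) (not_le.mpr hlt)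
  have hscal : ∀ (Q : Place k K) (P : Place k F) (e : ℕ), IsOverWith Q P e → ∀ (c : F) (n : ℤ),
      (Q.1 (algebraMap F K c) ≤ exp ((e : ℤ) * n) ↔ P.1 c ≤ exp n) := by
    intro Q P e he c n
    have hx : exp ((e : ℤ) * n) = (exp n : ℤᵐ⁰) ^ e := by rw [← exp_nsmul, nsmul_eq_mul]
    rw [he c, hx, pow_le_pow_iff_left₀ zero_le zero_le (overWith_pos he).ne']
  constructor
  · intro hz
    obtain ⟨σ, hσ⟩ := h.exists_conj
    have hσz : algebraMap F K a + algebraMap F K b * (y + 1) ∈ L (conorm K E) := by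
      intro Q
      obtain ⟨P, hP⟩ := hF.exists_isOver Q
      have h1 := hz (comapPlace σ Q)
      rw [comapPlace_apply, hF.conorm_apply E (isOverWith_comapPlace σ (isOverWith_ramIdx hP))] at h1
      rw [hF.conorm_apply E (isOverWith_ramIdx hP)]
      rwa [map_add, map_mul, hσ, σ.commutes, σ.commutes] at h1
    have hbK : algebraMap F K b ∈ L (conorm K E) := by
      have := sub_mem hσz hz
      rwa [show algebraMap F K a + algebraMap F K b * (y + 1) - (algebraMap F K a + algebraMap F K b * y) =
        algebraMap F K b by ring] at this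
    have key : ∀ (P : Place k F), P.1 a ≤ exp (E P) ∧ P.1 b ≤ exp ((E - A : Divisor k F) P) := by
      intro P
      rw [Finsupp.sub_apply]
      obtain ⟨Q, hQ⟩ := hF.exists_over (K' := K) P
      have he := isOverWith_ramIdx hQ
      have hzQ := hz Q
      have hbQ := hbK Q
      rw [hF.conorm_apply E he] at hzQ hbQ
      by_cases hP : P.1 f ≤ 1
      · rw [hnon P hP, sub_zero]
        refine ⟨(hscal Q P _ he a _).mp ?_, (hscal Q P _ he b _).mp hbQ⟩
        rw [show algebraMap F K a = (algebraMap F K a + algebraMap F K b * y) - algebraMap F K b * y by ring]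
        refine Valuation.map_sub_le _ hzQ ?_
        rw [map_mul]
        exact (mul_le_of_le_one_right' (hiy Q P hQ hP)).trans hbQ
      · obtain ⟨m, hm, hodd, hA⟩ := hpole P (not_le.mp hP)
        obtain ⟨h2, hy⟩ := h.at_pole hF hQ hm hodd
        rw [ramIdx_eq h2] at hzQ
        push_cast at hzQ
        by_cases hb0 : b = 0
        · subst hb0
          rw [map_zero, zero_mul, add_zero] at hzQ
          refine ⟨(hscal Q P 2 h2 a _).mp (by exact_mod_cast hzQ), by simp⟩
        have hbv : Q.1 (algebraMap F K b * y) = exp (2 * (-P.ord b) + m) := by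
          rw [map_mul, h2 b, hy, val_eq_exp_neg_ord P hb0, ← exp_nsmul, ← exp_add]
          congr 1
        obtain ⟨j, hj⟩ := hodd
        by_cases ha0 : a = 0
        · subst ha0
          rw [map_zero, zero_add, hbv, exp_le_exp] at hzQ
          exact ⟨by simp, by rw [val_le_exp_iff P hb0]; omega⟩
        have hav : Q.1 (algebraMap F K a) = exp (2 * (-P.ord a)) := by
          rw [h2 a, val_eq_exp_neg_ord P ha0, ← exp_nsmul]
          congr 1
        have hne : Q.1 (algebraMap F K a) ≠ Q.1 (algebraMap F K b * y) := by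
          rw [hav, hbv, Ne, exp_injective.eq_iff]; omega
        rw [Valuation.map_add_of_distinct_val _ hne, hav, hbv, max_le_iff, exp_le_exp, exp_le_exp] at hzQ
        exact ⟨by rw [val_le_exp_iff P ha0]; omega, by rw [val_le_exp_iff P hb0]; omega⟩
    exact ⟨fun P => (key P).1, fun P => (key P).2⟩
  · rintro ⟨ha, hb⟩ Q
    obtain ⟨P, hQ⟩ := hF.exists_isOver Q
    have he := isOverWith_ramIdx hQ
    rw [hF.conorm_apply E he]
    refine Valuation.map_add_le _ ((hscal Q P _ he a _).mpr (ha P)) ?_
    have hbP := hb P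
    rw [Finsupp.sub_apply] at hbP
    rw [map_mul]
    by_cases hP : P.1 f ≤ 1
    · rw [hnon P hP, sub_zero] at hbP
      exact (mul_le_of_le_one_right' (hiy Q P hQ hP)).trans ((hscal Q P _ he b _).mpr hbP)
    · obtain ⟨m, hm, hodd, hA⟩ := hpole P (not_le.mp hP)
      obtain ⟨h2, hy⟩ := h.at_pole hF hQ hm hodd
      rw [ramIdx_eq h2, hy]
      refine (mul_le_mul' ((hscal Q P 2 h2 b _).mpr hbP) le_rfl).trans ?_
      rw [← exp_add, exp_le_exp]
      push_cast; omega

theorem genus_eq (hFf : IsFunctionField k F) (hg0 : genus k F = 0) (hK : IsFunctionField k K)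
    (A : Divisor k F)
    (hpole : ∀ P : Place k F, 1 < P.1 f → ∃ m : ℕ, P.1 f = exp (m : ℤ) ∧ Odd m ∧ 2 * A P = (m : ℤ) + 1)
    (hnon : ∀ P : Place k F, P.1 f ≤ 1 → A P = 0) :
    (genus k K : ℤ) = -1 + A.deg := by
  classical
  haveI := h.finite
  have hF := IsFF.of_isFunctionField hFf
  obtain ⟨P⟩ := hF.nonempty_place
  have hPpos := hF.deg_pos P
  set n : ℕ := genus k K + A.deg.toNat + 1 with hn
  set E : Divisor k F := Finsupp.single P (n : ℤ) with hE
  have hEdeg : E.deg = (n : ℤ) * P.deg := deg_single P n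
  have hnP : (n : ℤ) ≤ (n : ℤ) * P.deg := le_mul_of_one_le_right (by omega) (by exact_mod_cast hPpos)
  have h1 := ell_eq_of_deg_ge hFf (D := E) (by rw [hg0, hEdeg]; push_cast; omega)
  have h2 := ell_eq_of_deg_ge hFf (D := E - A) (by rw [hg0, deg_sub, hEdeg]; push_cast; omega)
  have hdeg : (conorm K E).deg = 2 * E.deg := by rw [hF.deg_conorm, h.deg_two]; push_cast; ring
  have h3 := ell_eq_of_deg_ge hK (D := conorm K E) (by rw [hdeg, hEdeg]; omega)
  let Ψ : (↥(L E) × ↥(L (E - A))) →ₗ[k] K :=
    ((IsScalarTower.toAlgHom k F K).toLinearMap ∘ₗ (L E).subtype).coprod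
      ((LinearMap.mulRight k y) ∘ₗ (IsScalarTower.toAlgHom k F K).toLinearMap ∘ₗ (L (E - A)).subtype)
  have hΨ : ∀ u, Ψ u = algebraMap F K (u.1 : F) + algebraMap F K (u.2 : F) * y := fun u => rfl
  have hinj : Function.Injective Ψ := by
    rw [← LinearMap.ker_eq_bot, LinearMap.ker_eq_bot']
    intro u hu
    rw [hΨ] at hu
    obtain ⟨e1, e2⟩ := h.coords_unique hu
    exact Prod.ext (Subtype.ext e1) (Subtype.ext e2)
  have hrange : LinearMap.range Ψ = L (conorm K E) := by
    ext z
    rw [LinearMap.mem_range]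
    constructor
    · rintro ⟨u, rfl⟩
      rw [hΨ, h.mem_L_iff hF A hpole hnon]
      exact ⟨u.1.2, u.2.2⟩
    · intro hz
      obtain ⟨a, b, rfl⟩ := h.exists_coords z
      obtain ⟨ha, hb⟩ := (h.mem_L_iff hF A hpole hnon E a b).mp hz
      exact ⟨(⟨a, ha⟩, ⟨b, hb⟩), rfl⟩
  haveI := hF.finiteDimensional_L E
  haveI := hF.finiteDimensional_L (E - A)
  have h4 : ell (conorm K E) = ell E + ell (E - A) := by
    unfold ell
    rw [← hrange, LinearMap.finrank_range_of_inj hinj, Module.finrank_prod]
  rw [h4, hdeg] at h3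
  push_cast at h3
  rw [h1, h2, hg0, deg_sub] at h3
  push_cast at h3
  omega

end ASExt

end Groth.FunFld1
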