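import Groth.Agent.S12618
import Groth.Agent.Funfld2.Hasse.WeierstrassPts

/-!
Finiteness of the automorphism group in genus at least two.
-/

set_option linter.style.haveILetI false
set_option linter.unusedSectionVars false

open FunFld Groth.FunFld1 Groth.Funfld2.Hasse
open scoped LaurentSeries WithZero

namespace Groth.FunFld1

variable {k K : Type*} [Field k] [IsAlgClosed k] [Field K] [Algebra k K]
  (hK : IsFunctionField k K) {C : Divisor k K} (hC : IsCanonical k K C) {n : ℕ} {φ : Fin (n + 1) → K}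
  (hφ : LinearIndependent k φ) (hspan : Submodule.span k (Set.range φ) = L C)
  (hchar : ringChar k = 0 ∨ 2 * genus k K - 2 < ringChar k)
  {s : K} {H : K →ₐ[k] PowerSeries K} (hH : LocRes.IsHasseFamily s H) {J : Fin n → ℕ}
  (hJ : IsOrders K (hcol (AlgHom.id k K) H φ) J) {Φ : Place k K → (K →ₐ[k] LaurentSeries k)}
  (hΦ : ∀ P : Place k K, LocRes.IsExpansionAt P.1 (Φ P))

section
include hK hC hφ hspan hchar hH hJ hΦ

/-- A place is not a Weierstrass point iff all its gaps are at most `g`. -/
theorem wDiv_eq_zero_iff (P : Place k K) :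
    wDiv (AlgHom.id k K) H Φ s φ J P = 0 ↔ ∀ m, 1 ≤ m → Gap P m → m ≤ genus k K := by
  classical
  have hG := Groth.Funfld2.good_of_algClosed hK
  have hgn := genus_pos_of_basis hK hC hφ hspan
  obtain ⟨y, t, Ht, hy, ht, hHt, heff, hnorm, hψ, hJt, hw⟩ := exists_normalized hK hφ hH hJ hΦ P
  have hJeq := orders_canonical hK hC hφ hspan hchar hH hJ
  obtain ⟨J', hJ'⟩ := exists_orders_at hK ht hHt hψ heff hnorm
  have hgap : ∀ j, 1 ≤ j → (j ∈ Set.range J' ↔ Gap P (j + 1)) := fun j hj => by
    rw [hJ'.2 j]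
    exact isJump_canonical_iff hK hC hφ hspan ht hHt hy heff hnorm hj
  have hpos := orders_at_pos hK ht hHt hnorm hJ'
  have hlow : ∀ (m : ℕ) (hm : m < n), m + 1 ≤ J' ⟨m, hm⟩ := by
    intro m hm
    induction m with
    | zero => exact hpos _
    | succ m ih =>
      have := ih (by omega)
      have := hJ'.1 (show (⟨m, by omega⟩ : Fin n) < ⟨m + 1, hm⟩ from Fin.lt_def.2 (Nat.lt_succ_self m))
      omega
  have hdet : (binomMat k J' J).det ≠ 0 := by
    obtain ⟨N, hN, hNdeg⟩ : ∃ N : ℕ, (∀ r, J' r ≤ N) ∧ (ringChar k = 0 ∨ N < ringChar k) := by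
      refine ⟨Finset.univ.sup J', fun r => Finset.le_sup (Finset.mem_univ r), ?_⟩
      refine (ringChar_deg hK hC hφ hspan hchar).imp_right fun h => ?_
      refine (Finset.sup_lt_iff (by have := deg_canonical hK hC
                                    rw [mapDiv_canonical hK hC hφ hspan] at h
                                    simp only [bot_eq_zero]
                                    omega)).2 fun r _ => ?_
      have := orders_at_le_deg hK ht hHt hψ heff hnorm hJ' r
      have e : (mapDiv k (y • φ)).deg = (mapDiv k φ).deg := by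
        have e : mapDiv k (y • φ) = mapDiv k φ - FunFld.div k y := by
          ext Q
          rw [mapDiv_smul (IsFF.of_isFunctionField hK) φ hφ.ne_zero hy, Finsupp.sub_apply,
            Groth.Funfld2.div_apply hG]
        rw [e, Groth.Funfld2.deg_sub, hG.deg_div y hy, sub_zero]
      omega
    rw [hJeq]
    exact det_binomMat_classical hJ'.1 le_rfl (fun r => hpos r) hN (cast_inj_of_ringChar hNdeg)
  have hwval : wDiv (AlgHom.id k K) H Φ s φ J P = ∑ l, ((J' l : ℤ) - J l) := by
    rw [hw, wDiv_apply_normalized hG isFixedPt_id hψ heff hnorm ht Ht J hΦ]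
    exact ((sum_le_ord_det hK ht hHt hψ heff hnorm hJ' isFixedPt_id hJt).2
      (Or.inl (orders_id_pos hHt hJt))).2 hdet
  rw [hwval, hJeq, Finset.sum_eq_zero_iff_of_nonneg fun l _ => by
    have := hlow l.1 l.2
    rw [Fin.eta] at this
    simp only
    omega]
  constructor
  · intro h m hm hgm
    rcases Nat.lt_or_ge m 2 with h2 | h2
    · omega
    · obtain ⟨l, hl⟩ := (hgap (m - 1) (by omega)).2 (by rwa [Nat.sub_add_cancel hm])
      have h1 := h l (Finset.mem_univ l)
      have h3 := l.2
      simp only at h1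
      omega
  · intro h l _
    have hle : ∀ i, J' i ≤ n := fun i => by
      have := h _ (by omega) ((hgap _ (hpos i)).1 ⟨i, rfl⟩)
      omega
    have hsub : (Finset.Ioi l).image J' ⊆ Finset.Ioc (J' l) n := by
      intro j hj
      obtain ⟨i, hi, rfl⟩ := Finset.mem_image.1 hj
      exact Finset.mem_Ioc.2 ⟨hJ'.1 (Finset.mem_Ioi.1 hi), hle i⟩
    have hc := Finset.card_le_card hsub
    rw [Finset.card_image_of_injective _ hJ'.1.injective, Fin.card_Ioi, Nat.card_Ioc] at hc
    have := hlow l.1 l.2
    have := hle l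
    have h3 := l.2
    rw [Fin.eta] at *
    simp only
    omega

end

theorem gap_comapPlace {σ : K ≃ₐ[k] K} {P : Place k K} {m : ℕ} (h : Gap P m) :
    Gap (comapPlace σ P) m := by
  classical
  have key : ∀ (z : ℤ) (x : K), x ∈ L (Finsupp.single (comapPlace σ P) z) ↔ σ x ∈ L (Finsupp.single P z) := by
    intro z x
    have hev : ∀ Q : Place k K, (Finsupp.single (comapPlace σ P) z : Divisor k K) (comapPlace σ Q) =
        (Finsupp.single P z : Divisor k K) Q := by
      intro Q
      rw [Finsupp.single_apply, Finsupp.single_apply]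
      refine if_congr ⟨fun e => Subtype.ext (Valuation.ext fun w => ?_), fun e => by rw [e]⟩ rfl rfl
      have := congrArg (fun R : Place k K => R.1 (σ.symm w)) e
      simpa [comapPlace_apply] using this
    constructor
    · intro hx Q
      have := hx (comapPlace σ Q)
      rwa [hev, comapPlace_apply] at this
    · intro hx Q
      obtain ⟨Q', rfl⟩ : ∃ Q', comapPlace σ Q' = Q :=
        ⟨comapPlace σ.symm Q, Subtype.ext (Valuation.ext fun w => by simp [comapPlace_apply])⟩
      rw [hev, comapPlace_apply]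
      exact hx Q'
  refine SetLike.ext fun x => ?_
  rw [key, key, show L (Finsupp.single P (m : ℤ)) = L (Finsupp.single P ((m : ℤ) - 1)) from h]

theorem finite_algEquiv (hK : IsFunctionField k K) (hg : 1 < genus k K)
    (hp : ringChar k = 0 ∨ 2 * genus k K - 2 < ringChar k) : Finite (K ≃ₐ[k] K) := by
  classical
  have hF := IsFF.of_isFunctionField hK
  obtain ⟨C, hC⟩ := exists_isCanonical hK
  haveI := hF.finiteDimensional_L C
  obtain ⟨n, hn⟩ : ∃ n, ell C = n + 1 := ⟨ell C - 1, by rw [ell_canonical hK hC]; omega⟩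
  let bC := Module.finBasisOfFinrankEq k (L C) hn
  set φ : Fin (n + 1) → K := fun i => (bC i : K)
  have hφ : LinearIndependent k φ := bC.linearIndependent.map' _ (Submodule.ker_subtype _)
  have hspan : Submodule.span k (Set.range φ) = L C := by
    have h := congrArg (Submodule.map (L C).subtype) bC.span_eq
    rw [Submodule.map_span, ← Set.range_comp, Submodule.map_subtype_top] at h
    exact h
  obtain ⟨s, hs, hsep⟩ := Groth.Funfld2.Hasse.exists_separating hF
  obtain ⟨H, hH⟩ := exists_isHasseFamily hF hs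
  obtain ⟨J, hJ, -⟩ := exists_orders hK hH hφ (AlgHom.id k K)
  choose t ht0 ht using fun P : Place k K => exists_uniformizer P
  set Φ : Place k K → (K →ₐ[k] LaurentSeries k) :=
    fun P => expansion ((Groth.Funfld2.good_of_algClosed hK).deg_one P) (ht P) with hΦdef
  have hΦ : ∀ P : Place k K, LocRes.IsExpansionAt P.1 (Φ P) := fun P => isExpansionAt_expansion _ _
  set W := {P : Place k K | wDiv (AlgHom.id k K) H Φ s φ J P ≠ 0}
  have hWfin : W.Finite := (wDiv (AlgHom.id k K) H Φ s φ J).support.finite_toSet.subset fun P hP => by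
    rw [Finset.mem_coe, Finsupp.mem_support_iff]; exact hP
  have hinv : ∀ (σ : K ≃ₐ[k] K), ∀ P ∈ W, comapPlace σ P ∈ W := by
    intro σ P hP h0
    refine hP ((wDiv_eq_zero_iff hK hC hφ hspan hp hH hJ hΦ P).2 fun m hm hgm => ?_)
    exact (wDiv_eq_zero_iff hK hC hφ hspan hp hH hJ hΦ _).1 h0 m hm (gap_comapPlace hgm)
  set Ker := {σ : K ≃ₐ[k] K | ∀ P ∈ W, comapPlace σ P = P}
  have hKer : Ker.Finite := by
    rcases Groth.Agent.S12618.result k K hK hg hp C hC φ hφ hspan s H hH J hJ Φ hΦ with ⟨-, h⟩ | ⟨-, x, hx, h⟩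
    · refine (Set.finite_singleton AlgEquiv.refl).subset fun σ hσ => ?_
      exact h σ fun P hP => isFixedPt_of_comapPlace_eq (hσ P hP)
    · set F := IntermediateField.adjoin k ({x} : Set K)
      haveI : FiniteDimensional F K := Module.finite_of_finrank_pos (by rw [hx]; omega)
      refine (Set.finite_range fun τ : K ≃ₐ[F] K => τ.restrictScalars k).subset fun σ hσ => ?_
      have hfix : σ x = x := (h σ).1 fun P hP => isFixedPt_of_comapPlace_eq (hσ P hP)
      have hF' : ∀ z : F, σ (z : K) = z := by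
        intro z
        have heq : (σ : K →ₐ[k] K).comp F.val = F.val := by
          refine IntermediateField.algHom_ext_of_eq_adjoin k rfl fun y hy => ?_
          rw [Set.mem_singleton_iff] at hy
          subst hy
          exact hfix
        exact DFunLike.congr_fun heq z
      exact ⟨AlgEquiv.ofRingEquiv (f := (σ : K ≃+* K)) hF', AlgEquiv.ext fun _ => rfl⟩
  haveI := hWfin.to_subtype
  haveI := hKer.to_subtype
  let ψ : (K ≃ₐ[k] K) → (W → W) := fun σ P => ⟨comapPlace σ P.1, hinv σ P.1 P.2⟩
  let sec : Set.range ψ → (K ≃ₐ[k] K) := fun f => f.2.choose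
  refine Finite.of_surjective (fun p : Set.range ψ × Ker => p.2.1 * sec p.1) fun σ => ?_
  set τ := sec ⟨ψ σ, σ, rfl⟩
  have hτ : ψ τ = ψ σ := (⟨ψ σ, σ, rfl⟩ : Set.range ψ).2.choose_spec
  refine ⟨(⟨ψ σ, σ, rfl⟩, ⟨σ * τ⁻¹, fun P hP => Subtype.ext (Valuation.ext fun z => ?_)⟩), ?_⟩
  · have h := congrArg (fun f : W → W => (f ⟨P, hP⟩).1.1 (τ⁻¹ z)) hτ
    simp only [ψ, comapPlace_apply] at h
    rw [comapPlace_apply]
    show P.1 (σ (τ⁻¹ z)) = P.1 z
    rw [← h]
    congr 1
    exact τ.apply_symm_apply z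
  · show σ * τ⁻¹ * τ = σ
    rw [inv_mul_cancel_right]

end Groth.FunFld1
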