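import Groth.Agent.FunFld1.Geometric
import Groth.Agent.FunFld1.Residues

/-!
The integral closure of a place with separable residue field in a constant field extension.
-/

set_option linter.style.haveILetI false
set_option linter.unusedSectionVars false

open FunFld WithZero
open scoped TensorProduct

namespace Groth.FunFld1

variable {k k' K K' : Type*} [Field k] [Field k'] [Field K] [Field K'] [Algebra k k']
  [FiniteDimensional k k'] [Algebra k K] [Algebra K K'] [Algebra k' K'] [Algebra k K']
  [IsScalarTower k k' K'] [IsScalarTower k K K']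

/-- The inclusion `O_P → K` over `k`. -/
def inclK (P : Place k K) : P.O →ₐ[k] K := { P.O.subtype with commutes' := fun _ => rfl }

/-- The residue map over `k`. -/
noncomputable def resK (P : Place k K) : P.O →ₐ[k] IsLocalRing.ResidueField P.O :=
  { IsLocalRing.residue P.O with commutes' := fun _ => rfl }

theorem isReduced_tensor_separable {F : Type*} [Field F] [Algebra k F] [Algebra.IsSeparable k F]
    [Algebra.EssFiniteType k F] : IsReduced (k' ⊗[k] F) := by
  haveI : Algebra.FormallyUnramified k F := Algebra.FormallyUnramified.of_isSeparable k _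
  exact isReduced_tensor_of_isField (F := k) (L := k') (K := F) (Field.toIsField k')

theorem integralClosure_eq_adjoin_aux {F : Type*} [Field F] [Algebra k F] [Algebra.IsSeparable k F]
    [Algebra.EssFiniteType k F]
    (h : Function.Bijective (Algebra.TensorProduct.productMap
      (IsScalarTower.toAlgHom k k' K') (IsScalarTower.toAlgHom k K K')))
    (P : Place k K) (ρ : P.O →ₐ[k] F) (hρs : Function.Surjective ρ)
    (hρ0 : ∀ a : P.O, ρ a = 0 ↔ P.1 (a : K) < 1)
    [Algebra P.O K'] [IsScalarTower P.O K K'] [FiniteDimensional K K'] :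
    integralClosure P.O K' = Algebra.adjoin P.O (Set.range (algebraMap k' K')) := by
  classical
  haveI hred := isReduced_tensor_separable (k := k) (k' := k') (F := F)
  set Φ := Algebra.TensorProduct.productMap (IsScalarTower.toAlgHom k k' K') (IsScalarTower.toAlgHom k K K')
  let Λ : k' ⊗[k] P.O →ₐ[k] K' := Φ.comp (Algebra.TensorProduct.map (AlgHom.id k k') (inclK P))
  have hΛinj : Function.Injective Λ := h.1.comp
    (Module.Flat.lTensor_preserves_injective_linearMap (M := k') (inclK P).toLinearMap Subtype.val_injective)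
  have hΛ1 : ∀ a : P.O, Λ ((1 : k') ⊗ₜ a) = algebraMap P.O K' a := fun a => by
    rw [algebraMap_O_apply]
    simp [Λ, Φ, inclK]
  set A := Algebra.adjoin P.O (Set.range (algebraMap k' K')) with hA
  have hrange : ∀ t, Λ t ∈ A := by
    intro t
    induction t using TensorProduct.induction_on with
    | zero => simp
    | tmul c a =>
      rw [show c ⊗ₜ[k] a = (c ⊗ₜ[k] (1 : P.O)) * ((1 : k') ⊗ₜ[k] a) by simp, map_mul, hΛ1]
      refine mul_mem (Algebra.subset_adjoin ⟨c, ?_⟩) (Subalgebra.algebraMap_mem _ a)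
      simp [Λ, Φ]
    | add a b ha hb => rw [map_add]; exact add_mem ha hb
  have hval : ∀ c : k', IsIntegral P.O (algebraMap k' K' c) := by
    intro c
    obtain ⟨p, hp, hpe⟩ := IsIntegral.of_finite k c
    refine ⟨p.map (algebraMap k P.O), hp.map _, ?_⟩
    have e : (algebraMap P.O K').comp (algebraMap k P.O) = algebraMap k K' := by
      refine RingHom.ext fun a => ?_
      rw [RingHom.comp_apply, algebraMap_O_apply, IsScalarTower.algebraMap_apply k K K']
      rfl
    rw [Polynomial.eval₂_map, e, IsScalarTower.algebraMap_eq k k' K', ← Polynomial.hom_eval₂,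
      show p.eval₂ (algebraMap k k') c = 0 from hpe, map_zero]
  refine le_antisymm (fun z hz => ?_) (Algebra.adjoin_le (by rintro _ ⟨c, rfl⟩; exact hval c))
  obtain ⟨π, hπ⟩ := exists_val_eq_exp P (-1)
  have hπ1 : P.1 π ≤ 1 := hπ.trans_le (exp_le_one.mpr (by omega))
  have hπ0 : π ≠ 0 := ne_zero_of_val_eq hπ
  set ϖ : P.O := ⟨π, hπ1⟩
  have hϖ : algebraMap P.O K' ϖ = algebraMap K K' π := algebraMap_O_apply _
  have step1 : ∀ y : K', ∃ m : ℕ, ∀ n ≥ m, algebraMap P.O K' ϖ ^ n * y ∈ Λ.range := by
    intro y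
    obtain ⟨t, rfl⟩ := h.2 y
    induction t using TensorProduct.induction_on with
    | zero => exact ⟨0, fun n _ => by simp⟩
    | tmul c x =>
      refine ⟨(-P.ord x).toNat, fun n hn => ?_⟩
      have hx : P.1 (π ^ n * x) ≤ 1 := by
        by_cases hx0 : x = 0
        · simp [hx0]
        · rw [map_mul, map_pow, hπ, val_eq_exp_neg_ord P hx0, ← exp_nsmul, ← exp_add, exp_le_one,
            nsmul_eq_mul]
          omega
      refine ⟨c ⊗ₜ ⟨π ^ n * x, hx⟩, ?_⟩
      simp [Λ, Φ, inclK, hϖ]
      ring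
    | add a b ha hb =>
      obtain ⟨m, hm⟩ := ha
      obtain ⟨l, hl⟩ := hb
      refine ⟨max m l, fun n hn => ?_⟩
      rw [map_add, mul_add]
      exact add_mem (hm n (le_trans (le_max_left _ _) hn)) (hl n (le_trans (le_max_right _ _) hn))
  obtain ⟨q, hq, hqz⟩ := (hz : IsIntegral P.O z)
  obtain ⟨m₀, hm₀⟩ := step1 z
  by_contra hzA
  have hex : ∃ m : ℕ, algebraMap P.O K' ϖ ^ m * z ∈ Λ.range := ⟨m₀, hm₀ m₀ le_rfl⟩
  set m := Nat.find hex with hm_def
  have hm := Nat.find_spec hex
  have hmpos : m ≠ 0 := by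
    intro h0
    rw [← hm_def, h0, pow_zero, one_mul] at hm
    obtain ⟨t, ht⟩ := hm
    exact hzA (ht ▸ hrange t)
  obtain ⟨t, ht⟩ := hm
  have ht' : Λ t = algebraMap P.O K' ϖ ^ m * z := ht
  set d := q.natDegree
  -- all powers of `z` have bounded denominators
  have hpow : algebraMap P.O K' ϖ ^ (m * d) * z ^ (d + 1) ∈ Λ.range := by
    have hr : z ^ (d + 1) = Polynomial.aeval z ((Polynomial.X ^ (d + 1)) %ₘ q) := by
      have e := congrArg (Polynomial.aeval z) (Polynomial.modByMonic_add_div (Polynomial.X ^ (d + 1)) (q := q))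
      rw [map_add, map_mul, show Polynomial.aeval z q = 0 from hqz, zero_mul, add_zero, map_pow,
        Polynomial.aeval_X] at e
      exact e.symm
    rw [hr, Polynomial.aeval_eq_sum_range, Finset.mul_sum]
    refine sum_mem fun i hi => ?_
    by_cases hi0 : ((Polynomial.X ^ (d + 1)) %ₘ q).coeff i = 0
    · rw [Algebra.smul_def, hi0, map_zero, zero_mul, mul_zero]; exact zero_mem _
    have hid : i ≤ d := by
      by_contra hlt
      refine hi0 (Polynomial.coeff_eq_zero_of_natDegree_lt (lt_of_le_of_lt ?_ (not_le.mp hlt)))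
      exact Polynomial.natDegree_modByMonic_le _ hq
    rw [Algebra.smul_def, mul_left_comm]
    refine mul_mem ⟨_, hΛ1 _⟩ ?_
    rw [show m * d = m * i + m * (d - i) by rw [← mul_add]; congr 1; omega, pow_add, mul_right_comm,
      pow_mul, ← mul_pow, ← ht']
    exact mul_mem (pow_mem (show Λ t ∈ Λ.range from ⟨t, rfl⟩) i)
      (pow_mem (show algebraMap P.O K' ϖ ∈ Λ.range from ⟨_, hΛ1 ϖ⟩) _)
  obtain ⟨s, hs⟩ := hpow
  have hs' : Λ s = algebraMap P.O K' ϖ ^ (m * d) * z ^ (d + 1) := hs
  have hteq : t ^ (d + 1) = ((1 : k') ⊗ₜ[k] ϖ) ^ m * s := by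
    refine hΛinj ?_
    rw [map_pow, map_mul, map_pow, hΛ1, ht', hs', mul_pow, ← pow_mul, ← mul_assoc, ← pow_add]
    congr 2
    ring
  let red : k' ⊗[k] P.O →ₐ[k] k' ⊗[k] F :=
    Algebra.TensorProduct.map (AlgHom.id k k') ρ
  have hredϖ : red ((1 : k') ⊗ₜ ϖ) = 0 := by
    have : ρ ϖ = 0 := (hρ0 _).mpr (hπ.trans_lt (exp_lt_one.mpr (by omega)))
    simp [red, this]
  have hred0 : red t = 0 := by
    refine eq_zero_of_pow_eq_zero (n := d + 1) ?_
    rw [← map_pow, hteq, map_mul, map_pow, hredϖ, zero_pow hmpos, zero_mul]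
  have hker : RingHom.ker red = Ideal.span {(1 : k') ⊗ₜ[k] ϖ} := by
    rw [Algebra.TensorProduct.lTensor_ker ρ hρs]
    have hk : RingHom.ker ρ = Ideal.span {ϖ} := by
      refine le_antisymm (fun a ha => ?_) ?_
      · have hlt : P.1 (a : K) < 1 := (hρ0 a).mp ha
        have hle : P.1 ((a : K) / π) ≤ 1 := by
          rw [map_div₀, hπ, div_le_one₀ exp_pos]
          exact lt_one_iff_le_exp_neg_one.mp hlt
        exact Ideal.mem_span_singleton.mpr ⟨⟨(a : K) / π, hle⟩, Subtype.ext (mul_div_cancel₀ _ hπ0).symm⟩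
      · rw [Ideal.span_le, Set.singleton_subset_iff]
        exact (hρ0 _).mpr (hπ.trans_lt (exp_lt_one.mpr (by omega)))
    rw [hk, Ideal.map_span, Set.image_singleton]
    rfl
  obtain ⟨s', hs''⟩ := Ideal.mem_span_singleton.mp (hker ▸ RingHom.mem_ker.mpr hred0)
  refine Nat.find_min hex (m := m - 1) (by omega) ⟨s', ?_⟩
  show Λ s' = _
  have e := congrArg Λ hs''
  rw [map_mul, hΛ1, ht', show m = (m - 1) + 1 by omega, pow_succ'] at e
  have h0 : algebraMap P.O K' ϖ ≠ 0 := by rw [hϖ]; simpa using hπ0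
  exact (mul_left_cancel₀ h0 ((mul_assoc _ _ _).symm.trans e)).symm

theorem integralClosure_eq_adjoin_const
    (h : Function.Bijective (Algebra.TensorProduct.productMap
      (IsScalarTower.toAlgHom k k' K') (IsScalarTower.toAlgHom k K K')))
    (hF : IsFF k K) (P : Place k K) [Algebra.IsSeparable k (IsLocalRing.ResidueField P.O)]
    [Algebra P.O K'] [IsScalarTower P.O K K'] [FiniteDimensional K K'] :
    integralClosure P.O K' = Algebra.adjoin P.O (Set.range (algebraMap k' K')) := by
  haveI : @Module.Finite k (IsLocalRing.ResidueField P.O) _ _ Algebra.toModule :=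
    Module.finite_of_finrank_pos (hF.deg_pos P)
  exact integralClosure_eq_adjoin_aux h P (resK P) IsLocalRing.residue_surjective
    (residue_eq_zero_iff P)

end Groth.FunFld1
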