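import Groth.Agent.FunFld1.Geometric

/-!
Change of the constant field: finiteness, transcendence and geometricity.
-/

set_option linter.style.haveILetI false
set_option linter.unusedSectionVars false

open FunFld
open scoped TensorProduct IntermediateField

namespace Groth.FunFld1

universe u

variable {k k' : Type u} {K K' : Type*} [Field k] [Field k'] [Field K] [Field K'] [Algebra k k']
  [Algebra k K] [Algebra K K'] [Algebra k' K'] [Algebra k K'] [IsScalarTower k k' K'] [IsScalarTower k K K']

theorem algebraMap_mem_adjoin_base (x : K) {a : K} (ha : a ∈ IntermediateField.adjoin k ({x} : Set K)) :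
    algebraMap K K' a ∈ IntermediateField.adjoin k' ({algebraMap K K' x} : Set K') := by
  induction ha using IntermediateField.adjoin_induction with
  | mem z hz =>
    rw [Set.mem_singleton_iff.mp hz]
    exact IntermediateField.mem_adjoin_simple_self k' _
  | algebraMap c =>
    rw [← IsScalarTower.algebraMap_apply k K K', IsScalarTower.algebraMap_apply k k' K']
    exact IntermediateField.algebraMap_mem _ _
  | add a b _ _ ha hb => rw [map_add]; exact add_mem ha hb
  | mul a b _ _ ha hb => rw [map_mul]; exact mul_mem ha hb
  | inv a _ ha => rw [map_inv₀]; exact inv_mem ha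

/-- `k(x) → k'(x)`. -/
noncomputable def adjoinBase (x : K) :
    IntermediateField.adjoin k ({x} : Set K) →+*
      IntermediateField.adjoin k' ({algebraMap K K' x} : Set K') :=
  ((algebraMap K K').comp (algebraMap (IntermediateField.adjoin k ({x} : Set K)) K)).codRestrict _
    fun a => algebraMap_mem_adjoin_base x a.2

theorem finiteDimensional_base [FiniteDimensional K K'] (hF : IsFF k K) {x : K}
    (hx : Transcendental k x) :
    FiniteDimensional (IntermediateField.adjoin k' ({algebraMap K K' x} : Set K')) K' := by
  haveI := hF.finiteDimensional hx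
  haveI : Module.Finite (IntermediateField.adjoin k ({x} : Set K)) K' := Module.Finite.trans K K'
  letI : Algebra (IntermediateField.adjoin k ({x} : Set K))
      (IntermediateField.adjoin k' ({algebraMap K K' x} : Set K')) := (adjoinBase x).toAlgebra
  haveI : IsScalarTower (IntermediateField.adjoin k ({x} : Set K))
      (IntermediateField.adjoin k' ({algebraMap K K' x} : Set K')) K' :=
    IsScalarTower.of_algebraMap_eq fun _ => rfl
  exact Module.Finite.of_restrictScalars_finite (IntermediateField.adjoin k ({x} : Set K)) _ _

theorem isSeparable_base [FiniteDimensional K K'] [Algebra.IsSeparable K K'] {x : K}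
    [Algebra.IsSeparable (IntermediateField.adjoin k ({x} : Set K)) K] :
    Algebra.IsSeparable (IntermediateField.adjoin k' ({algebraMap K K' x} : Set K')) K' := by
  haveI : Algebra.IsSeparable (IntermediateField.adjoin k ({x} : Set K)) K' :=
    Algebra.IsSeparable.trans _ K K'
  letI : Algebra (IntermediateField.adjoin k ({x} : Set K))
      (IntermediateField.adjoin k' ({algebraMap K K' x} : Set K')) := (adjoinBase x).toAlgebra
  haveI : IsScalarTower (IntermediateField.adjoin k ({x} : Set K))
      (IntermediateField.adjoin k' ({algebraMap K K' x} : Set K')) K' :=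
    IsScalarTower.of_algebraMap_eq fun _ => rfl
  exact Algebra.isSeparable_tower_top_of_isSeparable (IntermediateField.adjoin k ({x} : Set K)) _ _

theorem transcendental_base [FiniteDimensional K K'] (hF : IsFF k K) (hK' : IsFunctionField k' K')
    {x : K} (hx : Transcendental k x) : Transcendental k' (algebraMap K K' x) := by
  intro halg
  haveI := finiteDimensional_base (k' := k') (K' := K') hF hx
  haveI := IntermediateField.adjoin.finiteDimensional halg.isIntegral
  haveI : Module.Finite k' K' :=
    Module.Finite.trans (IntermediateField.adjoin k' ({algebraMap K K' x} : Set K')) K'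
  obtain ⟨z, hz, -⟩ := hK'.1
  exact hz (Algebra.IsAlgebraic.isAlgebraic z)

/-- A separable extension of a geometric function field is geometric over its constant field. -/
theorem isGeometric_of_separable [FiniteDimensional K K'] [Algebra.IsSeparable K K']
    (hF : IsFF k K) (hg : IsGeometric k K) (hK' : IsFunctionField k' K') : IsGeometric k' K' := by
  obtain ⟨x, hx, hsep⟩ := Groth.Funfld2.Residue.exists_separating hF hg
  haveI := isSeparable_base (k := k) (k' := k') (K' := K') (x := x)
  exact isGeometric_of_separating hK' (transcendental_base hF hK' hx)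

section Tensor

variable [FiniteDimensional k k']
  (h : Function.Bijective (Algebra.TensorProduct.productMap
    (IsScalarTower.toAlgHom k k' K') (IsScalarTower.toAlgHom k K K')))

include h in
theorem finiteDimensional_of_tensor : FiniteDimensional K K' := by
  let g : K ⊗[k] k' →ₐ[K] K' :=
    Algebra.TensorProduct.lift (Algebra.ofId K K') (IsScalarTower.toAlgHom k k' K') fun _ _ => Commute.all _ _
  refine Module.Finite.of_surjective g.toLinearMap fun z => ?_
  obtain ⟨t, rfl⟩ := h.2 z
  refine ⟨Algebra.TensorProduct.comm k k' K t, ?_⟩
  induction t using TensorProduct.induction_on with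
  | zero => simp
  | tmul a b => simp [g, mul_comm, Algebra.ofId_apply]
  | add a b ha hb => simp only [map_add, ha, hb]

include h in
theorem finrank_of_tensor : Module.finrank K K' = Module.finrank k k' := by
  let g : K ⊗[k] k' →ₐ[K] K' :=
    Algebra.TensorProduct.lift (Algebra.ofId K K') (IsScalarTower.toAlgHom k k' K') fun _ _ => Commute.all _ _
  have hfun : ⇑g = ⇑(Algebra.TensorProduct.productMap (IsScalarTower.toAlgHom k k' K')
      (IsScalarTower.toAlgHom k K K')) ∘ ⇑(Algebra.TensorProduct.comm k K k') := by
    funext t
    induction t using TensorProduct.induction_on with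
    | zero => simp
    | tmul a b => simp [g, mul_comm, Algebra.ofId_apply]
    | add a b ha hb => simp only [map_add, Function.comp_apply] at ha hb ⊢; rw [ha, hb]
  have hg : Function.Bijective g.toLinearMap := by
    show Function.Bijective g
    rw [hfun]
    exact h.comp (Algebra.TensorProduct.comm k K k').bijective
  rw [← (LinearEquiv.ofBijective g.toLinearMap hg).finrank_eq, Module.finrank_baseChange]

include h in
theorem isGeometric_tensor (hg : IsGeometric k K) : IsGeometric k' K' := by
  intro k'' _ _ _
  letI : Algebra k k'' := ((algebraMap k' k'').comp (algebraMap k k')).toAlgebra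
  haveI : IsScalarTower k k' k'' := IsScalarTower.of_algebraMap_eq fun _ => rfl
  haveI : FiniteDimensional k k'' := Module.Finite.trans k' k''
  let e : k' ⊗[k] K ≃ₐ[k'] K' := AlgEquiv.ofBijective
    (Algebra.TensorProduct.lift (Algebra.ofId k' K') (IsScalarTower.toAlgHom k K K')
      fun _ _ => Commute.all _ _) h
  exact MulEquiv.isField (hg k'' inferInstance)
    ((Algebra.TensorProduct.congr (AlgEquiv.refl (R := k') (A₁ := k'')) e).symm.toRingEquiv.trans
      (Algebra.TensorProduct.cancelBaseChange k k' k'' k'' K).toRingEquiv).toMulEquiv

include h in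
theorem mem_range_tensor (hg : IsGeometric k K) {y : K'} (hy : IsAlgebraic k' y) :
    y ∈ Set.range (algebraMap k' K') := by
  by_contra hcon
  have hi : IsIntegral k' y := hy.isIntegral
  haveI : Fact (Irreducible (minpoly k' y)) := ⟨minpoly.irreducible hi⟩
  haveI : FiniteDimensional k' (AdjoinRoot (minpoly k' y)) :=
    (AdjoinRoot.powerBasis (minpoly.ne_zero hi)).finite
  haveI : FiniteDimensional k (AdjoinRoot (minpoly k' y)) := Module.Finite.trans k' _
  set ρ := AdjoinRoot.root (minpoly k' y)
  let ψ : AdjoinRoot (minpoly k' y) →ₐ[k'] K' :=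
    AdjoinRoot.liftAlgHom (minpoly k' y) (Algebra.ofId k' K') y (minpoly.aeval k' y)
  let φ : AdjoinRoot (minpoly k' y) ⊗[k] K →ₐ[k] K' :=
    Algebra.TensorProduct.productMap (ψ.restrictScalars k) (IsScalarTower.toAlgHom k K K')
  let j : k' ⊗[k] K →ₐ[k] AdjoinRoot (minpoly k' y) ⊗[k] K :=
    Algebra.TensorProduct.map (IsScalarTower.toAlgHom k k' _) (AlgHom.id k K)
  have hφinj : Function.Injective φ := by
    letI := (hg (AdjoinRoot (minpoly k' y)) inferInstance).toField
    exact φ.toRingHom.injective
  have hφj : ∀ t, φ (j t) = Algebra.TensorProduct.productMap (IsScalarTower.toAlgHom k k' K')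
      (IsScalarTower.toAlgHom k K K') t := by
    intro t
    induction t using TensorProduct.induction_on with
    | zero => simp
    | tmul a b => simp [φ, j, ψ]
    | add a b ha hb => simp only [map_add, ha, hb]
  obtain ⟨t, ht⟩ := h.2 y
  have he : j t = ρ ⊗ₜ[k] (1 : K) := hφinj (by rw [hφj, ht]; simp [φ, ψ, ρ])
  have hρ : ρ ∉ (Submodule.span k' {(1 : AdjoinRoot (minpoly k' y))}) := by
    rw [Submodule.mem_span_singleton]
    rintro ⟨c, hc⟩
    refine hcon ⟨c, ?_⟩
    have := congrArg ψ hc
    rw [map_smul, map_one, ← Algebra.algebraMap_eq_smul_one] at this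
    simpa [ψ, ρ] using this
  obtain ⟨f, hf1, hf0⟩ := Submodule.exists_dual_map_eq_bot_of_notMem hρ inferInstance
  have hf0' : f 1 = 0 := by
    have : f 1 ∈ Submodule.map f (Submodule.span k' {(1 : AdjoinRoot (minpoly k' y))}) :=
      Submodule.mem_map_of_mem (Submodule.mem_span_singleton_self _)
    rwa [hf0, Submodule.mem_bot] at this
  let F := LinearMap.rTensor K (f.restrictScalars k)
  have hFj : ∀ s, F (j s) = 0 := by
    intro s
    induction s using TensorProduct.induction_on with
    | zero => simp
    | tmul a b =>
      have : f (algebraMap k' (AdjoinRoot (minpoly k' y)) a) = 0 := by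
        rw [Algebra.algebraMap_eq_smul_one, map_smul, hf0', smul_zero]
      simp only [F, j, Algebra.TensorProduct.map_tmul, AlgHom.id_apply, LinearMap.rTensor_tmul,
        LinearMap.coe_restrictScalars, IsScalarTower.coe_toAlgHom', this, TensorProduct.zero_tmul]
    | add a b ha hb => rw [map_add, map_add, ha, hb, add_zero]
  have h1 : (f ρ) ⊗ₜ[k] (1 : K) = 0 := by
    have := hFj t
    rwa [he, LinearMap.rTensor_tmul] at this
  have h2 := congrArg (Algebra.TensorProduct.productMap (IsScalarTower.toAlgHom k k' K')
      (IsScalarTower.toAlgHom k K K')) h1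
  rw [map_zero] at h2
  simp at h2
  exact hf1 h2

include h in
theorem isFunctionField_tensor (hK : IsFunctionField k K) (hg : IsGeometric k K) :
    IsFunctionField k' K' := by
  haveI := finiteDimensional_of_tensor h
  have hF := IsFF.of_isFunctionField hK
  obtain ⟨x, hx, -⟩ := hK.1
  refine ⟨⟨algebraMap K K' x, ?_, finiteDimensional_base hF hx⟩, fun y hy => mem_range_tensor h hg hy⟩
  exact fun halg => IsFF.transcendental_algebraMap hx (halg.restrictScalars k)

end Tensor

end Groth.FunFld1
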