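import Groth.Agent.FunFld1.ConstComp
import Groth.Agent.FunFld1.Residues
import Mathlib.FieldTheory.PurelyInseparable.Tower

/-!
Unique extension of a place to a purely inseparable (or residually purely inseparable) constant
field extension.
-/

set_option linter.style.haveILetI false
set_option linter.unusedSectionVars false

open FunFld
open scoped TensorProduct IntermediateField

namespace Groth.FunFld1

universe u

variable {k k' : Type u} {K K' : Type*} [Field k] [Field k'] [Field K] [Field K'] [Algebra k k']
  [FiniteDimensional k k'] [Algebra k K] [Algebra K K'] [Algebra k' K'] [Algebra k K']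
  [IsScalarTower k k' K'] [IsScalarTower k K K']

/-- If every constant has a `q^n`-th power landing in `E`, then `K'/E` is purely inseparable. -/
theorem isPurelyInseparable_of_const
    (h : Function.Bijective (Algebra.TensorProduct.productMap
      (IsScalarTower.toAlgHom k k' K') (IsScalarTower.toAlgHom k K K')))
    (E : IntermediateField K K') (q : ℕ) [ExpChar K q]
    (hc : ∀ c : k', ∃ n : ℕ, algebraMap k' K' c ^ q ^ n ∈ E) : IsPurelyInseparable E K' := by
  haveI : ExpChar K' q := expChar_of_injective_algebraMap (algebraMap K K').injective q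
  haveI : ExpChar E q := expChar_of_injective_algebraMap (algebraMap K E).injective q
  have hup : ∀ (r : K') (n m : ℕ), n ≤ m → r ^ q ^ n ∈ E → r ^ q ^ m ∈ E := by
    intro r n m hnm hr
    obtain ⟨d, rfl⟩ := Nat.exists_eq_add_of_le hnm
    rw [pow_add, pow_mul]
    exact pow_mem hr _
  refine (isPurelyInseparable_iff_pow_mem E q).mpr fun y => ?_
  suffices ∃ n : ℕ, y ^ q ^ n ∈ E by
    obtain ⟨n, hn⟩ := this
    exact ⟨n, ⟨_, hn⟩, rfl⟩
  obtain ⟨t, rfl⟩ := h.2 y
  induction t using TensorProduct.induction_on with
  | zero => exact ⟨0, by simp⟩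
  | tmul c x =>
    obtain ⟨n, hn⟩ := hc c
    refine ⟨n, ?_⟩
    rw [Algebra.TensorProduct.productMap_apply_tmul, mul_pow]
    exact mul_mem hn (pow_mem (E.algebraMap_mem x) _)
  | add a b ha hb =>
    obtain ⟨n, hn⟩ := ha
    obtain ⟨m, hm⟩ := hb
    refine ⟨max n m, ?_⟩
    rw [map_add, add_pow_expChar_pow]
    exact add_mem (hup _ n _ (le_max_left _ _) hn) (hup _ m _ (le_max_right _ _) hm)

/-- A separable constant generator does not split a place with purely inseparable residue field. -/
theorem over_unique_of_residue {L : Type*} [Field L] [Algebra K L] [Algebra k L] [IsScalarTower k K L]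
    [FiniteDimensional K L] (hF : IsFF k K) {P : Place k K}
    [IsPurelyInseparable k (IsLocalRing.ResidueField P.O)] {θ : L}
    (hi : IsIntegral k θ) (hsep : (minpoly k θ).Separable)
    (hdeg : (minpoly k θ).natDegree = Module.finrank K L)
    {R R' : Place k L} (hR : IsOver R P) (hR' : IsOver R' P) : R = R' := by
  classical
  have key : ∀ S : Place k L, IsOver S P → P.deg * Module.finrank K L ≤ ramIdx S P * S.deg := by
    intro S hS
    have hFL : IsFF k L := hF.ext
    letI : Algebra (IsLocalRing.ResidueField P.O) (IsLocalRing.ResidueField S.O) := (resMap hS).toAlgebra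
    haveI htower : IsScalarTower k (IsLocalRing.ResidueField P.O) (IsLocalRing.ResidueField S.O) :=
      IsScalarTower.of_algebraMap_eq fun c => (resMap_algebraMap hS c).symm
    have hθ : S.1 θ ≤ 1 := by
      by_cases h0 : θ = 0
      · simp [h0]
      · exact (val_eq_one_of_isAlgebraic S hi.isAlgebraic h0).le
    set b := IsLocalRing.residue S.O ⟨θ, hθ⟩
    let σ : S.O →ₐ[k] IsLocalRing.ResidueField S.O := { IsLocalRing.residue S.O with commutes' := fun _ => rfl }
    let ι : S.O →ₐ[k] L := { S.O.subtype with commutes' := fun _ => rfl }
    have h0 : Polynomial.aeval (⟨θ, hθ⟩ : S.O) (minpoly k θ) = 0 := by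
      apply Subtype.val_injective
      show ι (Polynomial.aeval (⟨θ, hθ⟩ : S.O) (minpoly k θ)) = 0
      rw [← Polynomial.aeval_algHom_apply]
      exact minpoly.aeval k θ
    have hb0 : Polynomial.aeval b (minpoly k θ) = 0 := by
      rw [show b = σ ⟨θ, hθ⟩ from rfl, Polynomial.aeval_algHom_apply, h0, map_zero]
    have hmin : minpoly k b = minpoly k θ :=
      (minpoly.eq_of_irreducible_of_monic (minpoly.irreducible hi) hb0 (minpoly.monic hi)).symm
    have hbsep : IsSeparable k b := by show (minpoly k b).Separable; rwa [hmin]
    have hdeg' : (minpoly (IsLocalRing.ResidueField P.O) b).natDegree = Module.finrank K L := by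
      rw [← minpoly.map_eq_of_isSeparable_of_isPurelyInseparable (IsLocalRing.ResidueField P.O) b hbsep,
        Polynomial.natDegree_map, hmin, hdeg]
    haveI : Module.Finite (IsLocalRing.ResidueField P.O) (IsLocalRing.ResidueField S.O) :=
      @Module.Finite.of_restrictScalars_finite k (IsLocalRing.ResidueField P.O)
        (IsLocalRing.ResidueField S.O) _ _ _ _ _ _ htower (Module.finite_of_finrank_pos (hFL.deg_pos S))
    have hle : Module.finrank K L ≤
        Module.finrank (IsLocalRing.ResidueField P.O) (IsLocalRing.ResidueField S.O) :=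
      hdeg' ▸ minpoly.natDegree_le b
    have hmul : S.deg = P.deg * Module.finrank (IsLocalRing.ResidueField P.O) (IsLocalRing.ResidueField S.O) :=
      (@Module.finrank_mul_finrank k (IsLocalRing.ResidueField P.O) (IsLocalRing.ResidueField S.O)
        _ _ _ _ _ _ htower).symm
    calc P.deg * Module.finrank K L ≤ S.deg := hmul ▸ Nat.mul_le_mul_left _ hle
      _ ≤ ramIdx S P * S.deg := Nat.le_mul_of_pos_left _ (overWith_pos (isOverWith_ramIdx hS))
  by_contra hne
  have h1 := hF.sum_ramIdx_deg (K' := L) P
  have h2 : ∑ S ∈ ({R, R'} : Finset (Place k L)), ramIdx S P * S.deg ≤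
      Module.finrank K L * P.deg := by
    rw [← h1]
    refine Finset.sum_le_sum_of_subset fun S hS => hF.mem_above.mpr ?_
    rcases Finset.mem_insert.mp hS with rfl | hS
    · exact hR
    · exact Finset.mem_singleton.mp hS ▸ hR'
  rw [Finset.sum_pair hne] at h2
  have h3 := key R hR
  have h4 := key R' hR'
  have hpos : 0 < P.deg * Module.finrank K L := Nat.mul_pos (hF.deg_pos P) Module.finrank_pos
  have hcomm : Module.finrank K L * P.deg = P.deg * Module.finrank K L := mul_comm _ _
  omega

theorem exists_unique_over_const
    (h : Function.Bijective (Algebra.TensorProduct.productMap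
      (IsScalarTower.toAlgHom k k' K') (IsScalarTower.toAlgHom k K K')))
    (hK : IsFunctionField k K) (P : Place k K)
    (hpi : IsPurelyInseparable k k' ∨ IsPurelyInseparable k (IsLocalRing.ResidueField P.O)) :
    ∃! Q : Place k K', IsOver Q P := by
  classical
  haveI := finiteDimensional_of_tensor h
  have hF := IsFF.of_isFunctionField hK
  obtain ⟨Q, hQ⟩ := hF.exists_over (K' := K') P
  refine ⟨Q, hQ, fun Q' hQ' => ?_⟩
  let q := ringExpChar k
  haveI : ExpChar K q := expChar_of_injective_algebraMap (algebraMap k K).injective q
  haveI : ExpChar k' q := expChar_of_injective_algebraMap (algebraMap k k').injective q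
  rcases hpi with hpi | hpi
  · haveI hb : IsPurelyInseparable (⊥ : IntermediateField K K') K' := by
      refine isPurelyInseparable_of_const h ⊥ q fun c => ?_
      obtain ⟨n, a, ha⟩ := IsPurelyInseparable.pow_mem k q c
      refine ⟨n, ?_⟩
      rw [← map_pow, ← ha, ← IsScalarTower.algebraMap_apply, IsScalarTower.algebraMap_apply k K K']
      exact IntermediateField.algebraMap_mem _ _
    haveI : IsPurelyInseparable K K' := by
      haveI : IsPurelyInseparable K (⊥ : IntermediateField K K') := inferInstance
      exact IsPurelyInseparable.trans K (⊥ : IntermediateField K K') K'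
    exact over_unique_of_isPurelyInseparable hQ' hQ
  · obtain ⟨θ, hθ⟩ := Field.exists_primitive_element k (separableClosure k k')
    set θ' := algebraMap k' K' (θ : k')
    have hi : IsIntegral k θ := IsIntegral.of_finite k θ
    have hi' : IsIntegral k θ' := (hi.map (separableClosure k k').val).map (IsScalarTower.toAlgHom k k' K')
    have hmin : minpoly k θ' = minpoly k θ := by
      rw [minpoly.algebraMap_eq (algebraMap k' K').injective]
      exact minpoly.algHom_eq (separableClosure k k').val Subtype.val_injective θ
    set Ks := IntermediateField.adjoin K ({θ'} : Set K')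
    haveI : IsScalarTower k Ks K' := IsScalarTower.of_algebraMap_eq fun c => by
      rw [IsScalarTower.algebraMap_apply k K K', IsScalarTower.algebraMap_apply k K Ks,
        ← IsScalarTower.algebraMap_apply K Ks K']
    have hFs : IsFF k Ks := hF.ext
    haveI hb : IsPurelyInseparable Ks K' := by
      refine isPurelyInseparable_of_const h Ks q fun c => ?_
      obtain ⟨n, a, ha⟩ := IsPurelyInseparable.pow_mem (separableClosure k k') q c
      refine ⟨n, ?_⟩
      rw [← map_pow, ← ha]
      have : a ∈ IntermediateField.adjoin k ({θ} : Set (separableClosure k k')) := hθ ▸ IntermediateField.mem_top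
      obtain ⟨r, s, rfl⟩ := (IntermediateField.mem_adjoin_simple_iff k _).1 this
      rw [map_div₀, map_div₀]
      have hmem : ∀ r : Polynomial k, algebraMap k' K' (algebraMap (separableClosure k k') k'
          (Polynomial.aeval θ r)) ∈ Ks := fun r => by
        have : algebraMap k' K' (algebraMap (separableClosure k k') k' (Polynomial.aeval θ r)) =
            Polynomial.aeval θ' (r.map (algebraMap k K)) := by
          rw [Polynomial.aeval_map_algebraMap, ← Polynomial.aeval_algebraMap_apply, ← Polynomial.aeval_algebraMap_apply]
          rfl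
        rw [this]
        exact IntermediateField.algebra_adjoin_le_adjoin K _ (Polynomial.aeval_mem_adjoin_singleton K θ')
      exact div_mem (hmem r) (hmem s)
    set g : Ks := IntermediateField.AdjoinSimple.gen K θ'
    have hmg : minpoly k g = minpoly k θ := by
      rw [← hmin]
      exact (minpoly.algHom_eq (Ks.val.restrictScalars k) Subtype.val_injective g).symm
    have hdeg : (minpoly k g).natDegree = Module.finrank K Ks := by
      rw [IntermediateField.adjoin.finrank hi'.tower_top, minpoly_map_of_closed hK.2 hi',
        Polynomial.natDegree_map, hmin, hmg]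
    have hgi : IsIntegral k g := by
      by_contra hn
      have := minpoly.eq_zero hn
      rw [hmg] at this
      exact minpoly.ne_zero hi this
    obtain ⟨R, hR⟩ := hFs.exists_isOver Q
    obtain ⟨R', hR'⟩ := hFs.exists_isOver Q'
    have hover : ∀ (S : Place k Ks) (T : Place k K'), IsOver T S → IsOver T P → IsOver S P := by
      intro S T hTS hTP
      obtain ⟨P', hP'⟩ := hF.exists_isOver S
      refine isOver_of_le_one hP' fun x hx => (over_le_one_iff hTS _).mp ?_
      rw [← IsScalarTower.algebraMap_apply K Ks K']
      exact (over_le_one_iff hTP x).mpr hx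
    have hRR : R = R' := over_unique_of_residue hF hgi
      (hmg ▸ Algebra.IsSeparable.isSeparable k θ) hdeg (hover R Q hR hQ) (hover R' Q' hR' hQ')
    exact over_unique_of_isPurelyInseparable hR' (hRR ▸ hR)

end Groth.FunFld1
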