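import Groth.Agent.FunFld1.Degree

/-!
Divisors of functions and `L(D)` with algebraically closed constants.
-/

set_option linter.style.haveILetI false

namespace Groth.FunFld1

open WithZero FunFld

variable {k K : Type*} [Field k] [Field K] [Algebra k K]

namespace IsFF

theorem mem_L_iff (hF : IsFF k K) {D : Divisor k K} {x : K} (hx : x ≠ 0) :
    x ∈ L D ↔ 0 ≤ D + div k x := by
  refine forall_congr' fun P => ?_
  rw [val_le_exp_iff P hx, Finsupp.add_apply, hF.div_apply, Finsupp.coe_zero, Pi.zero_apply]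
  omega

theorem div_mul (hF : IsFF k K) {x y : K} (hx : x ≠ 0) (hy : y ≠ 0) :
    div k (x * y) = div k x + div k y := by
  ext P
  simp [hF.div_apply, ord_mul P hx hy]

theorem div_inv (hF : IsFF k K) (x : K) : div k x⁻¹ = -div k x := by
  ext P
  simp [hF.div_apply, ord_inv]

theorem mul_mem_L_iff (hF : IsFF k K) {D : Divisor k K} {x : K} (hx : x ≠ 0) (y : K) :
    x * y ∈ L D ↔ y ∈ L (D + div k x) := by
  by_cases hy : y = 0
  · simp [hy]
  · rw [hF.mem_L_iff (mul_ne_zero hx hy), hF.mem_L_iff hy, hF.div_mul hx hy, add_assoc]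

/-- Linearly equivalent divisors have isomorphic Riemann-Roch spaces. -/
theorem ell_add_div (hF : IsFF k K) (D : Divisor k K) {x : K} (hx : x ≠ 0) :
    ell (D + div k x) = ell D := by
  have hmap : (L (D + div k x)).map (LinearMap.mulLeft k x) = L D := by
    ext z
    rw [Submodule.mem_map]
    constructor
    · rintro ⟨y, hy, rfl⟩
      exact (hF.mul_mem_L_iff hx y).mpr hy
    · intro hz
      refine ⟨x⁻¹ * z, (hF.mul_mem_L_iff hx _).mp ?_, ?_⟩
      · rwa [mul_inv_cancel_left₀ hx]
      · simp [mul_inv_cancel_left₀ hx]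
  unfold ell
  rw [← hmap]
  exact (Submodule.equivMapOfInjective _ (mul_right_injective₀ hx) _).finrank_eq

theorem L_eq_bot_of_deg_neg (hF : IsFF k K) {D : Divisor k K} (h : D.deg < 0) : L D = ⊥ := by
  rw [Submodule.eq_bot_iff]
  intro x hx
  by_contra h0
  have := deg_nonneg ((hF.mem_L_iff h0).mp hx)
  rw [deg_add, hF.deg_div] at this
  omega

theorem ell_eq_zero_of_deg_neg (hF : IsFF k K) {D : Divisor k K} (h : D.deg < 0) : ell D = 0 := by
  unfold ell
  rw [hF.L_eq_bot_of_deg_neg h]
  exact finrank_bot k K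

theorem exists_effective_of_ne_bot (hF : IsFF k K) {D : Divisor k K} (h : L D ≠ ⊥) :
    ∃ x : K, x ≠ 0 ∧ 0 ≤ D + div k x := by
  obtain ⟨x, hx, h0⟩ := Submodule.exists_mem_ne_zero_of_ne_bot h
  exact ⟨x, h0, (hF.mem_L_iff h0).mp hx⟩

theorem isAlgebraic_of_mem_L0 (hF : IsFF k K) {x : K} (hx : x ∈ L (0 : Divisor k K)) :
    IsAlgebraic k x := by
  by_contra h
  obtain ⟨P, hP⟩ := hF.exists_zero_place (transcendental_inv h)
  rw [map_inv₀, inv_lt_one_iff₀] at hP
  rcases hP with hP | hP
  · exact h ((show x = 0 by simpa using le_zero_iff.mp hP) ▸ isAlgebraic_zero)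
  · exact absurd ((hx P).trans_eq exp_zero) (not_le.mpr hP)

end IsFF

section FunctionField

variable (hK : IsFunctionField k K)
include hK

theorem L_zero_eq : L (0 : Divisor k K) = 1 := by
  apply le_antisymm
  · intro x hx
    rw [Submodule.mem_one]
    exact hK.2 x ((IsFF.of_isFunctionField hK).isAlgebraic_of_mem_L0 hx)
  · intro x hx P
    obtain ⟨c, rfl⟩ := Submodule.mem_one.mp hx
    exact (P.2.1 c).trans_eq exp_zero.symm

theorem ell_zero_eq : ell (0 : Divisor k K) = 1 := by
  unfold ell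
  rw [L_zero_eq hK, Submodule.one_eq_span]
  exact finrank_span_singleton one_ne_zero

theorem ell_le_deg_add_one {D : Divisor k K} (h : 0 ≤ D) : (ell D : ℤ) ≤ D.deg + 1 := by
  have := (IsFF.of_isFunctionField hK).ell_le_of_nonneg h
  rw [ell_zero_eq hK] at this
  exact this

theorem exists_pole_of_notMem {x : K} (hx : x ∉ Set.range (algebraMap k K)) :
    ∃ P : Place k K, P.ord x < 0 := by
  by_contra! h
  refine hx (hK.2 x ((IsFF.of_isFunctionField hK).isAlgebraic_of_mem_L0 fun P => ?_))
  exact ((val_le_one_iff P x).mpr (h P)).trans_eq exp_zero.symm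

theorem transcendental_of_notMem {x : K} (hx : x ∉ Set.range (algebraMap k K)) :
    Transcendental k x :=
  fun h => hx (hK.2 x h)

theorem exists_zero_of_notMem {x : K} (hx : x ∉ Set.range (algebraMap k K)) :
    ∃ P : Place k K, 0 < P.ord x := by
  obtain ⟨P, hP⟩ := (IsFF.of_isFunctionField hK).exists_zero_place (transcendental_of_notMem hK hx)
  exact ⟨P, (ord_pos_iff P x).mpr ⟨fun h => hx ⟨0, by simp [h]⟩, hP⟩⟩

theorem exists_eq_smul_of_div_eq {x y : K} (hx : x ≠ 0) (hy : y ≠ 0)
    (h : ∀ P : Place k K, P.ord x = P.ord y) : ∃ c : k, x = c • y := by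
  by_contra hne
  push Not at hne
  obtain ⟨P, hP⟩ := exists_pole_of_notMem hK (x := x / y) fun ⟨c, hc⟩ =>
    hne c (by rw [Algebra.smul_def, hc, div_mul_cancel₀ _ hy])
  rw [div_eq_mul_inv, ord_mul P hx (inv_ne_zero hy), ord_inv, h P] at hP
  omega

end FunctionField

/-- `A(D₁ ⊔ D₂) = A(D₁) + A(D₂)`. -/
theorem AD_sup_eq (D E : Divisor k K) : AD (D ⊔ E) = AD D ⊔ AD E := by
  refine le_antisymm (fun a ha => ?_) (sup_le (AD_mono le_sup_left) (AD_mono le_sup_right))
  classical
  refine Submodule.mem_sup.mpr ⟨fun P => if E P ≤ D P then a P else 0, fun P => ?_,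
    fun P => if E P ≤ D P then 0 else a P, fun P => ?_, ?_⟩
  · beta_reduce
    split_ifs with h
    · exact (ha P).trans_eq (congrArg exp (by simp [h]))
    · simp
  · beta_reduce
    split_ifs with h
    · simp
    · exact (ha P).trans_eq (congrArg exp (by simp [le_of_not_ge h]))
  · funext P
    simp only [Pi.add_apply]
    split_ifs <;> simp

end Groth.FunFld1
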