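import Groth.Agent.FunFld1.Rational
import Mathlib.FieldTheory.Finite.Basic

/-!
Finite constant fields: powers by the cardinality, constants fixed by Frobenius.
-/

set_option linter.unusedSectionVars false

open FunFld WithZero

namespace Groth.FunFld1

section

variable {k L : Type*} [Field k] [Finite k] [Field L]

theorem sub_pow_card (i : k →+* L) (a b : L) : (a - b) ^ Nat.card k = a ^ Nat.card k - b ^ Nat.card k := by
  haveI := Fintype.ofFinite k
  obtain ⟨n, hp, hn⟩ := FiniteField.card k (ringChar k)
  haveI : Fact (ringChar k).Prime := ⟨hp⟩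
  haveI : CharP L (ringChar k) := (RingHom.charP_iff i i.injective _).mp inferInstance
  rw [Nat.card_eq_fintype_card, hn, sub_pow_char_pow]

theorem pow_card_injective (i : k →+* L) : Function.Injective fun a : L => a ^ Nat.card k := by
  intro a b h
  have : (a - b) ^ Nat.card k = 0 := by rw [sub_pow_card i]; exact sub_eq_zero.mpr h
  exact sub_eq_zero.mp (eq_zero_of_pow_eq_zero this)

theorem mem_range_of_pow_card (i : k →+* L) {e : L} (h : e ^ Nat.card k = e) : e ∈ Set.range i := by
  classical
  haveI := Fintype.ofFinite k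
  rw [Nat.card_eq_fintype_card] at h
  have h1 : 1 < Fintype.card k := Fintype.one_lt_card
  set f : Polynomial L := Polynomial.X ^ Fintype.card k - Polynomial.X
  have hf0 : f ≠ 0 := FiniteField.X_pow_card_sub_X_ne_zero L h1
  have hsub : Finset.univ.image i ⊆ f.roots.toFinset := by
    intro v hv
    obtain ⟨c, -, rfl⟩ := Finset.mem_image.mp hv
    rw [Multiset.mem_toFinset, Polynomial.mem_roots hf0, Polynomial.IsRoot]
    simp [f, ← map_pow, FiniteField.pow_card]
  have hcard : f.roots.toFinset.card ≤ Fintype.card k :=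
    (Multiset.toFinset_card_le _).trans
      ((Polynomial.card_roots' f).trans (FiniteField.X_pow_card_sub_X_natDegree_eq L h1).le)
  have heq := Finset.eq_of_subset_of_card_le hsub (by
    rw [Finset.card_image_of_injective _ i.injective, Finset.card_univ]; exact hcard)
  have hmem : e ∈ f.roots.toFinset := by
    rw [Multiset.mem_toFinset, Polynomial.mem_roots hf0, Polynomial.IsRoot]
    simp [f, h]
  rw [← heq] at hmem
  obtain ⟨c, -, hc⟩ := Finset.mem_image.mp hmem
  exact ⟨c, hc⟩

end

variable {k K : Type*} [Field k] [Field K] [Algebra k K]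

theorem deg_eq_one_of_forall_exists_const {P : Place k K}
    (h : ∀ x : K, P.1 x ≤ 1 → ∃ c : k, P.1 (x - algebraMap k K c) < 1) : P.deg = 1 := by
  refine finrank_eq_one (1 : IsLocalRing.ResidueField P.O) one_ne_zero fun r => ?_
  obtain ⟨x, rfl⟩ := IsLocalRing.residue_surjective r
  obtain ⟨c, hc⟩ := h x.1 x.2
  refine ⟨c, ?_⟩
  have h0 := (residue_eq_zero_iff P (x - algebraMap k P.O c)).mpr hc
  rw [map_sub, sub_eq_zero] at h0
  rw [h0]
  exact (Algebra.algebraMap_eq_smul_one c).symm

theorem exists_monic_aeval_lt_one {P : Place k K}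
    [hfin : FiniteDimensional k (IsLocalRing.ResidueField P.O)] {x : K} (hx : P.1 x ≤ 1) :
    ∃ p : Polynomial k, p.Monic ∧ P.1 (Polynomial.aeval x p) < 1 := by
  set r := IsLocalRing.residue P.O ⟨x, hx⟩
  obtain ⟨p, hp, hpr⟩ := @IsIntegral.of_finite k _ _ _ _ hfin r
  refine ⟨p, hp, ?_⟩
  have h1 : IsLocalRing.residue P.O (Polynomial.aeval (⟨x, hx⟩ : P.O) p) = 0 := by
    rw [Polynomial.aeval_def, Polynomial.hom_eval₂]
    exact hpr
  have h2 := (residue_eq_zero_iff P _).mp h1
  rw [Polynomial.aeval_def]
  rw [Polynomial.aeval_def] at h2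
  convert h2 using 2
  exact (Polynomial.hom_eval₂ p (algebraMap k P.O) P.O.subtype ⟨x, hx⟩).symm

theorem one_le_prod_of_forall {Γ : Type*} [CommMonoidWithZero Γ] [LinearOrder Γ] [PosMulMono Γ] [ZeroLEOneClass Γ]
    {α : Type*} (s : Multiset α) (g : α → Γ) (h : ∀ a ∈ s, 1 ≤ g a) : 1 ≤ (s.map g).prod := by
  induction s using Multiset.induction_on with
  | empty => simp
  | cons a s ih =>
    rw [Multiset.map_cons, Multiset.prod_cons]
    exact one_le_mul_of_one_le_of_one_le (h a (Multiset.mem_cons_self a s))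
      (ih fun b hb => h b (Multiset.mem_cons_of_mem hb))

end Groth.FunFld1
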