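import Groth.Agent.FunFld1.Gaps

/-!
An automorphism with more than `2g + 2` fixed places is trivial; pulled back places.
-/

set_option linter.style.haveILetI false

namespace Groth.FunFld1

open WithZero FunFld

variable {k K : Type*} [Field k] [Field K] [Algebra k K]

theorem eq_id_of_fixed [IsAlgClosed k] (hK : IsFunctionField k K) (σ : K ≃ₐ[k] K)
    (h : ((2 * genus k K + 2 : ℕ) : ℕ∞) <
      Set.encard {P : Place k K | ∀ x : K, P.1 x < 1 → P.1 (σ x) < 1}) : σ = 1 := by
  classical
  have hF := IsFF.of_isFunctionField hK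
  set g := genus k K with hg
  set F := {P : Place k K | ∀ x : K, P.1 x < 1 → P.1 (σ x) < 1} with hFdef
  obtain ⟨T, hT, hTc⟩ : ∃ T : Finset (Place k K), ↑T ⊆ F ∧ 2 * g + 3 ≤ T.card := by
    by_cases hfin : F.Finite
    · refine ⟨hfin.toFinset, by simp, ?_⟩
      rw [hfin.encard_eq_coe_toFinset_card] at h
      have := ENat.natCast_lt_natCast.mp h
      omega
    · obtain ⟨T, hT, hTc⟩ := (Set.not_finite.mp hfin).exists_subset_card_eq (2 * g + 3)
      exact ⟨T, hT, hTc.ge⟩
  obtain ⟨P₀, hP₀⟩ : T.Nonempty := Finset.card_pos.mp (by omega)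
  have hd : ∀ P : Place k K, P.deg = 1 := deg_eq_one_of_isAlgClosed hF
  -- the pullback of `P₀` is `P₀`
  let P₀' : Place k K := ⟨P₀.1.comap (σ : K →+* K), fun c => by
    show P₀.1 (σ (algebraMap k K c)) ≤ 1
    rw [AlgEquiv.commutes]; exact P₀.2.1 c, P₀.2.2.comp σ.surjective⟩
  have hfix : P₀' = P₀ := by
    refine (Place.eq_of_forall_le_one P₀ P₀' fun x hx => ?_).symm
    obtain ⟨c, hc⟩ := exists_const_sub_lt_one (hd P₀) hx
    have h2 := hT hP₀ _ hc
    rw [map_sub, AlgEquiv.commutes] at h2
    show P₀.1 (σ x) ≤ 1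
    have e : σ x = (σ x - algebraMap k K c) + algebraMap k K c := by ring
    rw [e]
    exact Valuation.map_add_le _ h2.le (P₀.2.1 c)
  have hval : ∀ x, P₀.1 (σ x) = P₀.1 x := fun x => by
    conv_rhs => rw [← hfix]
    rfl
  have key : ∀ (m : ℕ), m ≤ 2 * g + 1 → ∀ x ∈ L (Finsupp.single P₀ (m : ℤ)), σ x = x := by
    intro m hm x hx
    by_contra hne
    set z := σ x - x with hz
    have hz0 : z ≠ 0 := sub_ne_zero.mpr hne
    have hzP : P₀.1 z ≤ exp (m : ℤ) := by
      have h1 : P₀.1 x ≤ exp (m : ℤ) := by simpa using hx P₀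
      exact Valuation.map_sub_le _ (by rw [hval]; exact h1) h1
    have hzeros : ∀ P ∈ T.erase P₀, P.1 z < 1 := fun P hP => by
      have h1 : P.1 x ≤ 1 := by
        simpa [Finsupp.single_eq_of_ne (Finset.ne_of_mem_erase hP)] using hx P
      obtain ⟨c, hc⟩ := exists_const_sub_lt_one (hd P) h1
      have h2 := hT (Finset.mem_of_mem_erase hP) _ hc
      rw [map_sub, AlgEquiv.commutes] at h2
      have e : z = (σ x - algebraMap k K c) - (x - algebraMap k K c) := by rw [hz]; ring
      rw [e]
      exact (P.1.map_sub _ _).trans_lt (max_lt h2 hc)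
    have hpos := (hF.mem_L_iff hz0).mp (show z ∈ L (Finsupp.single P₀ (m : ℤ) -
        ∑ P ∈ T.erase P₀, Finsupp.single P 1) from fun Q => by
      rw [Finsupp.sub_apply, Finsupp.coe_finsetSum, Finset.sum_apply]
      simp only [Finsupp.single_apply]
      rw [Finset.sum_ite_eq' (T.erase P₀) Q (fun _ => (1 : ℤ))]
      rcases eq_or_ne P₀ Q with rfl | hne'
      · simpa using hzP
      · rw [if_neg hne']
        split_ifs with hmem
        · exact lt_one_iff_le_exp_neg_one.mp (hzeros Q hmem) |>.trans_eq (by norm_num)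
        · -- elsewhere `x` and `σ x` are integral
          rw [sub_zero, exp_zero]
          have h1 : Q.1 x ≤ 1 := by simpa [Finsupp.single_eq_of_ne hne'.symm] using hx Q
          refine Valuation.map_sub_le _ ?_ h1
          let Q' : Place k K := ⟨Q.1.comap (σ : K →+* K), fun c => by
            show Q.1 (σ (algebraMap k K c)) ≤ 1
            rw [AlgEquiv.commutes]; exact Q.2.1 c, Q.2.2.comp σ.surjective⟩
          show Q'.1 x ≤ 1
          have hQ' : Q' ≠ P₀ := fun e => by
            apply hne'
            refine Place.eq_of_forall_le_one P₀ Q fun y hy => ?_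
            have hy' : P₀.1 (σ.symm y) ≤ 1 := by
              rw [← hval, AlgEquiv.apply_symm_apply]; exact hy
            rw [← e] at hy'
            have : Q.1 (σ (σ.symm y)) ≤ 1 := hy'
            rwa [AlgEquiv.apply_symm_apply] at this
          simpa [Finsupp.single_eq_of_ne hQ'] using hx Q')
    have h3 := deg_nonneg hpos
    rw [deg_add, hF.deg_div, deg_sub, deg_single, hd P₀] at h3
    have hs : ∀ s : Finset (Place k K),
        (∑ P ∈ s, Finsupp.single P (1 : ℤ) : Divisor k K).deg = s.card := by
      intro s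
      induction s using Finset.induction with
      | empty => simp [deg_zero]
      | insert Q s hQ ih =>
        rw [Finset.sum_insert hQ, deg_add, ih, deg_single, hd Q, Finset.card_insert_of_notMem hQ]
        push_cast; ring
    rw [hs, Finset.card_erase_of_mem hP₀] at h3
    omega
  -- generators
  have hng : ∀ m : ℕ, 2 * g ≤ m →
      L (Finsupp.single P₀ (m : ℤ)) ≠ L (Finsupp.single P₀ ((m : ℤ) - 1)) := by
    intro m hm h
    rcases Nat.eq_zero_or_pos m with rfl | hpos
    · have h1 : ell (Finsupp.single P₀ ((0 : ℕ) : ℤ)) = 1 := by simp [ell_zero_eq hK]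
      have h2 : ell (Finsupp.single P₀ (((0 : ℕ) : ℤ) - 1)) = 0 :=
        hF.ell_eq_zero_of_deg_neg (by rw [deg_single, hd]; norm_num)
      unfold ell at h1 h2
      rw [h, h2] at h1
      omega
    · have h1 := ell_eq_of_deg_ge hK (D := Finsupp.single P₀ (m : ℤ)) (by rw [deg_single, hd]; omega)
      have h2 := ell_eq_of_deg_ge hK (D := Finsupp.single P₀ ((m : ℤ) - 1))
        (by rw [deg_single, hd]; omega)
      rw [deg_single, hd] at h1 h2
      unfold ell at h1 h2
      rw [h] at h1
      omega
  obtain ⟨y, hy, hyP⟩ := exists_of_not_gap (hng (2 * g + 1) (by omega))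
  obtain ⟨x, hx, hxP⟩ := exists_of_not_gap (hng (2 * g) le_rfl)
  have hσy := key _ le_rfl y hy
  have hσx := key _ (by omega) x hx
  let E : IntermediateField k K :=
    { carrier := {z | σ z = z}
      add_mem' := fun {a b} ha hb => by simp only [Set.mem_ofPred_eq] at *; rw [map_add, ha, hb]
      mul_mem' := fun {a b} ha hb => by simp only [Set.mem_ofPred_eq] at *; rw [map_mul, ha, hb]
      zero_mem' := map_zero σ
      one_mem' := map_one σ
      algebraMap_mem' := σ.commutes
      inv_mem' := fun a ha => by simp only [Set.mem_ofPred_eq] at *; rw [map_inv₀, ha] }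
  have hpole : ∀ {n : ℕ} {z : K}, 0 < n → z ∈ L (Finsupp.single P₀ (n : ℤ)) → P₀.1 z = exp (n : ℤ) →
      FiniteDimensional (IntermediateField.adjoin k ({z} : Set K)) K ∧
      Module.finrank (IntermediateField.adjoin k ({z} : Set K)) K = n := by
    intro n z hn hz hzP
    have hzt : Transcendental k z := transcendental_of_one_lt_val P₀ (by rw [hzP, one_lt_exp]; omega)
    have heq : zeroDiv k z⁻¹ = Finsupp.single P₀ (n : ℤ) := by
      refine le_antisymm (hF.deg_poleDiv_le_of_mem_L (Finsupp.single_nonneg.mpr (by omega)) hz) ?_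
      intro Q
      rw [hF.zeroDiv_apply, ord_inv]
      rcases eq_or_ne Q P₀ with rfl | hne
      · rw [Finsupp.single_eq_same, ord_eq_of_val_eq Q hzP]; omega
      · rw [Finsupp.single_eq_of_ne hne]; omega
    have h0 := hF.deg_poleDiv_eq hzt
    rw [heq, deg_single, hd] at h0
    exact ⟨hF.finiteDimensional hzt, by omega⟩
  have hdvd : ∀ z : K, σ z = z → Module.finrank E K ∣
      Module.finrank (IntermediateField.adjoin k ({z} : Set K)) K := by
    intro z hz
    have hle : IntermediateField.adjoin k ({z} : Set K) ≤ E :=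
      IntermediateField.adjoin_simple_le_iff.mpr hz
    letI := (IntermediateField.inclusion hle).toRingHom.toAlgebra
    haveI : IsScalarTower (IntermediateField.adjoin k ({z} : Set K)) E K :=
      IsScalarTower.of_algebraMap_eq fun _ => rfl
    exact ⟨_, ((mul_comm _ _).trans (Module.finrank_mul_finrank _ E K)).symm⟩
  have h1 : Module.finrank E K = 1 := by
    refine Nat.dvd_one.mp ?_
    have d1 := hdvd y hσy
    rw [(hpole (by omega) hy hyP).2] at d1
    rcases Nat.eq_zero_or_pos g with h0 | hpos
    · simpa [h0] using d1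
    · have d0 := hdvd x hσx
      rw [(hpole (by omega) hx hxP).2] at d0
      have := Nat.dvd_sub d1 d0
      simpa using this
  have htop := IntermediateField.finrank_eq_one_iff_eq_top.mp h1
  refine AlgEquiv.ext fun z => ?_
  have : z ∈ E := htop ▸ IntermediateField.mem_top
  exact this

end Groth.FunFld1
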