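import Groth.Agent.FunFld1.Rational
import Mathlib.Data.Set.Card

/-!
Gap numbers at a place of degree one.
-/

set_option linter.style.haveILetI false

namespace Groth.FunFld1

open WithZero FunFld

variable {k K : Type*} [Field k] [Field K] [Algebra k K]

/-- The gap numbers `≤ n` at `P`. -/
def gapSet (P : Place k K) (n : ℕ) : Set ℕ :=
  {m : ℕ | 1 ≤ m ∧ m ≤ n ∧ L (Finsupp.single P (m : ℤ)) = L (Finsupp.single P ((m : ℤ) - 1))}

theorem finite_gapSet (P : Place k K) (n : ℕ) : (gapSet P n).Finite :=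
  (Set.finite_le_nat n).subset fun _ h => h.2.1

theorem gapSet_succ_of_gap {P : Place k K} {n : ℕ}
    (h : L (Finsupp.single P ((n + 1 : ℕ) : ℤ)) = L (Finsupp.single P (n : ℤ))) :
    gapSet P (n + 1) = insert (n + 1) (gapSet P n) := by
  ext m
  simp only [gapSet, Set.mem_ofPred_eq, Set.mem_insert_iff]
  constructor
  · rintro ⟨h1, h2, h3⟩
    rcases eq_or_lt_of_le h2 with h4 | h4
    · exact Or.inl h4
    · exact Or.inr ⟨h1, by omega, h3⟩
  · rintro (rfl | ⟨h1, h2, h3⟩)
    · refine ⟨by omega, le_rfl, ?_⟩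
      rwa [show (((n + 1 : ℕ) : ℤ) - 1) = (n : ℤ) by omega]
    · exact ⟨h1, by omega, h3⟩

theorem gapSet_succ_of_not_gap {P : Place k K} {n : ℕ}
    (h : L (Finsupp.single P ((n + 1 : ℕ) : ℤ)) ≠ L (Finsupp.single P (n : ℤ))) :
    gapSet P (n + 1) = gapSet P n := by
  ext m
  simp only [gapSet, Set.mem_ofPred_eq]
  refine ⟨fun ⟨h1, h2, h3⟩ => ⟨h1, ?_, h3⟩, fun ⟨h1, h2, h3⟩ => ⟨h1, by omega, h3⟩⟩
  by_contra hlt
  obtain rfl : m = n + 1 := by omega
  exact h (by rwa [show (((n + 1 : ℕ) : ℤ) - 1) = (n : ℤ) by omega] at h3)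

section FunctionField

variable (hK : IsFunctionField k K)
include hK

local notation "hF" => IsFF.of_isFunctionField hK

theorem ell_single_add_ncard_gapSet {P : Place k K} (hP : P.deg = 1) (n : ℕ) :
    ell (Finsupp.single P (n : ℤ)) + (gapSet P n).ncard = n + 1 := by
  induction n with
  | zero =>
    have : gapSet P 0 = ∅ := Set.eq_empty_of_forall_notMem fun m hm => by
      have := hm.1; have := hm.2.1; omega
    rw [this]
    simp [ell_zero_eq hK]
  | succ n ih =>
    have hle : Finsupp.single P (n : ℤ) ≤ Finsupp.single P ((n + 1 : ℕ) : ℤ) :=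
      Finsupp.single_le_single.mpr (by omega)
    haveI := (hF).finiteDimensional_L (Finsupp.single P ((n + 1 : ℕ) : ℤ))
    have h1 := (hF).ell_sub_le hle
    rw [deg_single, deg_single, hP] at h1
    by_cases h : L (Finsupp.single P ((n + 1 : ℕ) : ℤ)) = L (Finsupp.single P (n : ℤ))
    · rw [gapSet_succ_of_gap h, Set.ncard_insert_of_notMem (fun hm => by have := hm.2.1; omega)
        (finite_gapSet P n)]
      have : ell (Finsupp.single P ((n + 1 : ℕ) : ℤ)) = ell (Finsupp.single P (n : ℤ)) := by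
        unfold ell; rw [h]
      omega
    · rw [gapSet_succ_of_not_gap h]
      have hlt : ell (Finsupp.single P (n : ℤ)) < ell (Finsupp.single P ((n + 1 : ℕ) : ℤ)) :=
        Submodule.finrank_lt_finrank_of_lt (lt_of_le_of_ne (L_mono hle) (Ne.symm h))
      omega

omit hK in
/-- A non-gap is the exact pole order of some function with no other pole. -/
theorem exists_of_not_gap {P : Place k K} {m : ℕ}
    (h : L (Finsupp.single P (m : ℤ)) ≠ L (Finsupp.single P ((m : ℤ) - 1))) :
    ∃ x ∈ L (Finsupp.single P (m : ℤ)), P.1 x = exp (m : ℤ) := by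
  classical
  have hle : L (Finsupp.single P ((m : ℤ) - 1)) ≤ L (Finsupp.single P (m : ℤ)) :=
    L_mono (Finsupp.single_le_single.mpr (by omega))
  obtain ⟨x, hx, hx'⟩ := SetLike.exists_of_lt (lt_of_le_of_ne hle (Ne.symm h))
  refine ⟨x, hx, le_antisymm (by simpa using hx P) (not_lt.mp fun hlt => hx' fun Q => ?_)⟩
  rcases eq_or_ne Q P with rfl | hne
  · rw [Finsupp.single_eq_same]
    have hx0 : x ≠ 0 := fun h0 => hx' (h0 ▸ zero_mem _)
    rw [val_eq_exp_neg_ord Q hx0, exp_lt_exp] at hlt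
    rw [val_eq_exp_neg_ord Q hx0, exp_le_exp]
    omega
  · simpa [Finsupp.single_eq_of_ne hne] using hx Q

omit hK in
theorem not_gap_add {P : Place k K} {a b : ℕ}
    (ha : L (Finsupp.single P (a : ℤ)) ≠ L (Finsupp.single P ((a : ℤ) - 1)))
    (hb : L (Finsupp.single P (b : ℤ)) ≠ L (Finsupp.single P ((b : ℤ) - 1))) :
    L (Finsupp.single P ((a + b : ℕ) : ℤ)) ≠ L (Finsupp.single P (((a + b : ℕ) : ℤ) - 1)) := by
  obtain ⟨x, hx, hxP⟩ := exists_of_not_gap ha
  obtain ⟨y, hy, hyP⟩ := exists_of_not_gap hb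
  intro h
  have hxy : x * y ∈ L (Finsupp.single P ((a + b : ℕ) : ℤ)) := fun Q => by
    rw [map_mul, Nat.cast_add, Finsupp.single_add, Finsupp.add_apply, exp_add]
    exact mul_le_mul' (hx Q) (hy Q)
  rw [h] at hxy
  have := hxy P
  rw [map_mul, hxP, hyP, ← exp_add, exp_le_exp, Finsupp.single_eq_same] at this
  omega

omit hK in
/-- If `n` is a gap then at least half of the integers below it are gaps. -/
theorem sub_one_le_two_mul_gaps {P : Place k K} {n : ℕ} (hn : 1 ≤ n)
    (hgap : L (Finsupp.single P (n : ℤ)) = L (Finsupp.single P ((n : ℤ) - 1))) :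
    n - 1 ≤ 2 * (gapSet P (n - 1)).ncard := by
  classical
  let N : Set ℕ := Set.Icc 1 (n - 1) \ gapSet P (n - 1)
  have hN : ∀ m ∈ N, n - m ∈ gapSet P (n - 1) := by
    rintro m ⟨⟨h1, h2⟩, hm⟩
    refine ⟨by omega, by omega, ?_⟩
    by_contra hc
    refine not_gap_add (fun h => hm ⟨h1, h2, h⟩) hc ?_
    rw [show m + (n - m) = n by omega]
    exact hgap
  have hle : N.ncard ≤ (gapSet P (n - 1)).ncard :=
    Set.ncard_le_ncard_of_injOn (fun m => n - m) hN (fun a ha b hb h => by
      have := ha.1.2; have := hb.1.2; simp only at h; omega) (finite_gapSet P _)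
  have htot : (Set.Icc 1 (n - 1)).ncard ≤ N.ncard + (gapSet P (n - 1)).ncard := by
    refine le_trans (Set.ncard_le_ncard (fun m hm => ?_)
      (((Set.finite_Icc _ _).sdiff).union (finite_gapSet P _))) (Set.ncard_union_le _ _)
    by_cases h : m ∈ gapSet P (n - 1)
    · exact Or.inr h
    · exact Or.inl ⟨hm, h⟩
  rw [← Finset.coe_Icc, Set.ncard_coe_finset, Nat.card_Icc] at htot
  omega

theorem ncard_gapSet_eq_genus {P : Place k K} (hP : P.deg = 1) {n : ℕ}
    (hn : 2 * (genus k K : ℤ) - 1 ≤ n) : (gapSet P n).ncard = genus k K := by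
  have h1 := ell_single_add_ncard_gapSet hK hP n
  have h2 := ell_eq_of_deg_ge hK (D := Finsupp.single P (n : ℤ))
    (by rw [deg_single, hP]; simpa using hn)
  rw [deg_single, hP] at h2
  omega

/-- Clifford's bound for multiples of a place. -/
theorem le_two_mul_ncard_gapSet {P : Place k K} (hP : P.deg = 1) {n : ℕ}
    (hn : n ≤ 2 * genus k K) : n ≤ 2 * (gapSet P n).ncard := by
  classical
  by_cases hex : ∃ N, n < N ∧ L (Finsupp.single P (N : ℤ)) = L (Finsupp.single P ((N : ℤ) - 1))
  · set N := Nat.find hex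
    obtain ⟨hN1, hN2⟩ := Nat.find_spec hex
    have h1 := sub_one_le_two_mul_gaps (P := P) (n := N) (by omega) hN2
    have hsub : gapSet P (N - 1) ⊆ gapSet P n := fun m ⟨a, b, c⟩ => ⟨a, by
      by_contra hlt
      exact Nat.find_min hex (m := m) (by omega) ⟨by omega, c⟩, c⟩
    have := Set.ncard_le_ncard hsub (finite_gapSet P n)
    omega
  · push Not at hex
    set M := max n (2 * genus k K)
    have hsub : gapSet P M ⊆ gapSet P n := fun m ⟨a, b, c⟩ => ⟨a, by
      by_contra hlt
      exact hex m (by omega) c, c⟩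
    have h1 := Set.ncard_le_ncard hsub (finite_gapSet P n)
    rw [ncard_gapSet_eq_genus hK hP (by omega)] at h1
    omega

end FunctionField

end Groth.FunFld1
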