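import Groth.Agent.FunFld1.Extension
import Mathlib.LinearAlgebra.FreeModule.Norm
import Mathlib.RingTheory.Valuation.LocalSubring
import Mathlib.RingTheory.Norm.Basic

/-!
The integral closure of `O_P` in a finite extension is the semi-local ring of the places above `P`;
it is free of rank `[K' : K]`.
-/

set_option linter.style.haveILetI false
set_option linter.unusedSectionVars false

namespace Groth.FunFld1

open WithZero FunFld

variable {k K K' : Type*} [Field k] [Field K] [Field K'] [Algebra k K] [Algebra K K'] [Algebra k K']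
  [IsScalarTower k K K'] [FiniteDimensional K K']

theorem algebraMap_O_apply {P : Place k K} [Algebra P.O K'] [IsScalarTower P.O K K'] (a : P.O) :
    algebraMap P.O K' a = algebraMap K K' (a : K) := IsScalarTower.algebraMap_apply P.O K K' a

instance instDVR (P : Place k K) : IsDiscreteValuationRing P.O := by
  haveI : P.1.IsNontrivial := ⟨⟨(exists_uniformizer P).choose, by
    obtain ⟨h0, h⟩ := (exists_uniformizer P).choose_spec
    exact ⟨(Valuation.ne_zero_iff _).mpr h0, by rw [h, ne_eq, exp_eq_one]; omega⟩⟩⟩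
  exact inferInstanceAs (IsDiscreteValuationRing P.1.valuationSubring)

namespace IsFF

/-- Elements integral at all places above `P`. -/
noncomputable def semi (hF : IsFF k K) (P : Place k K) : Submodule k K' :=
  SBall (hF.above P) 0

theorem mem_semi (hF : IsFF k K) {P : Place k K} {y : K'} :
    y ∈ hF.semi P ↔ ∀ Q : Place k K', IsOver Q P → Q.1 y ≤ 1 := by
  unfold semi
  rw [mem_SBall]
  exact forall_congr' fun Q => by simp [hF.mem_above]

theorem mem_integralClosure_iff (hF : IsFF k K) (P : Place k K) [Algebra P.O K']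
    [IsScalarTower P.O K K'] (y : K') :
    y ∈ integralClosure P.O K' ↔ ∀ Q : Place k K', IsOver Q P → Q.1 y ≤ 1 := by
  constructor
  · intro hy Q hQ
    letI : Algebra P.O Q.O := (((algebraMap K K').comp P.O.subtype).codRestrict Q.O.toSubring
      fun a => (over_le_one_iff hQ a.1).mpr a.2).toAlgebra
    haveI : IsScalarTower P.O Q.O K' :=
      IsScalarTower.of_algebraMap_eq fun a => algebraMap_O_apply a
    obtain ⟨a, ha⟩ := IsIntegrallyClosed.isIntegral_iff.mp (IsIntegral.tower_top (A := Q.O) hy)
    exact ha ▸ a.2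
  · intro h
    by_contra hy
    haveI : IsIntegrallyClosedIn (integralClosure P.O K').toSubring K' := by
      refine Subring.isIntegrallyClosedIn_iff.mpr fun {x} hx => ?_
      exact isIntegral_trans (A := integralClosure P.O K') x hx
    obtain ⟨V, hV, hyV⟩ :=
      Subring.exists_le_valuationSubring_of_isIntegrallyClosedIn (R := (integralClosure P.O K').toSubring) hy
    have hPV : ∀ x : K, P.1 x ≤ 1 → algebraMap K K' x ∈ V := fun x hx =>
      hV (show algebraMap K K' x ∈ integralClosure P.O K' from
        (algebraMap_O_apply (K' := K') (⟨x, hx⟩ : P.O)) ▸ Subalgebra.algebraMap_mem _ _)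
    obtain ⟨Q, hQ⟩ := (hF.ext (K' := K')).exists_place_O_eq V (fun c => by
      rw [IsScalarTower.algebraMap_apply k K K']
      exact hPV _ (P.2.1 c)) (fun htop => hyV (htop ▸ ValuationSubring.mem_top _))
    obtain ⟨P', hP'⟩ := hF.exists_isOver Q
    have hPP : IsOver Q P := isOver_of_le_one hP' fun x hx => by
      have := hPV x hx
      rw [← hQ] at this
      exact this
    exact hyV (hQ ▸ (h Q hPP : y ∈ Q.O))

theorem exists_integral_basis (hF : IsFF k K) (P : Place k K) :
    ∃ b : Module.Basis (Fin (Module.finrank K K')) K K',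
      ∀ y : K', y ∈ hF.semi P ↔ ∀ i, P.1 (b.repr y i) ≤ 1 := by
  classical
  set S : Finset (Place k K') := hF.above P with hS
  have hov : ∀ Q ∈ S, IsOverWith Q P (ramIdx Q P) := fun Q hQ =>
    isOverWith_ramIdx (hF.mem_above.mp hQ)
  let T : Submodule k K' := SBall S fun Q => (0 : ℤ) - (ramIdx Q P : ℤ)
  have hT : ∀ c : K, P.1 c < 1 → ∀ y ∈ (hF.semi P : Submodule k K'), c • y ∈ T := by
    intro c hc y hy
    rw [mem_SBall]
    intro Q hQ
    rw [Algebra.smul_def, map_mul, hov Q hQ c]
    refine (mul_le_of_le_one_right' (mem_semi hF |>.mp hy Q (hF.mem_above.mp hQ))).trans ?_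
    refine (pow_le_pow_left₀ zero_le (lt_one_iff_le_exp_neg_one.mp hc) _).trans_eq ?_
    rw [← exp_nsmul]; simp
  have hsemi_smul : ∀ c : K, P.1 c ≤ 1 → ∀ y ∈ (hF.semi P : Submodule k K'), c • y ∈ hF.semi P := by
    intro c hc y hy
    rw [mem_semi] at hy ⊢
    intro Q hQ
    rw [Algebra.smul_def, map_mul]
    exact mul_le_one' ((over_le_one_iff hQ c).mpr hc) (hy Q hQ)
  have hTsmul : ∀ c : K, P.1 c ≤ 1 → ∀ y ∈ T, c • y ∈ T := by
    intro c hc y hy
    rw [mem_SBall] at hy ⊢
    intro Q hQ
    rw [Algebra.smul_def, map_mul]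
    exact (mul_le_of_le_one_left' ((over_le_one_iff (hF.mem_above.mp hQ) c).mpr hc)).trans (hy Q hQ)
  let ModIndep : ∀ {m : ℕ}, (Fin m → K') → Prop := fun {m} u =>
    ∀ c : Fin m → K, (∀ j, P.1 (c j) ≤ 1) → ∑ j, c j • u j ∈ T → ∀ j, P.1 (c j) < 1
  have hindep : ∀ {m : ℕ} (u : Fin m → K'), (∀ j, u j ∈ hF.semi P) → ModIndep u →
      LinearIndependent K u := by
    intro m u _ hm
    rw [Fintype.linearIndependent_iff]
    intro g hg
    by_contra! hne
    obtain ⟨i, hi⟩ := hne
    obtain ⟨j, -, hj⟩ := Finset.univ.exists_max_image (fun l => P.1 (g l)) ⟨i, Finset.mem_univ i⟩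
    have hj0 : g j ≠ 0 := fun h0 => hi (by simpa [h0] using hj i (Finset.mem_univ i))
    have := hm (fun l => g l / g j) (fun l => by
      rw [map_div₀, div_le_one₀ (zero_lt_iff.mpr (by simpa using hj0))]
      exact hj l (Finset.mem_univ l)) (by
      simp_rw [div_eq_inv_mul, mul_smul, ← Finset.smul_sum, hg, smul_zero]
      exact zero_mem _) j
    simp [div_self hj0] at this
  obtain ⟨m, ⟨u, hu, hmu⟩, hmax⟩ : ∃ m, (∃ u : Fin m → K', (∀ j, u j ∈ hF.semi P) ∧ ModIndep u) ∧
      ¬ ∃ u : Fin (m + 1) → K', (∀ j, u j ∈ hF.semi P) ∧ ModIndep u := by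
    by_contra! hc
    have hall : ∀ m, ∃ u : Fin m → K', (∀ j, u j ∈ hF.semi P) ∧ ModIndep u := by
      intro m
      induction m with
      | zero => exact ⟨Fin.elim0, fun j => j.elim0, fun _ _ _ j => j.elim0⟩
      | succ m ih =>
        obtain ⟨u, hu⟩ := ih
        exact hc m ⟨u, hu⟩
    obtain ⟨u, hu, hmu⟩ := hall (Module.finrank K K' + 1)
    have := (hindep u hu hmu).fintype_card_le_finrank
    simp at this
  have hspan : ∀ y ∈ hF.semi P, ∃ c : Fin m → K, (∀ j, P.1 (c j) ≤ 1) ∧ y - ∑ j, c j • u j ∈ T := by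
    intro y hy
    have h := hmax
    push Not at h
    specialize h (Fin.snoc u y) (fun j => by
      induction j using Fin.lastCases <;> simp [hy, hu _])
    simp only [ModIndep] at h
    push Not at h
    obtain ⟨c, hc, hcT, j, hj⟩ := h
    have hlast : P.1 (c (Fin.last m)) = 1 := by
      refine le_antisymm (hc _) (not_lt.mp fun hlt => ?_)
      rw [Fin.sum_univ_castSucc] at hcT
      simp only [Fin.snoc_castSucc, Fin.snoc_last] at hcT
      have h2 := sub_mem hcT (hT _ hlt y hy)
      rw [add_sub_cancel_right] at h2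
      have h3 := hmu _ (fun j => hc j.castSucc) h2
      induction j using Fin.lastCases with
      | last => exact absurd hlt (not_lt.mpr hj)
      | cast i => exact absurd (h3 i) (not_lt.mpr hj)
    have hinv : P.1 (c (Fin.last m))⁻¹ ≤ 1 := by simp [hlast]
    have hne : c (Fin.last m) ≠ 0 := fun h0 => by simp [h0] at hlast
    refine ⟨fun j => -((c (Fin.last m))⁻¹ * c j.castSucc), fun j => ?_, ?_⟩
    · rw [Valuation.map_neg, map_mul]
      exact mul_le_one' hinv (hc _)
    · have h2 := hTsmul _ hinv _ hcT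
      rw [Fin.sum_univ_castSucc, smul_add, Finset.smul_sum, smul_smul] at h2
      simp only [Fin.snoc_castSucc, Fin.snoc_last, inv_mul_cancel₀ hne, one_smul, smul_smul] at h2
      simp only [neg_smul, Finset.sum_neg_distrib, sub_neg_eq_add]
      rwa [add_comm]
  haveI := hF.finiteDimensional_residueField P
  let rb := Module.finBasis k (IsLocalRing.ResidueField P.O)
  choose z hz using fun l => ballRes_surjective P 0 (rb l)
  obtain ⟨-, hfinV, hV⟩ := (hF.ext (K' := K')).qfin_sball S 0 (fun Q => ramIdx Q P)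
  rw [hF.sum_ramIdx_deg] at hV
  let W := Submodule.comap (hF.semi P (K' := K')).subtype T
  let Φ : (Fin m × Fin (Module.finrank k (IsLocalRing.ResidueField P.O)) → k) →ₗ[k]
      (↥(hF.semi P (K' := K')) ⧸ W) :=
    Fintype.linearCombination k fun p => W.mkQ ⟨(z p.2 : K) • u p.1,
      hsemi_smul _ ((z p.2).2.trans_eq exp_zero) _ (hu p.1)⟩
  have hΦ : Function.Surjective Φ := by
    intro v
    obtain ⟨⟨y, hy⟩, rfl⟩ := W.mkQ_surjective v
    obtain ⟨c, hc, hcT⟩ := hspan y hy
    have hcB : ∀ j, c j ∈ Ball P 0 := fun j => (hc j).trans_eq exp_zero.symm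
    let a : Fin m × Fin (Module.finrank k (IsLocalRing.ResidueField P.O)) → k :=
      fun p => rb.repr (ballRes P 0 ⟨c p.1, hcB p.1⟩) p.2
    refine ⟨a, ?_⟩
    have hres : ∀ j, P.1 ((∑ l, a (j, l) • (z l : K)) - c j) < 1 := fun j => by
      have h0 : ballRes P 0 ((∑ l, a (j, l) • z l) - ⟨c j, hcB j⟩) = 0 := by
        rw [map_sub, map_sum, sub_eq_zero]
        refine (Finset.sum_congr rfl fun l _ => ?_).trans (rb.sum_repr _)
        exact (map_smul (ballRes P 0) _ _).trans (congrArg _ (hz l))
      rw [← LinearMap.mem_ker, ker_ballRes] at h0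
      refine lt_one_iff_le_exp_neg_one.mpr ?_
      simpa using h0
    rw [Fintype.linearCombination_apply, ← sub_eq_zero]
    simp only [← map_smul, ← map_sum, ← map_sub]
    rw [Submodule.mkQ_apply, Submodule.Quotient.mk_eq_zero, Submodule.mem_comap]
    have e1 : ∑ p : Fin m × Fin (Module.finrank k (IsLocalRing.ResidueField P.O)),
        a p • ((z p.2 : K) • u p.1) - y =
        ∑ j, ((∑ l, a (j, l) • (z l : K)) - c j) • u j - (y - ∑ j, c j • u j) := by
      rw [Fintype.sum_prod_type]
      simp only [sub_smul, Finset.sum_smul, smul_assoc, Finset.sum_sub_distrib]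
      abel
    have h2 : (∑ p : Fin m × Fin (Module.finrank k (IsLocalRing.ResidueField P.O)),
        a p • ((z p.2 : K) • u p.1) - y) ∈ T := by
      rw [e1]
      exact sub_mem (sum_mem fun j _ => hT _ (hres j) _ (hu j)) hcT
    simpa using h2
  have hmd : m = Module.finrank K K' := by
    refine le_antisymm (by simpa using (hindep u hu hmu).fintype_card_le_finrank) ?_
    have h1 := LinearMap.finrank_le_finrank_of_surjective hΦ
    rw [show Module.finrank k (↥(hF.semi P (K' := K')) ⧸ W) = _ from hV] at h1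
    simp only [Module.finrank_pi, Fintype.card_prod, Fintype.card_fin] at h1
    exact Nat.le_of_mul_le_mul_right h1 (hF.deg_pos P)
  subst hmd
  let b := basisOfLinearIndependentOfCardEqFinrank' u (hindep u hu hmu) (Fintype.card_fin _)
  refine ⟨b, fun y => ⟨fun hy => ?_, fun h => ?_⟩⟩
  · by_contra! hne
    obtain ⟨i, hi⟩ := hne
    obtain ⟨j, -, hj⟩ := Finset.univ.exists_max_image (fun l => P.1 (b.repr y l)) ⟨i, Finset.mem_univ i⟩
    have hgt : 1 < P.1 (b.repr y j) := hi.trans_le (hj i (Finset.mem_univ i))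
    have hne0 : b.repr y j ≠ 0 := fun h0 => by simp [h0] at hgt
    have h3 := hmu (fun l => b.repr y l / b.repr y j) (fun l => by
      rw [map_div₀, div_le_one₀ (zero_lt_iff.mpr (by simpa using hne0))]
      exact hj l (Finset.mem_univ l)) (by
      have hys : ∑ l, b.repr y l • u l = y := by
        conv_rhs => rw [← b.sum_repr y]
        simp [b]
      simp_rw [div_eq_inv_mul, mul_smul, ← Finset.smul_sum, hys]
      exact hT _ (by rw [map_inv₀]; exact inv_lt_one_of_one_lt₀ hgt) y hy) j
    simp [div_self hne0] at h3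
  · rw [← b.sum_repr y]
    refine sum_mem fun l _ => hsemi_smul _ (h l) _ ?_
    simpa [b] using hu l

/-- An `O_P`-basis of the integral closure. -/
theorem exists_integralClosure_basis (hF : IsFF k K) (P : Place k K) [Algebra P.O K']
    [IsScalarTower P.O K K'] :
    ∃ (b : Module.Basis (Fin (Module.finrank K K')) K K')
      (B : Module.Basis (Fin (Module.finrank K K')) P.O (integralClosure P.O K')),
      (∀ i, (B i : K') = b i) ∧ ∀ x i, ((B.repr x i : P.O) : K) = b.repr (x : K') i := by
  obtain ⟨b, hb⟩ := hF.exists_integral_basis (K' := K') P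
  have hmem : ∀ y, y ∈ integralClosure P.O K' ↔ ∀ i, P.1 (b.repr y i) ≤ 1 := fun y =>
    (hF.mem_integralClosure_iff P y).trans ((mem_semi hF).symm.trans (hb y))
  have hadd : ∀ a : Fin (Module.finrank K K') → P.O,
      ∑ i, (a i : K) • b i ∈ integralClosure P.O K' := fun a => by
    rw [hmem]
    intro i
    rw [b.repr_sum_self]
    exact (a i).2
  let e : integralClosure P.O K' ≃ₗ[P.O] (Fin (Module.finrank K K') → P.O) :=
    { toFun := fun x i => ⟨b.repr (x : K') i, (hmem x.1).mp x.2 i⟩
      invFun := fun a => ⟨∑ i, (a i : K) • b i, hadd a⟩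
      left_inv := fun x => Subtype.ext (b.sum_repr (x : K'))
      right_inv := fun a => funext fun i => Subtype.ext (congrFun (b.repr_sum_self fun i => (a i : K)) i)
      map_add' := fun x y => funext fun i => Subtype.ext (by simp)
      map_smul' := fun r x => funext fun i => Subtype.ext (by
        show b.repr ((r • x : integralClosure P.O K') : K') i = (r : K) * b.repr (x : K') i
        rw [show ((r • x : integralClosure P.O K') : K') = (r : K) • (x : K') by
          rw [Subalgebra.coe_smul, Algebra.smul_def, Algebra.smul_def, algebraMap_O_apply]]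
        simp) }
  refine ⟨b, Module.Basis.ofEquivFun e, fun i => ?_, fun x i => rfl⟩
  rw [Module.Basis.coe_ofEquivFun]
  classical
  show ∑ j, ((Pi.single i (1 : P.O) : Fin _ → P.O) j : K) • b j = b i
  rw [Finset.sum_eq_single i (fun j _ hj => by simp [hj]) (fun h => absurd (Finset.mem_univ i) h)]
  simp

/-- `deg P · ord_P (N x) = ∑ deg Q · ord_Q x`. -/
theorem ord_norm (hF : IsFF k K) (P : Place k K) (x : K') :
    (P.deg : ℤ) * P.ord (Algebra.norm K x) = ∑ Q ∈ hF.above P, (Q.deg : ℤ) * Q.ord x := by
  classical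
  letI : Algebra P.O K' := ((algebraMap K K').comp P.O.subtype).toAlgebra
  haveI : IsScalarTower P.O K K' := IsScalarTower.of_algebraMap_eq fun _ => rfl
  haveI : IsScalarTower k P.O K' := IsScalarTower.of_algebraMap_eq fun c => by
    rw [IsScalarTower.algebraMap_apply k K K']
    rfl
  obtain ⟨b, B, hBb, hrep⟩ := hF.exists_integralClosure_basis (K' := K') P
  -- integral elements
  have key : ∀ x : integralClosure P.O K', (x : K') ≠ 0 →
      (P.deg : ℤ) * P.ord (Algebra.norm K (x : K')) =
        ∑ Q ∈ hF.above P, (Q.deg : ℤ) * Q.ord (x : K') := by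
    intro x hx
    have hx' : x ≠ 0 := fun h => hx (by rw [h]; rfl)
    have hI : Ideal.span ({x} : Set (integralClosure P.O K')) ≠ ⊥ :=
      Ideal.span_singleton_eq_bot.not.mpr hx'
    have hnorm : ((Algebra.norm P.O x : P.O) : K) = Algebra.norm K (x : K') := by
      rw [Algebra.norm_eq_matrix_det B, Algebra.norm_eq_matrix_det b]
      refine (RingHom.map_det P.O.subtype _).trans (congrArg Matrix.det ?_)
      ext i j
      simp only [RingHom.mapMatrix_apply, Matrix.map_apply, Algebra.leftMulMatrix_eq_repr_mul]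
      rw [← hBb j]
      exact hrep (x * B j) i
    have hq : ∀ a : P.O, a ≠ 0 →
        FiniteDimensional k (P.O ⧸ Ideal.span ({a} : Set P.O)) ∧
          (Module.finrank k (P.O ⧸ Ideal.span ({a} : Set P.O)) : ℤ) = P.deg * P.ord (a : K) := by
      intro a ha
      have ha0 : (a : K) ≠ 0 := by simpa using ha
      have hpos : 0 ≤ P.ord (a : K) := (val_le_one_iff P _).mp a.2
      obtain ⟨-, hf, hd⟩ := hF.qfin_sball {P} 0 (fun Q => (Q.ord (a : K)).toNat)
      let ψ : P.O →ₗ[k] ↥(SBall ({P} : Finset (Place k K)) 0) :=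
        { toFun := fun y => ⟨y.1, by simp; exact y.2⟩
          map_add' := fun _ _ => rfl
          map_smul' := fun c y => by
            apply Subtype.ext
            show ((c • y : P.O) : K) = c • (y : K)
            rw [Algebra.smul_def, Algebra.smul_def]
            rfl }
      let Ψ := (Submodule.mkQ (Submodule.comap (SBall ({P} : Finset (Place k K)) 0).subtype
        (SBall {P} fun Q => (0 : Place k K → ℤ) Q - ((Q.ord (a : K)).toNat : ℤ)))).comp ψ
      have hs : Function.Surjective Ψ := by
        refine (Submodule.mkQ_surjective _).comp fun y => ⟨⟨y.1, ?_⟩, rfl⟩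
        exact (mem_SBall.mp y.2 P (Finset.mem_singleton_self P)).trans_eq exp_zero
      have hk : Ψ.ker = Submodule.restrictScalars k (Ideal.span ({a} : Set P.O)) := by
        ext y
        rw [LinearMap.mem_ker, LinearMap.comp_apply, Submodule.mkQ_apply, Submodule.Quotient.mk_eq_zero,
          Submodule.restrictScalars_mem, Ideal.mem_span_singleton, Submodule.mem_comap, mem_SBall]
        simp only [Finset.mem_singleton, forall_eq, Pi.zero_apply, zero_sub, Int.toNat_of_nonneg hpos,
          ← val_eq_exp_neg_ord P ha0]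
        constructor
        · intro h
          refine ⟨⟨(y : K) / (a : K), ?_⟩, Subtype.ext (mul_div_cancel₀ (y : K) ha0).symm⟩
          show P.1 _ ≤ 1
          rw [map_div₀, div_le_one₀ (zero_lt_iff.mpr (by simpa using ha0))]
          exact h
        · rintro ⟨c, rfl⟩
          show P.1 ((a : K) * (c : K)) ≤ P.1 (a : K)
          rw [map_mul]
          exact mul_le_of_le_one_right' c.2
      let e' := ((Submodule.Quotient.restrictScalarsEquiv k (Ideal.span ({a} : Set P.O))).symm.trans
        (Submodule.quotEquivOfEq _ _ hk.symm)).trans (Ψ.quotKerEquivOfSurjective hs)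
      refine ⟨e'.symm.finiteDimensional, ?_⟩
      rw [e'.finrank_eq, hd, Finset.sum_singleton]
      push_cast
      rw [Int.toNat_of_nonneg hpos]
      ring
    have hne := fun i => Ideal.smithCoeffs_ne_zero B _ hI i
    haveI : ∀ i, Module.Finite k
        (P.O ⧸ Ideal.span ({(Ideal.span ({x} : Set (integralClosure P.O K'))).smithCoeffs B hI i} : Set P.O)) :=
      fun i => (hq _ (hne i)).1
    have hsum := Ideal.finrank_quotient_eq_sum k (hI := hI) B
    have hlhs : (Module.finrank k (integralClosure P.O K' ⧸ Ideal.span ({x} : Set _)) : ℤ) =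
        ∑ Q ∈ hF.above P, (Q.deg : ℤ) * Q.ord (x : K') := by
      have hx1 : ∀ Q : Place k K', IsOver Q P → Q.1 (x : K') ≤ 1 :=
        (hF.mem_integralClosure_iff P _).mp x.2
      obtain ⟨-, hf, hd⟩ := (hF.ext (K' := K')).qfin_sball (hF.above P) 0
        (fun Q => (Q.ord (x : K')).toNat)
      let ψ : integralClosure P.O K' →ₗ[k] ↥(SBall (hF.above P : Finset (Place k K')) 0) :=
        { toFun := fun y => ⟨y.1, (mem_semi hF).mpr ((hF.mem_integralClosure_iff P _).mp y.2)⟩
          map_add' := fun _ _ => rfl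
          map_smul' := fun c y => rfl }
      let Ψ := (Submodule.mkQ (Submodule.comap (SBall (hF.above P : Finset (Place k K')) 0).subtype
        (SBall (hF.above P) fun Q => (0 : Place k K' → ℤ) Q - ((Q.ord (x : K')).toNat : ℤ)))).comp ψ
      have hs : Function.Surjective Ψ := by
        refine (Submodule.mkQ_surjective _).comp fun y => ⟨⟨y.1, ?_⟩, rfl⟩
        exact (hF.mem_integralClosure_iff P _).mpr ((mem_semi hF).mp y.2)
      have hk : Ψ.ker = Submodule.restrictScalars k (Ideal.span ({x} : Set (integralClosure P.O K'))) := by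
        ext y
        rw [LinearMap.mem_ker, LinearMap.comp_apply, Submodule.mkQ_apply, Submodule.Quotient.mk_eq_zero,
          Submodule.restrictScalars_mem, Ideal.mem_span_singleton, Submodule.mem_comap, mem_SBall]
        have hcv : ∀ Q ∈ hF.above P,
            exp ((0 : Place k K' → ℤ) Q - ((Q.ord (x : K')).toNat : ℤ)) = Q.1 (x : K') := fun Q hQ => by
          rw [val_eq_exp_neg_ord Q hx, Pi.zero_apply,
            Int.toNat_of_nonneg ((val_le_one_iff Q _).mp (hx1 Q (hF.mem_above.mp hQ))), zero_sub]
        constructor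
        · intro h
          refine ⟨⟨(y : K') / (x : K'), ?_⟩, Subtype.ext (mul_div_cancel₀ (y : K') hx).symm⟩
          refine (hF.mem_integralClosure_iff P _).mpr fun Q hQ => ?_
          rw [map_div₀, div_le_one₀ (zero_lt_iff.mpr (by simpa using hx))]
          exact (h Q (hF.mem_above.mpr hQ)).trans_eq (hcv Q (hF.mem_above.mpr hQ))
        · rintro ⟨c, rfl⟩ Q hQ
          rw [hcv Q hQ]
          show Q.1 ((x : K') * (c : K')) ≤ Q.1 (x : K')
          rw [map_mul]
          exact mul_le_of_le_one_right'
            ((hF.mem_integralClosure_iff P _).mp c.2 Q (hF.mem_above.mp hQ))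
      let e' := ((Submodule.Quotient.restrictScalarsEquiv k
        (Ideal.span ({x} : Set (integralClosure P.O K')))).symm.trans
        (Submodule.quotEquivOfEq _ _ hk.symm)).trans (Ψ.quotKerEquivOfSurjective hs)
      rw [e'.finrank_eq, hd]
      push_cast
      refine Finset.sum_congr rfl fun Q hQ => ?_
      rw [Int.toNat_of_nonneg ((val_le_one_iff Q _).mp (hx1 Q (hF.mem_above.mp hQ))), mul_comm]
    rw [← hlhs, hsum]
    push_cast
    rw [Finset.sum_congr rfl fun i _ => (hq _ (hne i)).2, ← Finset.mul_sum, ← hnorm]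
    congr 1
    have hass := associated_norm_prod_smith B hx'
    obtain ⟨w, hw⟩ := hass
    have hw1 : P.1 ((w : P.O) : K) = 1 := by
      refine le_antisymm (w : P.O).2 ?_
      have h2 : P.1 ((w : P.O) : K) * P.1 (((w⁻¹ : P.Oˣ) : P.O) : K) = 1 := by
        rw [← map_mul]
        exact (congrArg (fun a : P.O => P.1 (a : K)) w.mul_inv).trans (map_one _)
      calc (1 : ℤᵐ⁰) = P.1 ((w : P.O) : K) * P.1 (((w⁻¹ : P.Oˣ) : P.O) : K) := h2.symm
        _ ≤ P.1 ((w : P.O) : K) := mul_le_of_le_one_right' (((w⁻¹ : P.Oˣ) : P.O)).2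
    have hv : P.1 ((Algebra.norm P.O x : P.O) : K) =
        ∏ i, P.1 (((Ideal.span ({x} : Set (integralClosure P.O K'))).smithCoeffs B hI i : P.O) : K) := by
      have h3 := congrArg (fun a : P.O => P.1 (a : K)) hw
      simp only [MulMemClass.coe_mul, map_mul, hw1, mul_one, SubmonoidClass.coe_finsetProd,
        map_prod] at h3
      exact h3
    have hlog : ∀ s : Finset (Fin (Module.finrank K K')),
        WithZero.log (∏ i ∈ s,
          P.1 (((Ideal.span ({x} : Set (integralClosure P.O K'))).smithCoeffs B hI i : P.O) : K)) =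
        -∑ i ∈ s, P.ord (((Ideal.span ({x} : Set (integralClosure P.O K'))).smithCoeffs B hI i : P.O) : K) := by
      intro s
      induction s using Finset.induction with
      | empty => simp
      | insert j s hj ih =>
        rw [Finset.prod_insert hj, Finset.sum_insert hj, log_mul ?_ ?_, ih]
        · simp [Place.ord]; ring
        · simpa using hne j
        · rw [Finset.prod_ne_zero_iff]; exact fun i _ => by simpa using hne i
    show -WithZero.log _ = _
    rw [hv, hlog, neg_neg]
  by_cases hx : x = 0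
  · subst hx; simp
  obtain ⟨c, hc0, hc⟩ : ∃ c : K, c ≠ 0 ∧ ∀ Q : Place k K', IsOver Q P → Q.1 (algebraMap K K' c * x) ≤ 1 := by
    obtain ⟨t, ht0, ht⟩ := exists_uniformizer P
    refine ⟨t ^ ((hF.above P : Finset (Place k K')).sup fun Q => (-Q.ord x).toNat),
      pow_ne_zero _ ht0, fun Q hQ => ?_⟩
    set N := (hF.above P : Finset (Place k K')).sup fun Q => (-Q.ord x).toNat
    have hN : (-Q.ord x).toNat ≤ N :=
      Finset.le_sup (f := fun Q : Place k K' => (-Q.ord x).toNat) (hF.mem_above.mpr hQ)
    have ho := isOverWith_ramIdx hQ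
    have he := overWith_pos ho
    rw [map_mul, map_pow, map_pow, ho t, ht, val_eq_exp_neg_ord Q hx, ← exp_nsmul, ← exp_nsmul,
      ← exp_add, exp_le_one]
    simp only [nsmul_eq_mul]
    have : (N : ℤ) ≤ (N : ℤ) * (ramIdx Q P : ℤ) :=
      le_mul_of_one_le_right (by omega) (by exact_mod_cast he)
    have h1 : -Q.ord x ≤ N := by omega
    linarith
  have hz : algebraMap K K' c * x ∈ integralClosure P.O K' :=
    (hF.mem_integralClosure_iff P _).mpr hc
  have hc' : algebraMap K K' c ≠ 0 := by simpa using hc0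
  have h1 := key ⟨_, hz⟩ (mul_ne_zero hc' hx)
  simp only [map_mul, Algebra.norm_algebraMap] at h1
  have hN0 : Algebra.norm K x ≠ 0 := Algebra.norm_ne_zero_iff.mpr hx
  have hpow : ∀ n : ℕ, P.ord (c ^ n) = n * P.ord c := fun n => by
    simp [Place.ord, log_pow]
  rw [ord_mul P (pow_ne_zero _ hc0) hN0, hpow,
    Finset.sum_congr rfl (fun Q hQ => by
      rw [ord_mul Q hc' hx, overWith_ord (isOverWith_ramIdx (hF.mem_above.mp hQ)), mul_add]),
    Finset.sum_add_distrib] at h1
  have h2 : ∑ Q ∈ (hF.above P : Finset (Place k K')), (Q.deg : ℤ) * ((ramIdx Q P : ℤ) * P.ord c) =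
      (Module.finrank K K' : ℤ) * P.deg * P.ord c := by
    have e : ((∑ Q ∈ (hF.above P : Finset (Place k K')), ramIdx Q P * Q.deg : ℕ) : ℤ) =
        ((Module.finrank K K' * P.deg : ℕ) : ℤ) := congrArg _ (hF.sum_ramIdx_deg P)
    push_cast at e
    rw [← e, Finset.sum_mul]
    exact Finset.sum_congr rfl fun Q _ => by ring
  rw [h2] at h1
  linarith

end IsFF

end Groth.FunFld1
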