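import Groth.Agent.FunFld1.Rational
import Groth.Agent.FunFld1.GenusOne
import Groth.Agent.FunFld1.Extension

/-!
Involutions of function fields in characteristic different from two: fixed places and fixed field.
-/

set_option linter.style.haveILetI false
set_option linter.unusedSectionVars false

namespace Groth.FunFld1.Involution

open WithZero FunFld Groth.FunFld1

variable {k K : Type*} [Field k] [Field K] [Algebra k K]

/-- The eigenspace of an automorphism for the eigenvalue `c`. -/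
def eig (σ : K ≃ₐ[k] K) (c : k) : Submodule k K where
  carrier := {x | σ x = c • x}
  add_mem' ha hb := by simp_all
  zero_mem' := by simp
  smul_mem' a x hx := by simp_all [smul_comm a c x]

theorem mem_eig {σ : K ≃ₐ[k] K} {c : k} {x : K} : x ∈ eig σ c ↔ σ x = c • x := Iff.rfl

theorem mem_eig_one {σ : K ≃ₐ[k] K} {x : K} : x ∈ eig σ (1 : k) ↔ σ x = x := by
  rw [mem_eig, one_smul]

theorem mem_eig_neg {σ : K ≃ₐ[k] K} {x : K} : x ∈ eig σ (-1 : k) ↔ σ x = -x := by
  rw [mem_eig, neg_one_smul]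

/-- Places moved to themselves. -/
def fixedSet (σ : K ≃ₐ[k] K) : Set (Place k K) := {P | comapPlace σ P = P}

/-- Invariant divisors with even coefficients at the fixed places. -/
def Good (σ : K ≃ₐ[k] K) (D : Divisor k K) : Prop :=
  (∀ P, D (comapPlace σ P) = D P) ∧ ∀ P ∈ fixedSet σ, Even (D P)

theorem finrank_inf_le {B A V W : Submodule k K} [FiniteDimensional k B] (hAB : A ≤ B)
    (h : B ⊓ V ⊓ A ≤ W ⊓ V) (hW : W ≤ B) :
    Module.finrank k ↥(B ⊓ V) + Module.finrank k A ≤ Module.finrank k ↥(W ⊓ V) + Module.finrank k B := by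
  haveI : FiniteDimensional k A := Submodule.finiteDimensional_of_le hAB
  haveI : FiniteDimensional k ↥(B ⊓ V) := Submodule.finiteDimensional_of_le inf_le_left
  haveI : FiniteDimensional k ↥(W ⊓ V) := Submodule.finiteDimensional_of_le (inf_le_left.trans hW)
  have h1 := Submodule.finrank_sup_add_finrank_inf_eq (B ⊓ V) A
  have h2 := Submodule.finrank_mono (sup_le inf_le_left hAB : B ⊓ V ⊔ A ≤ B)
  have h3 := Submodule.finrank_mono h
  omega

variable (σ : K ≃ₐ[k] K) (hσ2 : ∀ x, σ (σ x) = x)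
include hσ2

theorem comapPlace_comapPlace (P : Place k K) : comapPlace σ (comapPlace σ P) = P :=
  Subtype.ext (Valuation.ext fun x => by
    show P.1 (σ (σ x)) = _
    rw [hσ2])

variable [IsAlgClosed k] (hK : IsFunctionField k K) (hne : σ ≠ 1) (h2 : (2 : k) ≠ 0)
include hK hne h2

local notation "hF" => IsFF.of_isFunctionField hK

theorem exists_anti : ∃ y : K, y ≠ 0 ∧ σ y = -y := by
  by_contra! h
  refine hne (AlgEquiv.ext fun x => ?_)
  by_contra hx
  exact h (x - σ x) (fun e => hx (sub_eq_zero.mp e).symm) (by rw [map_sub, hσ2]; ring)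

theorem anti_val_ne_one {P : Place k K} (hP : P ∈ fixedSet σ) {z : K} (hz : σ z = -z) : P.1 z ≠ 1 := by
  intro h1
  obtain ⟨c, hc⟩ := exists_const_sub_lt_one (deg_eq_one_of_isAlgClosed hF P) h1.le
  have hc' : P.1 (σ (z - algebraMap k K c)) < 1 := by
    rw [← comapPlace_apply σ P, hP]; exact hc
  rw [map_sub, AlgEquiv.commutes, hz] at hc'
  have h3 : P.1 (algebraMap k K (-(2 * c))) < 1 := by
    have e : algebraMap k K (-(2 * c)) = (z - algebraMap k K c) + (-z - algebraMap k K c) := by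
      simp only [map_neg, map_mul, map_ofNat]; ring
    rw [e]
    exact (P.1.map_add _ _).trans_lt (max_lt hc hc')
  by_cases hc0 : c = 0
  · rw [hc0, map_zero, sub_zero, h1] at hc
    exact lt_irrefl _ hc
  · rw [val_algebraMap P (neg_ne_zero.mpr (mul_ne_zero h2 hc0))] at h3
    exact lt_irrefl _ h3

theorem exists_anti_uniformizer {P : Place k K} (hP : P ∈ fixedSet σ) :
    ∃ w : K, σ w = -w ∧ P.1 w = exp (-1 : ℤ) := by
  obtain ⟨t, ht⟩ := exists_val_eq_exp P (-1)
  have hσt : P.1 (σ t) = exp (-1 : ℤ) := by rw [← comapPlace_apply σ P, hP]; exact ht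
  by_cases hw : P.1 (t - σ t) = exp (-1 : ℤ)
  · exact ⟨t - σ t, by rw [map_sub, hσ2]; ring, hw⟩
  exfalso
  have hw' : P.1 (t - σ t) < exp (-1 : ℤ) :=
    lt_of_le_of_ne ((P.1.map_sub _ _).trans (max_le ht.le hσt.le)) hw
  have hu : P.1 (t + σ t) = exp (-1 : ℤ) := by
    have e : t + σ t = algebraMap k K 2 * t - (t - σ t) := by rw [map_ofNat]; ring
    have h2t : P.1 (algebraMap k K 2 * t) = exp (-1 : ℤ) := by
      rw [map_mul, val_algebraMap P h2, one_mul, ht]
    rw [e, Valuation.map_sub_eq_of_lt_left _ (h2t ▸ hw'), h2t]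
  obtain ⟨y, hy, hyσ⟩ := exists_anti σ hσ2 hK hne h2
  refine anti_val_ne_one σ hσ2 hK hne h2 hP (z := y * (t + σ t) ^ (-P.ord y)) ?_ ?_
  · rw [map_mul, map_zpow₀, hyσ, map_add, hσ2, add_comm (σ t) t, neg_mul]
  · rw [map_mul, map_zpow₀, hu, val_eq_exp_neg_ord P hy, ← exp_zsmul, ← exp_add, smul_eq_mul]
    rw [show -P.ord y + -P.ord y * (-1) = 0 by ring, exp_zero]

theorem even_ord_of_inv {P : Place k K} (hP : P ∈ fixedSet σ) {z : K} (hz : z ≠ 0) (hzσ : σ z = z) :
    Even (P.ord z) := by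
  obtain ⟨w, hwσ, hw⟩ := exists_anti_uniformizer σ hσ2 hK hne h2 hP
  by_contra hodd
  refine anti_val_ne_one σ hσ2 hK hne h2 hP (z := z * w ^ (-P.ord z)) ?_ ?_
  · rw [map_mul, map_zpow₀, hzσ, hwσ, Odd.neg_zpow (Int.not_even_iff_odd.mp hodd).neg, mul_neg]
  · rw [map_mul, map_zpow₀, hw, val_eq_exp_neg_ord P hz, ← exp_zsmul, ← exp_add, smul_eq_mul]
    rw [show -P.ord z + -P.ord z * (-1) = 0 by ring, exp_zero]

theorem odd_ord_of_anti {P : Place k K} (hP : P ∈ fixedSet σ) {z : K} (hz : z ≠ 0) (hzσ : σ z = -z) :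
    Odd (P.ord z) := by
  obtain ⟨w, hwσ, hw⟩ := exists_anti_uniformizer σ hσ2 hK hne h2 hP
  by_contra heven
  refine anti_val_ne_one σ hσ2 hK hne h2 hP (z := z * w ^ (-P.ord z)) ?_ ?_
  · rw [map_mul, map_zpow₀, hzσ, hwσ, Even.neg_zpow (Int.not_odd_iff_even.mp heven).neg, neg_mul]
  · rw [map_mul, map_zpow₀, hw, val_eq_exp_neg_ord P hz, ← exp_zsmul, ← exp_add, smul_eq_mul]
    rw [show -P.ord z + -P.ord z * (-1) = 0 by ring, exp_zero]

theorem finite_fixedSet : (fixedSet σ).Finite := by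
  obtain ⟨y, hy, hyσ⟩ := exists_anti σ hσ2 hK hne h2
  refine ((hF).finite_support_ord y).subset fun P hP h0 => ?_
  have h1 := odd_ord_of_anti σ hσ2 hK hne h2 hP hy hyσ
  simp only at h0
  rw [h0] at h1
  exact absurd h1 (by decide)

theorem ell_eq_add {D : Divisor k K} (hD : Good σ D) :
    ell D = Module.finrank k ↥(L D ⊓ eig σ 1) + Module.finrank k ↥(L D ⊓ eig σ (-1)) := by
  haveI := (hF).finiteDimensional_L D
  haveI : FiniteDimensional k ↥(L D ⊓ eig σ 1) := Submodule.finiteDimensional_of_le inf_le_left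
  haveI : FiniteDimensional k ↥(L D ⊓ eig σ (-1)) := Submodule.finiteDimensional_of_le inf_le_left
  have hsup : L D ⊓ eig σ 1 ⊔ L D ⊓ eig σ (-1) = L D := by
    refine le_antisymm (sup_le inf_le_left inf_le_left) fun z hz => ?_
    have hσz : σ z ∈ L D := fun P => by
      have := hz (comapPlace σ P)
      rwa [hD.1] at this
    refine Submodule.mem_sup.mpr ⟨(2 : k)⁻¹ • (z + σ z), ⟨(L D).smul_mem _ (add_mem hz hσz), ?_⟩,
      (2 : k)⁻¹ • (z - σ z), ⟨(L D).smul_mem _ (sub_mem hz hσz), ?_⟩, ?_⟩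
    · exact mem_eig_one.mpr (by rw [map_smul, map_add, hσ2, add_comm])
    · exact mem_eig_neg.mpr (by rw [map_smul, map_sub, hσ2, ← smul_neg, neg_sub])
    · rw [← smul_add, show z + σ z + (z - σ z) = (2 : k) • z by rw [two_smul]; ring, smul_smul,
        inv_mul_cancel₀ h2, one_smul]
  have hinf : L D ⊓ eig σ 1 ⊓ (L D ⊓ eig σ (-1)) = ⊥ := by
    refine eq_bot_iff.mpr fun z ⟨⟨_, ha⟩, _, hb⟩ => ?_
    have h : z = -z := (mem_eig_one.mp ha).symm.trans (mem_eig_neg.mp hb)
    have : (2 : k) • z = 0 := by rw [two_smul]; nth_rw 2 [h]; exact add_neg_cancel z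
    simpa [h2] using this
  have h1 := Submodule.finrank_sup_add_finrank_inf_eq (L D ⊓ eig σ 1) (L D ⊓ eig σ (-1))
  rw [hsup, hinf, finrank_bot, add_zero] at h1
  exact h1

theorem good_add_pair {D : Divisor k K} (hD : Good σ D) (Q : Place k K) :
    Good σ (D + Finsupp.single Q 1 + Finsupp.single (comapPlace σ Q) 1) := by
  classical
  refine ⟨fun P => ?_, fun P hP => ?_⟩
  · simp only [Finsupp.add_apply, hD.1, Finsupp.single_apply]
    have e1 : (Q = comapPlace σ P) ↔ (comapPlace σ Q = P) :=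
      ⟨fun e => by rw [e, comapPlace_comapPlace σ hσ2], fun e => by rw [← e, comapPlace_comapPlace σ hσ2]⟩
    have e2 : (comapPlace σ Q = comapPlace σ P) ↔ (Q = P) :=
      ⟨fun e => by rw [← comapPlace_comapPlace σ hσ2 Q, e, comapPlace_comapPlace σ hσ2], fun e => by rw [e]⟩
    simp only [e1, e2]
    ring
  · simp only [Finsupp.add_apply, Finsupp.single_apply]
    by_cases hQ : Q = P
    · subst hQ
      rw [if_pos rfl, if_pos (show comapPlace σ Q = Q from hP), add_assoc]
      exact (hD.2 Q hP).add (even_two)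
    · rw [if_neg hQ, if_neg (fun e => hQ ?_), add_zero, add_zero]
      · exact hD.2 P hP
      · rw [← comapPlace_comapPlace σ hσ2 Q, e]; exact hP

theorem step {D : Divisor k K} (hD : Good σ D) (Q : Place k K) :
    Module.finrank k ↥(L (D + Finsupp.single Q 1 + Finsupp.single (comapPlace σ Q) 1) ⊓ eig σ 1) ≤
        Module.finrank k ↥(L D ⊓ eig σ 1) + 1 ∧
      Module.finrank k ↥(L (D + Finsupp.single Q 1 + Finsupp.single (comapPlace σ Q) 1) ⊓ eig σ (-1)) ≤
        Module.finrank k ↥(L D ⊓ eig σ (-1)) + 1 := by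
  classical
  set Q' := comapPlace σ Q
  set D2 := D + Finsupp.single Q (1 : ℤ) + Finsupp.single Q' 1
  have hd1 : ∀ R : Place k K, R.deg = 1 := deg_eq_one_of_isAlgClosed hF
  haveI := (hF).finiteDimensional_L D2
  have h1 : D ≤ D + Finsupp.single Q' (1 : ℤ) := le_add_of_nonneg_right (Finsupp.single_nonneg.mpr (by norm_num))
  have h3 : D + Finsupp.single Q' (1 : ℤ) ≤ D2 :=
    add_le_add (le_add_of_nonneg_right (Finsupp.single_nonneg.mpr (by norm_num))) le_rfl
  have hsub : ell D2 ≤ ell (D + Finsupp.single Q' 1) + 1 := by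
    have := (hF).ell_sub_le h3
    have hd : D2.deg = (D + Finsupp.single Q' (1 : ℤ)).deg + 1 := by
      simp only [D2, deg_add, deg_single, hd1, Nat.cast_one, mul_one]; try ring
    omega
  have hsub' : ell (D + Finsupp.single Q' 1) ≤ ell D + 1 := by
    have := (hF).ell_sub_le h1
    rw [deg_add, deg_single, hd1, Nat.cast_one, mul_one] at this
    omega
  have hval : ∀ {z : K} {c : k}, c ≠ 0 → z ∈ eig σ c → Q'.1 z = Q.1 z := fun {z c} hc hz => by
    rw [show Q'.1 z = Q.1 (σ z) from rfl, mem_eig.mp hz, Algebra.smul_def, map_mul, val_algebraMap Q hc,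
      one_mul]
  -- moved places
  have moved : Q' ≠ Q → ∀ c : k, c ≠ 0 → Module.finrank k ↥(L D2 ⊓ eig σ c) ≤
      Module.finrank k ↥(L D ⊓ eig σ c) + 1 := fun hQ c hc => by
    have := finrank_inf_le (B := L D2) (A := L (D + Finsupp.single Q' 1)) (V := eig σ c) (W := L D)
      (L_mono h3) (fun z ⟨⟨_, hz⟩, hzA⟩ => ⟨fun R => ?_, hz⟩) (L_mono (h1.trans h3))
    · unfold ell at hsub; omega
    · by_cases hR : R = Q'
      · have hA := hzA Q
        rw [Finsupp.add_apply, Finsupp.single_eq_of_ne hQ.symm, add_zero] at hA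
        rw [hR, hval hc hz, hD.1]
        exact hA
      · have hA := hzA R
        rwa [Finsupp.add_apply, Finsupp.single_eq_of_ne hR, add_zero] at hA
  by_cases hQ : Q' = Q
  swap
  · exact ⟨moved hQ 1 one_ne_zero, moved hQ (-1) (neg_ne_zero.mpr one_ne_zero)⟩
  have hfix : Q ∈ fixedSet σ := hQ
  obtain ⟨m, hm⟩ := hD.2 Q hfix
  constructor
  · have := finrank_inf_le (B := L D2) (A := L (D + Finsupp.single Q' 1)) (V := eig σ (1 : k)) (W := L D)
      (L_mono h3) (fun z ⟨⟨_, hz⟩, hzA⟩ => ⟨fun R => ?_, hz⟩) (L_mono (h1.trans h3))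
    · unfold ell at hsub; omega
    · have hA := hzA R
      rw [hQ, Finsupp.add_apply, Finsupp.single_apply] at hA
      by_cases hR : Q = R
      · subst hR
        rw [if_pos rfl] at hA
        rcases eq_or_ne z 0 with rfl | hz0
        · simp
        obtain ⟨l, hl⟩ := even_ord_of_inv σ hσ2 hK hne h2 hfix hz0 (mem_eig_one.mp hz)
        rw [val_eq_exp_neg_ord Q hz0, exp_le_exp] at hA ⊢
        omega
      · rwa [if_neg hR, add_zero] at hA
  · have hle : L D2 ⊓ eig σ (-1) = L (D + Finsupp.single Q' 1) ⊓ eig σ (-1) := by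
      refine le_antisymm (fun z ⟨hz2, hz⟩ => ⟨fun R => ?_, hz⟩) (inf_le_inf_right _ (L_mono h3))
      have hA := hz2 R
      simp only [D2, hQ, Finsupp.add_apply, Finsupp.single_apply] at hA ⊢
      by_cases hR : Q = R
      · subst hR
        rw [if_pos rfl] at hA ⊢
        rcases eq_or_ne z 0 with rfl | hz0
        · simp
        obtain ⟨l, hl⟩ := odd_ord_of_anti σ hσ2 hK hne h2 hfix hz0 (mem_eig_neg.mp hz)
        rw [val_eq_exp_neg_ord Q hz0, exp_le_exp] at hA ⊢
        omega
      · simp only [if_neg hR, add_zero] at hA ⊢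
        exact hA
    rw [hle]
    haveI := (hF).finiteDimensional_L (D + Finsupp.single Q' 1)
    have := finrank_inf_le (B := L (D + Finsupp.single Q' 1)) (A := L D) (V := eig σ (-1 : k)) (W := L D)
      (L_mono h1) (fun z ⟨⟨_, hz⟩, hzA⟩ => ⟨hzA, hz⟩) (L_mono h1)
    unfold ell at hsub'; omega

theorem jump {D : Divisor k K} (hD : Good σ D) {D' : Divisor k K} (hD' : Good σ D') (hle : D ≤ D') :
    (2 * (Module.finrank k ↥(L D' ⊓ eig σ 1) : ℤ) ≤
        2 * (Module.finrank k ↥(L D ⊓ eig σ 1) : ℤ) + (D'.deg - D.deg)) ∧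
      2 * (Module.finrank k ↥(L D' ⊓ eig σ (-1)) : ℤ) ≤
        2 * (Module.finrank k ↥(L D ⊓ eig σ (-1)) : ℤ) + (D'.deg - D.deg) := by
  classical
  obtain ⟨N, hN⟩ : ∃ N : ℕ, (D'.deg - D.deg).toNat = N := ⟨_, rfl⟩
  induction N using Nat.strong_induction_on generalizing D with
  | _ N ih =>
  rcases eq_or_ne D D' with rfl | hne'
  · simp
  obtain ⟨Q, hQ⟩ : ∃ Q, D Q ≠ D' Q := by
    by_contra! h; exact hne' (Finsupp.ext h)
  have hQlt : D Q < D' Q := lt_of_le_of_ne (hle Q) hQ
  set D2 := D + Finsupp.single Q (1 : ℤ) + Finsupp.single (comapPlace σ Q) 1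
  have hd : D2.deg = D.deg + 2 := by
    simp only [D2, deg_add, deg_single, deg_eq_one_of_isAlgClosed hF, Nat.cast_one, mul_one]; ring
  have hle2 : D2 ≤ D' := fun R => by
    have hR := hle R
    simp only [D2, Finsupp.add_apply, Finsupp.single_apply]
    by_cases h1 : Q = R <;> by_cases h3 : comapPlace σ Q = R <;> simp only [h1, h3, if_true, if_false]
    · subst h1
      obtain ⟨a, ha⟩ := hD.2 Q h3
      obtain ⟨b, hb⟩ := hD'.2 Q h3
      rw [h3, if_pos rfl]; omega
    · subst h1; rw [if_neg h3]; omega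
    · subst h3; rw [hD.1, hD'.1]; omega
    · omega
  have hmono : 0 ≤ D'.deg - D2.deg := by
    rw [← deg_sub]; exact deg_nonneg (sub_nonneg.mpr hle2)
  obtain ⟨s1, s2⟩ := step σ hσ2 hK hne h2 hD Q
  obtain ⟨i1, i2⟩ := ih (D'.deg - D2.deg).toNat (by omega) (good_add_pair σ hσ2 hK hne h2 hD Q) hle2 rfl
  simp only [D2] at i1 i2 hd
  constructor <;> omega

theorem jump_eq {D : Divisor k K} (hD : Good σ D) {D' : Divisor k K} (hD' : Good σ D') (hle : D ≤ D')
    (hd : 2 * (genus k K : ℤ) - 1 ≤ D.deg) :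
    2 * (Module.finrank k ↥(L D' ⊓ eig σ 1) : ℤ) =
      2 * (Module.finrank k ↥(L D ⊓ eig σ 1) : ℤ) + (D'.deg - D.deg) := by
  obtain ⟨a, b⟩ := jump σ hσ2 hK hne h2 hD hD' hle
  have h0 : 0 ≤ D'.deg - D.deg := by rw [← deg_sub]; exact deg_nonneg (sub_nonneg.mpr hle)
  have e1 := ell_eq_of_deg_ge hK hd
  have e2 := ell_eq_of_deg_ge hK (D := D') (by omega)
  rw [ell_eq_add σ hσ2 hK hne h2 hD] at e1
  rw [ell_eq_add σ hσ2 hK hne h2 hD'] at e2
  push_cast at e1 e2
  omega

/-- The Riemann–Hurwitz formula for the invariant Riemann–Roch spaces. -/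
theorem four_mul_finrank_inv {D : Divisor k K} (hD : Good σ D) (r : Finset (Place k K))
    (hr : ↑r = fixedSet σ) (hd : 2 * (genus k K : ℤ) - 1 + r.card ≤ D.deg) :
    4 * (Module.finrank k ↥(L D ⊓ eig σ 1) : ℤ) = 2 * D.deg + r.card + 2 - 2 * genus k K := by
  classical
  obtain ⟨y, hy, hyσ⟩ := exists_anti σ hσ2 hK hne h2
  have hmem : ∀ P, P ∈ r ↔ P ∈ fixedSet σ := fun P => by rw [← hr]; rfl
  set O : Divisor k K := ∑ P ∈ r, Finsupp.single P (1 : ℤ)
  have hO : ∀ P, O P = if P ∈ r then 1 else 0 := fun P => by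
    simp only [O, Finsupp.coe_finsetSum, Finset.sum_apply, Finsupp.single_apply]
    rw [Finset.sum_ite_eq' r P (fun _ => (1 : ℤ))]
  set E : Divisor k K := D + FunFld.div k y - O
  have hE : ∀ P, E P = D P + P.ord y - if P ∈ r then 1 else 0 := fun P => by
    simp only [E, Finsupp.sub_apply, Finsupp.add_apply, (hF).div_apply, hO]
  have hEd : E.deg = D.deg - r.card := by
    simp only [E, deg_sub, deg_add, (hF).div_apply, (hF).deg_div, add_zero]
    congr 1
    have hs : ∀ s : Finset (Place k K), (∑ P ∈ s, Finsupp.single P (1 : ℤ) : Divisor k K).deg = s.card :=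
      fun s => by
        induction s using Finset.induction with
        | empty => simp [deg_zero]
        | insert a s ha ih =>
          rw [Finset.sum_insert ha, deg_add, ih, deg_single, deg_eq_one_of_isAlgClosed hF,
            Finset.card_insert_of_notMem ha]
          push_cast; ring
    exact hs r
  have hEg : Good σ E := by
    refine ⟨fun P => ?_, fun P hP => ?_⟩
    · rw [hE, hE, hD.1]
      have e1 : (comapPlace σ P).ord y = P.ord y := by
        show -log (P.1 (σ y)) = -log (P.1 y)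
        rw [hyσ, Valuation.map_neg]
      have e2 : comapPlace σ P ∈ r ↔ P ∈ r := by
        rw [hmem, hmem]
        refine ⟨fun h => ?_, fun h => by rw [show comapPlace σ P = P from h]; exact h⟩
        show comapPlace σ P = P
        have h' : comapPlace σ (comapPlace σ P) = comapPlace σ P := h
        rw [comapPlace_comapPlace σ hσ2] at h'
        exact h'.symm
      simp only [e1, e2]
    · rw [hE, if_pos ((hmem P).mpr hP)]
      obtain ⟨a, ha⟩ := hD.2 P hP
      obtain ⟨b, hb⟩ := odd_ord_of_anti σ hσ2 hK hne h2 hP hy hyσ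
      exact ⟨a + b, by omega⟩
  have hmul : Module.finrank k ↥(L D ⊓ eig σ (-1)) = Module.finrank k ↥(L E ⊓ eig σ 1) := by
    let f : K ≃ₗ[k] K := LinearEquiv.ofLinear (LinearMap.mulRight k y) (LinearMap.mulRight k y⁻¹)
      (LinearMap.ext fun z => by simp [mul_assoc, inv_mul_cancel₀ hy])
      (LinearMap.ext fun z => by simp [mul_assoc, mul_inv_cancel₀ hy])
    have : (L E ⊓ eig σ 1).map (f : K →ₗ[k] K) = L D ⊓ eig σ (-1) := by
      apply le_antisymm
      · rintro _ ⟨a, ⟨haL, ha⟩, rfl⟩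
        refine ⟨fun P => ?_, ?_⟩
        · show P.1 (a * y) ≤ _
          have h := haL P
          rw [hE] at h
          rw [map_mul, val_eq_exp_neg_ord P hy]
          calc P.1 a * exp (-P.ord y) ≤ exp (D P + P.ord y - if P ∈ r then 1 else 0) * exp (-P.ord y) :=
                mul_le_mul_left h _
            _ ≤ exp (D P) := by rw [← exp_add, exp_le_exp]; split_ifs <;> omega
        · refine mem_eig_neg.mpr ?_
          show σ (a * y) = -(a * y)
          rw [map_mul, mem_eig_one.mp ha, hyσ, mul_neg]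
      · rintro z ⟨hzL, hz⟩
        have ha : σ (z * y⁻¹) = z * y⁻¹ := by
          rw [map_mul, map_inv₀, mem_eig_neg.mp hz, hyσ, inv_neg, neg_mul_neg]
        refine ⟨z * y⁻¹, ⟨fun P => ?_, mem_eig_one.mpr ha⟩, by simp [f, mul_assoc, inv_mul_cancel₀ hy]⟩
        rcases eq_or_ne z 0 with rfl | hz0
        · simp
        have hne0 : z * y⁻¹ ≠ 0 := mul_ne_zero hz0 (inv_ne_zero hy)
        have ho : P.ord (z * y⁻¹) = P.ord z - P.ord y := by
          rw [ord_mul P hz0 (inv_ne_zero hy), ord_inv]; ring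
        have h := hzL P
        rw [val_eq_exp_neg_ord P hz0, exp_le_exp] at h
        rw [hE, val_eq_exp_neg_ord P hne0, exp_le_exp]
        split_ifs with hP
        · obtain ⟨a, ha'⟩ := even_ord_of_inv σ hσ2 hK hne h2 ((hmem P).mp hP) hne0 ha
          obtain ⟨d, hd'⟩ := hD.2 P ((hmem P).mp hP)
          obtain ⟨b, hb⟩ := odd_ord_of_anti σ hσ2 hK hne h2 ((hmem P).mp hP) hy hyσ
          omega
        · omega
    rw [← this, LinearEquiv.finrank_map_eq]
  have hS : Good σ (D ⊔ E) := by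
    refine ⟨fun P => ?_, fun P hP => ?_⟩
    · rw [Finsupp.sup_apply, Finsupp.sup_apply, hD.1, hEg.1]
    · rw [Finsupp.sup_apply]
      rcases max_choice (D P) (E P) with h | h <;> rw [h]
      exacts [hD.2 P hP, hEg.2 P hP]
  have j1 := jump_eq σ hσ2 hK hne h2 hD hS le_sup_left (by omega)
  have j2 := jump_eq σ hσ2 hK hne h2 hEg hS le_sup_right (by omega)
  have e1 := ell_eq_of_deg_ge hK (D := D) (by omega)
  rw [ell_eq_add σ hσ2 hK hne h2 hD, hmul] at e1
  push_cast at e1
  omega

/-- An involution fixing a coordinate of degree two has `2g + 2` fixed places. -/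
theorem ncard_fixedSet_of_coordinate {t : K} (ht : Transcendental k t) (hσt : σ t = t)
    (h2t : Module.finrank (IntermediateField.adjoin k ({t} : Set K)) K = 2) :
    (fixedSet σ).ncard = 2 * genus k K + 2 := by
  classical
  set r := (finite_fixedSet σ hσ2 hK hne h2).toFinset
  have hr : (↑r : Set _) = fixedSet σ := Set.Finite.coe_toFinset _
  rw [← hr, Set.ncard_coe_finset]
  have ht0 : t ≠ 0 := fun h => ht (h ▸ isAlgebraic_zero)
  set T : Divisor k K := zeroDiv k t⁻¹
  have hTd : T.deg = 2 := by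
    have := (hF).deg_poleDiv_eq ht
    rw [h2t] at this; exact this
  have hT : ∀ P, T P = max (-P.ord t) 0 := fun P => by
    rw [(hF).zeroDiv_apply, ord_inv]
  have hTg : Good σ T := by
    refine ⟨fun P => ?_, fun P hP => ?_⟩
    · rw [hT, hT]
      congr 2
      show -log (P.1 (σ t)) = -log (P.1 t)
      rw [hσt]
    · rw [hT]
      obtain ⟨a, ha⟩ := even_ord_of_inv σ hσ2 hK hne h2 hP ht0 hσt
      rcases max_choice (-P.ord t) 0 with h | h <;> rw [h]
      exacts [⟨-a, by omega⟩, ⟨0, rfl⟩]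
  obtain ⟨n, hn⟩ : ∃ n : ℕ, n = genus k K + r.card := ⟨_, rfl⟩
  have hng : ∀ m : ℕ, Good σ (m • T) := fun m =>
    ⟨fun P => by simp only [Finsupp.smul_apply, hTg.1],
      fun P hP => by simp only [Finsupp.smul_apply, nsmul_eq_mul]; exact (hTg.2 P hP).mul_left _⟩
  have hdeg : ∀ m : ℕ, (m • T : Divisor k K).deg = 2 * m := fun m => by
    rw [deg_nsmul, hTd]; ring
  have key := four_mul_finrank_inv σ hσ2 hK hne h2 (hng n) r hr (by rw [hdeg]; omega)
  rw [hdeg] at key
  have hpow : ∀ i : Fin (n + 1), t ^ (i : ℕ) ∈ L (n • T : Divisor k K) ⊓ eig σ 1 := fun i => by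
    refine ⟨fun P => ?_, mem_eig_one.mpr (by rw [map_pow, hσt])⟩
    rw [map_pow, val_eq_exp_neg_ord P ht0, ← exp_nsmul, exp_le_exp, Finsupp.smul_apply, hT]
    simp only [nsmul_eq_mul]
    have hi : (i : ℤ) ≤ n := by exact_mod_cast Nat.le_of_lt_succ i.2
    nlinarith [le_max_left (-P.ord t) 0, le_max_right (-P.ord t) 0]
  haveI := (hF).finiteDimensional_L (n • T : Divisor k K)
  haveI : FiniteDimensional k ↥(L (n • T : Divisor k K) ⊓ eig σ 1) := Submodule.finiteDimensional_of_le inf_le_left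
  have hli : LinearIndependent k fun i : Fin (n + 1) =>
      (⟨t ^ (i : ℕ), hpow i⟩ : ↥(L (n • T : Divisor k K) ⊓ eig σ 1)) := by
    refine LinearIndependent.of_comp (Submodule.subtype _) ?_
    have hp : LinearIndependent k fun i : ℕ => t ^ i := by
      have := (Polynomial.basisMonomials k).linearIndependent.map' (Polynomial.aeval (R := k) t).toLinearMap
        (LinearMap.ker_eq_bot.mpr (transcendental_iff_injective.mp ht))
      simpa [Function.comp_def] using this
    exact hp.comp _ Fin.val_injective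
  have lb := hli.fintype_card_le_finrank
  rw [Fintype.card_fin] at lb
  have h00 : Good σ (0 : Divisor k K) := ⟨fun _ => rfl, fun _ _ => ⟨0, rfl⟩⟩
  have ub := (jump σ hσ2 hK hne h2 h00 (hng n)
    (nsmul_nonneg (show (0 : Divisor k K) ≤ T from fun P => by rw [hT]; exact le_max_right _ _) n)).1
  have h01 : Module.finrank k ↥(L (0 : Divisor k K) ⊓ eig σ 1) ≤ 1 := by
    haveI := (hF).finiteDimensional_L (0 : Divisor k K)
    refine (Submodule.finrank_mono inf_le_left).trans ?_
    exact (ell_zero_eq hK).le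
  rw [hdeg, deg_zero] at ub
  omega

/-- An involution with `2g + 2` fixed places fixes a coordinate of degree two. -/
theorem exists_coordinate_of_ncard (hg : 0 < genus k K) (hc : (fixedSet σ).ncard = 2 * genus k K + 2) :
    ∃ t : K, Transcendental k t ∧ σ t = t ∧
      Module.finrank (IntermediateField.adjoin k ({t} : Set K)) K = 2 := by
  classical
  set r := (finite_fixedSet σ hσ2 hK hne h2).toFinset
  have hr : (↑r : Set _) = fixedSet σ := Set.Finite.coe_toFinset _
  rw [← hr, Set.ncard_coe_finset] at hc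
  obtain ⟨P, hP⟩ : r.Nonempty := Finset.card_pos.mp (by omega)
  have hPf : P ∈ fixedSet σ := by rw [← hr]; exact hP
  have hP1 := deg_eq_one_of_isAlgClosed hF P
  have hgood : ∀ m : ℕ, Good σ (Finsupp.single P (2 * m : ℤ)) := fun m => by
    refine ⟨fun Q => ?_, fun Q _ => ?_⟩
    · simp only [Finsupp.single_apply]
      refine if_congr ⟨fun e => ?_, fun e => ?_⟩ rfl rfl
      · rw [← comapPlace_comapPlace σ hσ2 Q, ← e]; exact hPf.symm
      · rw [← e]; exact hPf.symm
    · rw [Finsupp.single_apply]; split_ifs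
      exacts [⟨m, by ring⟩, ⟨0, rfl⟩]
  obtain ⟨n, hn⟩ : ∃ n : ℕ, n = genus k K + r.card + 1 := ⟨_, rfl⟩
  have key := four_mul_finrank_inv σ hσ2 hK hne h2 (hgood n) r hr
    (by rw [deg_single, hP1]; omega)
  have ub := (jump σ hσ2 hK hne h2 (hgood 1) (hgood n)
    (Finsupp.single_le_single.mpr (by omega))).1
  rw [deg_single, hP1] at key
  rw [deg_single, deg_single, hP1] at ub
  set V := L (Finsupp.single P (2 * ((1 : ℕ) : ℤ))) ⊓ eig σ (1 : k)
  have hV : 2 ≤ Module.finrank k V := by push_cast at *; omega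
  obtain ⟨x, hx, hxc⟩ : ∃ x ∈ V, x ∉ Set.range (algebraMap k K) := by
    by_contra! h
    have hle : V ≤ Submodule.span k {(1 : K)} := fun z hz => by
      obtain ⟨c, rfl⟩ := h z hz
      exact Submodule.mem_span_singleton.mpr ⟨c, by rw [Algebra.smul_def, mul_one]⟩
    have := Submodule.finrank_mono hle
    rw [finrank_span_singleton one_ne_zero] at this
    omega
  have hxt := transcendental_of_notMem hK hxc
  haveI := (hF).finiteDimensional hxt
  refine ⟨x, hxt, mem_eig_one.mp hx.2, ?_⟩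
  have h0 := (hF).deg_poleDiv_eq hxt
  have hle := deg_nonneg (sub_nonneg.mpr
    ((hF).deg_poleDiv_le_of_mem_L (Finsupp.single_nonneg.mpr (by norm_num)) hx.1))
  rw [deg_sub, h0, deg_single, hP1] at hle
  have hpos : 0 < Module.finrank (IntermediateField.adjoin k ({x} : Set K)) K := Module.finrank_pos
  have hne1 : Module.finrank (IntermediateField.adjoin k ({x} : Set K)) K ≠ 1 := fun h1 => by
    have := genus_eq_zero_of_rational hK (IntermediateField.finrank_eq_one_iff_eq_top.mp h1)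
    omega
  omega

end Groth.FunFld1.Involution
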