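import Groth.Agent.FunFld1.PlaneSpaces
import Mathlib.Algebra.MvPolynomial.NoZeroDivisors

/-!
The ideal of relations of a plane model is principal, generated by an equation of degree `deg`.
-/

set_option linter.unusedSectionVars false

namespace Groth.FunFld1

open FunFld
open scoped IntermediateField

section Reduction

variable {k R S : Type*} [Field k] [CommRing R] [Algebra k R] [CommRing S] [Algebra k S]

theorem ker_eq_span_of_reduction {ι : Type*} (η : R →ₐ[k] S) {F : R} (hF : η F = 0) {v : ι → R}
    (hli : LinearIndependent k (fun i => η (v i)))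
    (htop : Submodule.span k (Set.range v) ⊔ (Ideal.span {F}).restrictScalars k = ⊤) :
    RingHom.ker η = Ideal.span {F} := by
  refine le_antisymm (fun p hp => ?_) ((Ideal.span_singleton_le_iff_mem _).mpr hF)
  have hmem : p ∈ Submodule.span k (Set.range v) ⊔ (Ideal.span {F}).restrictScalars k := htop ▸ trivial
  obtain ⟨s, hs, g, hg, rfl⟩ := Submodule.mem_sup.mp hmem
  rw [Submodule.restrictScalars_mem] at hg
  obtain ⟨r, rfl⟩ := Ideal.mem_span_singleton'.mp hg
  rw [RingHom.mem_ker, map_add, map_mul, hF, mul_zero, add_zero] at hp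
  obtain ⟨cf, rfl⟩ := Finsupp.mem_span_range_iff_exists_finsupp.mp hs
  have h0 : cf = 0 := by
    refine linearIndependent_iff.mp hli cf ?_
    rw [← hp, Finsupp.linearCombination_apply, map_finsuppSum]
    exact Finsupp.sum_congr fun i _ => (map_smul η _ _).symm
  rw [h0, Finsupp.sum_zero_index, zero_add]
  exact hg

theorem eq_top_of_mul_closed {T : Set R} (hT : Algebra.adjoin k T = ⊤) {W : Submodule k R}
    (h1 : (1 : R) ∈ W) (hc : ∀ t ∈ T, ∀ s ∈ W, t * s ∈ W) : W = ⊤ := by
  rw [eq_top_iff]
  rintro p -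
  have hp : p ∈ Algebra.adjoin k T := hT ▸ Algebra.mem_top
  suffices h : ∀ s ∈ W, p * s ∈ W by simpa using h 1 h1
  induction hp using Algebra.adjoin_induction with
  | mem x hx => exact hc x hx
  | algebraMap r => intro s hs; rw [← Algebra.smul_def]; exact W.smul_mem r hs
  | add a b _ _ ha hb => intro s hs; rw [add_mul]; exact W.add_mem (ha s hs) (hb s hs)
  | mul a b _ _ ha hb => intro s hs; rw [mul_assoc]; exact ha _ (hb s hs)

/-- The homogenised equation evaluated at `w`, `u`, `v`. -/
noncomputable def planeEqn (d : ℕ) (cf : ℕ → ℕ → k) (w u v : R) : R :=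
  v ^ d + ∑ i ∈ Finset.range d, ∑ t ∈ Finset.range (d - i + 1),
    cf i t • (w ^ (d - i - t) * u ^ t * v ^ i)

theorem map_planeEqn (η : R →ₐ[k] S) (d : ℕ) (cf : ℕ → ℕ → k) (w u v : R) :
    η (planeEqn d cf w u v) = planeEqn d cf (η w) (η u) (η v) := by
  simp [planeEqn, map_sum]

theorem planeEqn_smul (d : ℕ) (cf : ℕ → ℕ → k) (z w u v : R) :
    planeEqn d cf (w * z) (u * z) (v * z) = planeEqn d cf w u v * z ^ d := by
  rw [planeEqn, planeEqn, add_mul, Finset.sum_mul, mul_pow]
  congr 1
  refine Finset.sum_congr rfl fun i hi => ?_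
  rw [Finset.sum_mul]
  refine Finset.sum_congr rfl fun t ht => ?_
  have hi' := Finset.mem_range.mp hi
  have ht' := Finset.mem_range.mp ht
  rw [smul_mul_assoc, show z ^ d = z ^ (d - i - t) * z ^ t * z ^ i by
    rw [← pow_add, ← pow_add]; congr 1; omega]
  congr 1
  ring

theorem span_sup_planeEqn_eq_top {d : ℕ} (hd : 0 < d) (cf : ℕ → ℕ → k) {w u v : R}
    (hgen : Algebra.adjoin k ({w, u, v} : Set R) = ⊤) {ι : Type*} {m : ι → R}
    (hm : ∀ e a b, b < d → w ^ e * u ^ a * v ^ b ∈ Submodule.span k (Set.range m))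
    (hm' : ∀ i, ∃ e a b, b < d ∧ m i = w ^ e * u ^ a * v ^ b) :
    Submodule.span k (Set.range m) ⊔ (Ideal.span {planeEqn d cf w u v}).restrictScalars k = ⊤ := by
  set F := planeEqn d cf w u v with hF
  set W := Submodule.span k (Set.range m) ⊔ (Ideal.span {F}).restrictScalars k with hW
  have hlow : ∀ e a b, b < d → w ^ e * u ^ a * v ^ b ∈ W := fun e a b hb =>
    Submodule.mem_sup_left (hm e a b hb)
  have hone : (1 : R) ∈ W := by simpa using hlow 0 0 0 hd
  refine eq_top_of_mul_closed hgen hone ?_
  intro x hx q hq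
  obtain ⟨s, hs, g, hg, rfl⟩ := Submodule.mem_sup.mp hq
  clear hq
  rw [mul_add]
  refine W.add_mem ?_ (Submodule.mem_sup_right (Ideal.mul_mem_left _ x hg))
  induction hs using Submodule.span_induction with
  | mem z hz =>
    obtain ⟨i, rfl⟩ := hz
    obtain ⟨e, a, b, hb, hi⟩ := hm' i
    rw [hi]
    rcases hx with rfl | rfl | rfl
    · rw [← mul_assoc, ← mul_assoc, ← pow_succ']
      exact hlow _ _ _ hb
    · rw [show x * (w ^ e * x ^ a * v ^ b) = w ^ e * x ^ (a + 1) * v ^ b by ring]
      exact hlow _ _ _ hb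
    · rw [show x * (w ^ e * u ^ a * x ^ b) = w ^ e * u ^ a * x ^ (b + 1) by ring]
      by_cases hb' : b + 1 < d
      · exact hlow _ _ _ hb'
      · rw [show b + 1 = d by omega, show w ^ e * u ^ a * x ^ d = w ^ e * u ^ a * F -
            w ^ e * u ^ a * ∑ i ∈ Finset.range d, ∑ t ∈ Finset.range (d - i + 1),
              cf i t • (w ^ (d - i - t) * u ^ t * x ^ i) by rw [hF, planeEqn]; ring]
        refine W.sub_mem (Submodule.mem_sup_right
          (Ideal.mul_mem_left _ _ (Ideal.mem_span_singleton_self F))) ?_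
        rw [Finset.mul_sum]
        refine W.sum_mem fun i hi => ?_
        rw [Finset.mul_sum]
        refine W.sum_mem fun t _ => ?_
        rw [mul_smul_comm, show w ^ e * u ^ a * (w ^ (d - i - t) * u ^ t * x ^ i) =
          w ^ (e + (d - i - t)) * u ^ (a + t) * x ^ i by ring]
        exact W.smul_mem _ (hlow _ _ _ (Finset.mem_range.mp hi))
  | zero => simp
  | add a b _ _ ha hb => rw [mul_add]; exact W.add_mem ha hb
  | smul r a _ ha => rw [mul_smul_comm]; exact W.smul_mem r ha

end Reduction

open MvPolynomial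

variable {k K : Type*} [Field k] [Field K] [Algebra k K] [IsAlgClosed k]

theorem exists_planeEqn (hK : IsFunctionField k K) {l y : K} (hl : Transcendental k l)
    (hgen : IntermediateField.adjoin k ({l, y} : Set K) = ⊤) (hy : y ∈ L (zeroDiv k l⁻¹)) :
    ∃ cf : ℕ → ℕ → k,
      planeEqn (Module.finrank (IntermediateField.adjoin k ({l} : Set K)) K) cf 1 l y = 0 := by
  obtain ⟨p, hp, heq⟩ := plane_equation hK hl hgen hy
  refine ⟨fun i t => (p i).coeff t, ?_⟩
  rw [← heq, planeEqn]
  congr 1
  refine Finset.sum_congr rfl fun i hi => ?_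
  rw [Polynomial.aeval_eq_sum_range' (Nat.lt_succ_of_le (hp i (Finset.mem_range.mp hi))),
    Finset.sum_mul]
  refine Finset.sum_congr rfl fun t _ => ?_
  rw [one_pow, one_mul, smul_mul_assoc]

/-- The affine ideal of a plane model. -/
theorem exists_ker_aeval_plane (hK : IsFunctionField k K) {x y : K}
    (hxy : IntermediateField.adjoin k ({x, y} : Set K) = ⊤) :
    ∃ G : MvPolynomial (Fin 2) k, Prime G ∧ (G.totalDegree : ℤ) = (mapDiv k ![(1 : K), x, y]).deg ∧
      RingHom.ker (aeval ![x, y] : MvPolynomial (Fin 2) k →ₐ[k] K) = Ideal.span {G} := by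
  obtain ⟨c, hl, hgen, hD, hy, -⟩ := exists_plane_coord hK hxy
  have hF := IsFF.of_isFunctionField hK
  rw [← hD, hF.deg_poleDiv_eq hl]
  have hd := deg₀_pos hK hl hgen hy
  have hli := plane_linearIndependent hK hl hgen
  obtain ⟨cf, hcf⟩ := exists_planeEqn hK hl hgen hy
  generalize Module.finrank (IntermediateField.adjoin k ({x + c • y} : Set K)) K = d at hd hli hcf
  set η : MvPolynomial (Fin 2) k →ₐ[k] K := aeval ![x, y] with hη
  set u : MvPolynomial (Fin 2) k := X 0 + c • X 1 with hu
  have hηu : η u = x + c • y := by simp [hη, hu]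
  have hη1 : η (X 1) = y := by simp [hη]
  set G := planeEqn d cf 1 u (X 1) with hG
  have hηG : η G = 0 := by rw [hG, map_planeEqn, map_one, hηu, hη1, hcf]
  have hgen2 : Algebra.adjoin k ({1, u, X 1} : Set (MvPolynomial (Fin 2) k)) = ⊤ := by
    refine eq_top_iff.mpr (adjoin_range_X.symm.le.trans (Algebra.adjoin_le ?_))
    rintro _ ⟨i, rfl⟩
    fin_cases i
    · show X 0 ∈ _
      rw [show (X 0 : MvPolynomial (Fin 2) k) = u - c • X 1 from (add_sub_cancel_right _ _).symm]
      exact sub_mem (Algebra.subset_adjoin (by simp))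
        (Subalgebra.smul_mem _ (Algebra.subset_adjoin (by simp)) c)
    · exact Algebra.subset_adjoin (by simp)
  have hker : RingHom.ker η = Ideal.span {G} := by
    refine ker_eq_span_of_reduction η hηG (v := fun p : ℕ × Fin d => u ^ p.1 * X 1 ^ (p.2 : ℕ)) ?_ ?_
    · simpa [hηu, hη1] using hli
    · refine span_sup_planeEqn_eq_top hd cf hgen2 (fun e a b hb => ?_) fun p => ⟨0, p.1, p.2, p.2.2, by simp⟩
      rw [one_pow, one_mul]
      exact Submodule.subset_span ⟨(a, ⟨b, hb⟩), rfl⟩
  have hdeg : G.totalDegree = d := by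
    refine le_antisymm ?_ ?_
    · rw [hG, planeEqn]
      refine (totalDegree_add _ _).trans (max_le (by simp) ?_)
      refine totalDegree_finsetSum_le fun i hi => totalDegree_finsetSum_le fun t ht => ?_
      refine (totalDegree_smul_le _ _).trans ((totalDegree_mul _ _).trans ?_)
      have hu1 : (u ^ t).totalDegree ≤ t := by
        refine (totalDegree_pow _ _).trans (mul_le_of_le_one_right' ?_)
        exact (totalDegree_add _ _).trans (max_le (by simp) ((totalDegree_smul_le _ _).trans (by simp)))
      have ht' := Finset.mem_range.mp ht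
      have hi' := Finset.mem_range.mp hi
      rw [one_pow, one_mul, totalDegree_X_pow]
      omega
    · have h := aeval_natDegree_le (n := 1) G (le_refl G.totalDegree)
        (f := ![-(Polynomial.C c * Polynomial.X), (Polynomial.X : Polynomial k)]) (fun i => by
          fin_cases i
          · simpa using (Polynomial.natDegree_C_mul_le c Polynomial.X).trans Polynomial.natDegree_X_le
          · simp)
      rw [mul_one, hG, map_planeEqn, map_one] at h
      have e : (aeval ![-(Polynomial.C c * Polynomial.X), (Polynomial.X : Polynomial k)]) u = 0 := by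
        simp [hu, Polynomial.smul_eq_C_mul]
      rw [e, show (aeval ![-(Polynomial.C c * Polynomial.X), (Polynomial.X : Polynomial k)])
        (X 1) = Polynomial.X by simp] at h
      refine le_trans ?_ h
      refine Polynomial.le_natDegree_of_ne_zero ?_
      simp only [planeEqn, Polynomial.coeff_add, Polynomial.finsetSum_coeff, Polynomial.coeff_X_pow_self]
      rw [Finset.sum_eq_zero fun i hi => Finset.sum_eq_zero fun t _ => ?_, add_zero]
      · exact one_ne_zero
      · rw [Polynomial.coeff_smul]
        rcases Nat.eq_zero_or_pos t with rfl | ht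
        · have : d ≠ i := (Finset.mem_range.mp hi).ne'
          simp [Polynomial.coeff_X_pow, this]
        · simp [zero_pow ht.ne']
  have hG0 : G ≠ 0 := by
    intro h
    rw [h, totalDegree_zero] at hdeg
    omega
  refine ⟨G, ?_, by exact_mod_cast hdeg, hker⟩
  have := RingHom.ker_isPrime η
  rwa [hker, Ideal.span_singleton_prime hG0] at this

theorem deg_mapDiv_plane (hK : IsFunctionField k K) {x y : K}
    (hxy : IntermediateField.adjoin k ({x, y} : Set K) = ⊤) {f : MvPolynomial (Fin 2) k}
    (hf : Irreducible f) (hfxy : aeval ![x, y] f = 0) :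
    (mapDiv k ![(1 : K), x, y]).deg = f.totalDegree := by
  obtain ⟨G, hG, hdeg, hker⟩ := exists_ker_aeval_plane hK hxy
  have hmem : f ∈ RingHom.ker (aeval ![x, y] : MvPolynomial (Fin 2) k →ₐ[k] K) := hfxy
  rw [hker, Ideal.mem_span_singleton] at hmem
  obtain ⟨u, rfl⟩ := hG.irreducible.associated_of_dvd hf hmem
  have hu : (u : MvPolynomial (Fin 2) k).totalDegree = 0 := by
    have h := totalDegree_mul_of_isDomain u.ne_zero u⁻¹.ne_zero
    rw [u.mul_inv, totalDegree_one] at h
    omega
  rw [← hdeg, totalDegree_mul_of_isDomain hG.ne_zero u.ne_zero, hu, add_zero]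

/-- The homogeneous ideal of a plane model. -/
theorem exists_ker_plane_relations (hK : IsFunctionField k K) {x y : K}
    (hxy : IntermediateField.adjoin k ({x, y} : Set K) = ⊤) :
    ∃ F : MvPolynomial (Fin 3) k, Irreducible F ∧ F.IsHomogeneous F.totalDegree ∧
      RingHom.ker (aeval fun i => Polynomial.C (![(1 : K), x, y] i) * Polynomial.X) = Ideal.span {F} := by
  obtain ⟨c, hl, hgen, -, hy, -⟩ := exists_plane_coord hK hxy
  have hd := deg₀_pos hK hl hgen hy
  have hli := plane_linearIndependent hK hl hgen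
  obtain ⟨cf, hcf⟩ := exists_planeEqn hK hl hgen hy
  generalize Module.finrank (IntermediateField.adjoin k ({x + c • y} : Set K)) K = d at hd hli hcf
  set η : MvPolynomial (Fin 3) k →ₐ[k] Polynomial K :=
    aeval fun i => Polynomial.C (![(1 : K), x, y] i) * Polynomial.X with hη
  set u : MvPolynomial (Fin 3) k := X 1 + c • X 2 with hu
  have hη0 : η (X 0) = Polynomial.C 1 * Polynomial.X := by simp [hη]
  have hηu : η u = Polynomial.C (x + c • y) * Polynomial.X := by
    simp [hη, hu, add_mul, Polynomial.smul_C, ← smul_mul_assoc]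
  have hη2 : η (X 2) = Polynomial.C y * Polynomial.X := by simp [hη]
  set F := planeEqn d cf (X 0) u (X 2) with hF
  have hηF : η F = 0 := by
    rw [hF, map_planeEqn, hη0, hηu, hη2, planeEqn_smul]
    have e := map_planeEqn (Polynomial.CAlgHom : K →ₐ[k] Polynomial K) d cf 1 (x + c • y) y
    rw [hcf, map_zero] at e
    exact mul_eq_zero_of_left e.symm _
  have hgen3 : Algebra.adjoin k ({X 0, u, X 2} : Set (MvPolynomial (Fin 3) k)) = ⊤ := by
    refine eq_top_iff.mpr (adjoin_range_X.symm.le.trans (Algebra.adjoin_le ?_))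
    rintro _ ⟨i, rfl⟩
    fin_cases i
    · exact Algebra.subset_adjoin (by simp)
    · show X 1 ∈ _
      rw [show (X 1 : MvPolynomial (Fin 3) k) = u - c • X 2 from (add_sub_cancel_right _ _).symm]
      exact sub_mem (Algebra.subset_adjoin (by simp))
        (Subalgebra.smul_mem _ (Algebra.subset_adjoin (by simp)) c)
    · exact Algebra.subset_adjoin (by simp)
  have hker : RingHom.ker η = Ideal.span {F} := by
    refine ker_eq_span_of_reduction η hηF
      (v := fun p : ℕ × ℕ × Fin d => X 0 ^ p.1 * u ^ p.2.1 * X 2 ^ (p.2.2 : ℕ)) ?_ ?_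
    · have hT : LinearIndependent K (fun n : ℕ => (Polynomial.X : Polynomial K) ^ n) := by
        have := (Polynomial.basisMonomials K).linearIndependent
        simpa [Polynomial.coe_basisMonomials, Polynomial.monomial_one_right_eq_X_pow] using this
      have h2 := (linearIndependent_smul hli hT).comp
        (fun p : ℕ × ℕ × Fin d => ((p.2.1, p.2.2), p.1 + p.2.1 + p.2.2)) (by
          rintro ⟨a, b, i⟩ ⟨a', b', i'⟩ h
          simp only [Prod.mk.injEq] at h
          obtain ⟨⟨rfl, rfl⟩, h⟩ := h
          exact Prod.ext (by omega) rfl)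
      have e : (fun p : ℕ × ℕ × Fin d => η (X 0 ^ p.1 * u ^ p.2.1 * X 2 ^ (p.2.2 : ℕ))) =
          ((fun p : (ℕ × Fin d) × ℕ =>
            ((x + c • y) ^ p.1.1 * y ^ (p.1.2 : ℕ)) • (Polynomial.X : Polynomial K) ^ p.2) ∘
            fun p : ℕ × ℕ × Fin d => ((p.2.1, p.2.2), p.1 + p.2.1 + p.2.2)) := by
        ext1 p
        simp only [Function.comp, map_mul, map_pow, hη0, hηu, hη2, Polynomial.smul_eq_C_mul,
          map_one, one_mul, mul_pow, pow_add]
        ring
      rw [e]
      exact h2
    · exact span_sup_planeEqn_eq_top hd cf hgen3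
        (fun e a b hb => Submodule.subset_span ⟨(e, a, ⟨b, hb⟩), rfl⟩)
        fun p => ⟨p.1, p.2.1, p.2.2, p.2.2.2, rfl⟩
  have hF0 : F ≠ 0 := by
    intro h
    have e := congrArg (aeval ![(0 : k), -c, 1]) h
    rw [hF, map_planeEqn, map_zero, show aeval ![(0 : k), -c, 1] (X 0) = (0 : k) by simp,
      show aeval ![(0 : k), -c, 1] u = (0 : k) by simp [hu],
      show aeval ![(0 : k), -c, 1] (X 2) = (1 : k) by simp, planeEqn,
      Finset.sum_eq_zero fun i hi => Finset.sum_eq_zero fun t ht => ?_] at e
    · simp at e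
    · have := Finset.mem_range.mp hi
      rcases Nat.eq_zero_or_pos t with rfl | ht'
      · simp [show d - i ≠ 0 by omega]
      · simp [zero_pow ht'.ne']
  have hhom : F.IsHomogeneous d := by
    rw [← mem_homogeneousSubmodule, hF, planeEqn]
    have hu1 : u.IsHomogeneous 1 := by
      rw [← mem_homogeneousSubmodule, hu]
      exact add_mem (isHomogeneous_X k 1) (Submodule.smul_mem _ c (isHomogeneous_X k 2))
    refine add_mem ?_ (sum_mem fun i hi => sum_mem fun t ht => Submodule.smul_mem _ _ ?_)
    · rw [mem_homogeneousSubmodule]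
      simpa using (isHomogeneous_X k (2 : Fin 3)).pow d
    · rw [mem_homogeneousSubmodule]
      have h := (((isHomogeneous_X k (0 : Fin 3)).pow (d - i - t)).mul (hu1.pow t)).mul
        ((isHomogeneous_X k (2 : Fin 3)).pow i)
      have hi' := Finset.mem_range.mp hi
      have ht' := Finset.mem_range.mp ht
      rwa [show 1 * (d - i - t) + 1 * t + 1 * i = d by omega] at h
  have hp : Prime F := by
    have := RingHom.ker_isPrime η
    rwa [hker, Ideal.span_singleton_prime hF0] at this
  exact ⟨F, hp.irreducible, (hhom.totalDegree hF0).symm ▸ hhom, hker⟩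

end Groth.FunFld1
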