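import Groth.Agent.FunFld1.Nonsingular
import Groth.Agent.FunFld1.Rational
import Groth.Agent.FunFld1.PlaneKernel
import Mathlib.RingTheory.MvPolynomial.EulerIdentity
import Mathlib.LinearAlgebra.Matrix.Adjugate
import Mathlib.LinearAlgebra.Matrix.Rank

/-!
The Jacobian criterion for nonsingularity of a projective map at a place of degree one.
-/

set_option linter.style.haveILetI false
set_option linter.unusedSectionVars false

open FunFld WithZero MvPolynomial

namespace Groth.FunFld1

variable {k K ι : Type*} [Field k] [Field K] [Algebra k K]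

/-- The gradient of `p` at `c`. -/
noncomputable def grad (c : ι → k) (p : MvPolynomial ι k) : ι → k := fun l => eval c (pderiv l p)

variable [Fintype ι]

/-- Second order Taylor expansion at `c`. -/
theorem exists_taylor (c : ι → k) (p : MvPolynomial ι k) :
    ∃ r : ι → ι → MvPolynomial ι k, p = C (eval c p) + (∑ l, C (grad c p l) * (X l - C (c l))) +
      ∑ l, ∑ m, (X l - C (c l)) * (X m - C (c m)) * r l m := by
  classical
  induction p using MvPolynomial.induction_on with
  | C a =>
    refine ⟨0, ?_⟩
    simp [grad]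
  | add p q hp hq =>
    obtain ⟨r, hr⟩ := hp
    obtain ⟨s, hs⟩ := hq
    refine ⟨r + s, ?_⟩
    conv_lhs => rw [hr, hs]
    simp only [grad, map_add, Pi.add_apply, add_mul, mul_add, Finset.sum_add_distrib]
    abel
  | mul_X p n hp =>
    obtain ⟨r, hr⟩ := hp
    refine ⟨fun l m => r l m * X n + if m = n then C (grad c p l) else 0, ?_⟩
    have hg : ∀ l, grad c (p * X n) l = grad c p l * c n + eval c p * (if l = n then 1 else 0) := by
      intro l
      unfold grad
      rw [Derivation.leibniz, pderiv_X]
      rcases eq_or_ne l n with e | e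
      · subst e; simp; ring
      · simp [Pi.single_apply, e, Ne.symm e, mul_comm]
    have e1 : ∑ l, C (grad c (p * X n) l) * (X l - C (c l)) =
        (∑ l, C (grad c p l) * (X l - C (c l))) * C (c n) + C (eval c p) * (X n - C (c n)) := by
      simp only [hg, map_add, map_mul, add_mul, Finset.sum_add_distrib, apply_ite C, map_one, map_zero,
        mul_ite, mul_one, mul_zero, ite_mul, zero_mul, Finset.sum_ite_eq', Finset.mem_univ, if_true,
        Finset.sum_mul]
      congr 1
      exact Finset.sum_congr rfl fun l _ => by ring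
    have e2 : ∑ l, ∑ m, (X l - C (c l)) * (X m - C (c m)) * (r l m * X n + if m = n then C (grad c p l) else 0) =
        (∑ l, ∑ m, (X l - C (c l)) * (X m - C (c m)) * r l m) * X n +
          (∑ l, C (grad c p l) * (X l - C (c l))) * (X n - C (c n)) := by
      simp only [mul_add, Finset.sum_add_distrib, mul_ite, mul_zero, Finset.sum_ite_eq', Finset.mem_univ,
        if_true, Finset.sum_mul]
      congr 1
      · exact Finset.sum_congr rfl fun l _ => Finset.sum_congr rfl fun m _ => by ring
      · exact Finset.sum_congr rfl fun l _ => by ring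
    rw [e1, e2, map_mul, eval_X, map_mul]
    conv_lhs => rw [hr]
    ring

variable {y : ι → K} {c : ι → k} {P : Place k K}

theorem aeval_taylor (c : ι → k) (y : ι → K) (p : MvPolynomial ι k) :
    ∃ r : ι → ι → K, (∀ l m, r l m ∈ Algebra.adjoin k (Set.range y)) ∧
      aeval y p = algebraMap k K (eval c p) +
        (∑ l, algebraMap k K (grad c p l) * (y l - algebraMap k K (c l))) +
        ∑ l, ∑ m, (y l - algebraMap k K (c l)) * (y m - algebraMap k K (c m)) * r l m := by
  obtain ⟨r, hr⟩ := exists_taylor c p
  refine ⟨fun l m => aeval y (r l m), fun l m => ?_, ?_⟩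
  · rw [Algebra.adjoin_range_eq_range_aeval]
    exact ⟨r l m, rfl⟩
  · conv_lhs => rw [hr]
    simp only [map_add, map_sum, map_mul, map_sub, aeval_X, aeval_C]

variable (hc : ∀ l, P.1 (y l - algebraMap k K (c l)) < 1)
include hc

theorem le_one_of_congr (l : ι) : P.1 (y l) ≤ 1 := by
  rw [show y l = (y l - algebraMap k K (c l)) + algebraMap k K (c l) by ring]
  exact Valuation.map_add_le _ (hc l).le (P.2.1 _)

theorem mem_adjoin_le_one {x : K} (hx : x ∈ Algebra.adjoin k (Set.range y)) : P.1 x ≤ 1 :=
  IsAffine.le_one (fun l => le_one_of_congr hc l) hx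

theorem delta_mem (l : ι) : y l - algebraMap k K (c l) ∈ Algebra.adjoin k (Set.range y) :=
  sub_mem (Algebra.subset_adjoin ⟨l, rfl⟩) (Subalgebra.algebraMap_mem _ _)

theorem val_quad_le (r : ι → ι → K) (hr : ∀ l m, r l m ∈ Algebra.adjoin k (Set.range y)) :
    P.1 (∑ l, ∑ m, (y l - algebraMap k K (c l)) * (y m - algebraMap k K (c m)) * r l m) ≤ exp (-2) := by
  refine Valuation.map_sum_le _ fun l _ => Valuation.map_sum_le _ fun m _ => ?_
  rw [map_mul, map_mul]
  refine (mul_le_of_le_one_right' (mem_adjoin_le_one hc (hr l m))).trans ?_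
  refine (mul_le_mul' (lt_one_iff_le_exp_neg_one.mp (hc l)) (lt_one_iff_le_exp_neg_one.mp (hc m))).trans ?_
  rw [← exp_add]
  norm_num

/-- Relations vanish at `c`. -/
theorem eval_eq_zero_of_lt {p : MvPolynomial ι k} (hp : P.1 (aeval y p) < 1) : eval c p = 0 := by
  by_contra hne
  obtain ⟨r, hr, he⟩ := aeval_taylor c y p
  have h1 : P.1 (algebraMap k K (eval c p)) = 1 := val_algebraMap P hne
  have h2 : algebraMap k K (eval c p) = aeval y p -
      ((∑ l, algebraMap k K (grad c p l) * (y l - algebraMap k K (c l))) +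
        ∑ l, ∑ m, (y l - algebraMap k K (c l)) * (y m - algebraMap k K (c m)) * r l m) := by
    rw [he]; ring
  have h3 : P.1 (algebraMap k K (eval c p)) ≤ exp (-1) := by
    rw [h2]
    refine Valuation.map_sub_le _ (lt_one_iff_le_exp_neg_one.mp hp) (Valuation.map_add_le _
      (Valuation.map_sum_le _ fun l _ => ?_) ((val_quad_le hc r hr).trans (exp_le_exp.mpr (by omega))))
    rw [map_mul]
    exact (mul_le_of_le_one_left' (P.2.1 _)).trans (lt_one_iff_le_exp_neg_one.mp (hc l))
  rw [h1] at h3
  exact absurd h3 (not_le.mpr (exp_lt_one.mpr (by omega)))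

/-- A relation is linear in the coordinates up to order two. -/
theorem val_grad_le {p : MvPolynomial ι k} (hp : aeval y p = 0) :
    P.1 (∑ l, algebraMap k K (grad c p l) * (y l - algebraMap k K (c l))) ≤ exp (-2) := by
  obtain ⟨r, hr, he⟩ := aeval_taylor c y p
  rw [hp, eval_eq_zero_of_lt hc (p := p) (by rw [hp, map_zero]; exact zero_lt_one), map_zero, zero_add] at he
  rw [eq_neg_of_add_eq_zero_left he.symm, Valuation.map_neg]
  exact val_quad_le hc r hr

/-- From a principal maximal ideal to the whole valuation ring. -/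
theorem frac_of_principal (hgen : IntermediateField.adjoin k (Set.range y) = ⊤) {u D : K}
    (hu : P.1 u < 1) (huA : u ∈ Algebra.adjoin k (Set.range y))
    (hD : D ∈ Algebra.adjoin k (Set.range y)) (hD1 : P.1 D = 1)
    (hprinc : ∀ x ∈ Algebra.adjoin k (Set.range y), P.1 x < 1 →
      ∃ a ∈ Algebra.adjoin k (Set.range y), x * D = u * a)
    {z : K} (hz : P.1 z ≤ 1) :
    ∃ a ∈ Algebra.adjoin k (Set.range y), ∃ w ∈ Algebra.adjoin k (Set.range y),
      P.1 w = 1 ∧ z * w = a := by
  set A := Algebra.adjoin k (Set.range y)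
  have key : ∀ (N : ℕ) (x : K), x ∈ A → x ≠ 0 → P.ord x ≤ N →
      ∃ (m : ℕ) (a w : K), a ∈ A ∧ w ∈ A ∧ P.1 a = 1 ∧ P.1 w = 1 ∧ x * w = u ^ m * a := by
    intro N
    induction N with
    | zero =>
      intro x hx hx0 hN
      refine ⟨0, x, 1, hx, one_mem _, ?_, map_one _, by simp⟩
      refine le_antisymm (mem_adjoin_le_one hc hx) ?_
      rw [val_eq_exp_neg_ord P hx0, ← exp_zero, exp_le_exp]
      push_cast at hN; omega
    | succ N ih =>
      intro x hx hx0 hN
      rcases (mem_adjoin_le_one hc hx).eq_or_lt with h1 | h1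
      · exact ⟨0, x, 1, hx, one_mem _, h1, map_one _, by simp⟩
      obtain ⟨a, ha, hxa⟩ := hprinc x hx h1
      have hD0 : D ≠ 0 := fun e => by simp [e] at hD1
      have ha0 : a ≠ 0 := fun e => mul_ne_zero hx0 hD0 (by rw [hxa, e, mul_zero])
      have hu0 : u ≠ 0 := fun e => mul_ne_zero hx0 hD0 (by rw [hxa, e, zero_mul])
      have hord : P.ord a ≤ N := by
        have h2 := congrArg P.ord hxa
        rw [ord_mul P hx0 hD0, ord_mul P hu0 ha0, (val_eq_one_iff P hD0).mp hD1] at h2
        have := (val_lt_one_iff P hu0).mp hu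
        push_cast at hN; omega
      obtain ⟨m, b, w, hb, hw, hb1, hw1, hbw⟩ := ih a ha ha0 hord
      refine ⟨m + 1, b, D * w, hb, mul_mem hD hw, hb1, by rw [map_mul, hD1, hw1, one_mul], ?_⟩
      rw [← mul_assoc, hxa, mul_assoc, hbw, pow_succ']
      ring
  have hy : z ∈ IntermediateField.adjoin k (Set.range y) := hgen ▸ IntermediateField.mem_top
  obtain ⟨x, hx, x', hx', rfl⟩ := IntermediateField.mem_adjoin_iff_div.mp hy
  by_cases h0 : x = 0
  · exact ⟨0, zero_mem _, 1, one_mem _, map_one _, by simp [h0]⟩
  by_cases h0' : x' = 0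
  · exact ⟨0, zero_mem _, 1, one_mem _, map_one _, by simp [h0']⟩
  obtain ⟨m, a, w, ha, hw, ha1, hw1, hxw⟩ := key (P.ord x).toNat x hx h0 (by omega)
  obtain ⟨m', a', w', ha', hw', ha'1, hw'1, hxw'⟩ := key (P.ord x').toNat x' hx' h0' (by omega)
  have hu0 : m' ≤ m := by
    have hxv : P.1 x = P.1 u ^ m := by
      have := congrArg P.1 hxw
      rwa [map_mul, map_mul, map_pow, hw1, ha1, mul_one, mul_one] at this
    have hxv' : P.1 x' = P.1 u ^ m' := by
      have := congrArg P.1 hxw'
      rwa [map_mul, map_mul, map_pow, hw'1, ha'1, mul_one, mul_one] at this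
    by_contra hlt
    rw [map_div₀, div_le_one₀ (zero_lt_iff.mpr (by simpa using h0')), hxv, hxv'] at hz
    have hpos : 0 < P.1 u ^ m := by rw [← hxv]; exact zero_lt_iff.mpr (by simpa using h0)
    obtain ⟨d, hd⟩ := Nat.exists_eq_add_of_lt (not_le.mp hlt)
    rw [hd, add_assoc, pow_add] at hz
    have : P.1 u ^ m * P.1 u ^ (d + 1) < P.1 u ^ m * 1 :=
      mul_lt_mul_of_pos_left (pow_lt_one₀ zero_le hu (by omega)) hpos
    rw [mul_one] at this
    exact absurd this (not_lt.mpr hz)
  refine ⟨u ^ (m - m') * a * w', mul_mem (mul_mem (pow_mem huA _) ha) hw', w * a', mul_mem hw ha',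
    by rw [map_mul, hw1, ha'1, one_mul], ?_⟩
  rw [div_mul_eq_mul_div, div_eq_iff h0',
    show u ^ (m - m') * a * w' * x' = u ^ (m - m') * a * (x' * w') by ring, hxw', ← mul_assoc x, hxw,
    show u ^ (m - m') * a * (u ^ m' * a') = u ^ (m - m') * u ^ m' * a * a' by ring, ← pow_add,
    Nat.sub_add_cancel hu0]

/-- The Jacobian criterion, affine form. -/
theorem jacobian_iff (hgen : IntermediateField.adjoin k (Set.range y) = ⊤) (hd : P.deg = 1)
    {κ : Type*} (g : κ → MvPolynomial ι k)
    (hker : RingHom.ker (aeval y : MvPolynomial ι k →ₐ[k] K) = Ideal.span (Set.range g)) :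
    (∀ z : K, P.1 z ≤ 1 → ∃ a ∈ Algebra.adjoin k (Set.range y),
        ∃ w ∈ Algebra.adjoin k (Set.range y), P.1 w = 1 ∧ z * w = a) ↔
      Module.finrank k (Submodule.span k (Set.range fun i => grad c (g i))) + 1 = Fintype.card ι := by
  classical
  set A := Algebra.adjoin k (Set.range y)
  set W := Submodule.span k (Set.range fun i => grad c (g i))
  set δ := fun l => y l - algebraMap k K (c l) with hδ
  have hg0 : ∀ i, aeval y (g i) = 0 := fun i => by
    rw [← RingHom.mem_ker, hker]
    exact Ideal.subset_span ⟨i, rfl⟩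
  have hA : A = (aeval y : MvPolynomial ι k →ₐ[k] K).range := Algebra.adjoin_range_eq_range_aeval k y
  have hrep : ∀ x ∈ A, ∃ (e : k) (r : ι → K), (∀ l, r l ∈ A) ∧
      x = algebraMap k K e + ∑ l, δ l * r l := by
    intro x hx
    rw [hA] at hx
    obtain ⟨p, rfl⟩ := hx
    obtain ⟨r, hr, he⟩ := aeval_taylor c y p
    refine ⟨eval c p, fun l => algebraMap k K (grad c p l) + ∑ m, δ m * r l m,
      fun l => add_mem (Subalgebra.algebraMap_mem _ _) (sum_mem fun m _ => mul_mem (delta_mem hc m) (hr l m)), ?_⟩
    refine he.trans ?_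
    simp only [hδ, mul_add, Finset.sum_add_distrib, Finset.mul_sum, ← add_assoc]
    congr 1
    · congr 1
      exact Finset.sum_congr rfl fun l _ => by ring
    · exact Finset.sum_congr rfl fun l _ => Finset.sum_congr rfl fun m _ => by ring
  constructor
  · intro hns
    -- some coordinate is a parameter
    obtain ⟨t, ht⟩ := exists_val_eq_exp P (-1)
    obtain ⟨a, ha, w, hw, hw1, htw⟩ := hns t (ht.trans_le (exp_le_one.mpr (by omega)))
    have haP : P.1 a = exp (-1) := by rw [← htw, map_mul, hw1, mul_one, ht]
    obtain ⟨e, r, hr, hae⟩ := hrep a ha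
    obtain ⟨u, hu⟩ : ∃ u, P.1 (δ u) = exp (-1) := by
      by_contra! hne
      have hle : ∀ l, P.1 (δ l) ≤ exp (-2) := by
        intro l
        rcases eq_or_ne (δ l) 0 with h0 | h0
        · simp [h0]
        · have h1 := lt_one_iff_le_exp_neg_one.mp (hc l)
          have h2 := hne l
          rw [val_eq_exp_neg_ord P h0, Ne, exp_injective.eq_iff] at h2
          rw [show y l - algebraMap k K (c l) = δ l from rfl, val_eq_exp_neg_ord P h0, exp_le_exp] at h1
          rw [val_eq_exp_neg_ord P h0, exp_le_exp]
          omega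
      have hsum : P.1 (∑ l, δ l * r l) ≤ exp (-2) := Valuation.map_sum_le _ fun l _ => by
        rw [map_mul]; exact (mul_le_of_le_one_right' (mem_adjoin_le_one hc (hr l))).trans (hle l)
      have he0 : e = 0 := by
        by_contra he0
        have : P.1 a = 1 := by
          rw [hae, Valuation.map_add_eq_of_lt_left, val_algebraMap P he0]
          rw [val_algebraMap P he0]
          exact hsum.trans_lt (exp_lt_one.mpr (by omega))
        rw [haP, exp_eq_one] at this
        omega
      rw [he0, map_zero, zero_add] at hae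
      rw [← hae, haP, exp_le_exp] at hsum
      omega
    have hu0 : δ u ≠ 0 := ne_zero_of_val_eq hu
    -- the line `e_u` complements `W`
    have hcompl : ∀ l, ∃ β : k, Pi.single l 1 - β • Pi.single u (1 : k) ∈ W := by
      intro l
      have hq : P.1 (δ l / δ u) ≤ 1 := by
        rw [map_div₀, hu, div_le_one₀ exp_pos]
        exact lt_one_iff_le_exp_neg_one.mp (hc l)
      obtain ⟨a', ha', w', hw', hw'1, he'⟩ := hns _ hq
      rw [hA] at ha' hw'
      obtain ⟨Aq, rfl⟩ := ha'
      obtain ⟨Wq, rfl⟩ := hw'
      change P.1 (aeval y Wq) = 1 at hw'1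
      change δ l / δ u * aeval y Wq = aeval y Aq at he'
      have hrel : (X l - C (c l)) * Wq - (X u - C (c u)) * Aq ∈ Ideal.span (Set.range g) := by
        rw [← hker, RingHom.mem_ker, map_sub, map_mul, map_mul, map_sub, map_sub, aeval_X, aeval_X, aeval_C,
          aeval_C, ← he']
        show δ l * aeval y Wq - δ u * (δ l / δ u * aeval y Wq) = 0
        field_simp
        ring
      have hW0 : eval c Wq ≠ 0 := by
        intro h0
        obtain ⟨r', hr', he''⟩ := aeval_taylor c y Wq
        rw [h0, map_zero, zero_add] at he''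
        have : P.1 (aeval y Wq) ≤ exp (-1) := by
          rw [he'']
          refine Valuation.map_add_le _ (Valuation.map_sum_le _ fun m _ => ?_)
            ((val_quad_le hc r' hr').trans (exp_le_exp.mpr (by omega)))
          rw [map_mul]
          exact (mul_le_of_le_one_left' (P.2.1 _)).trans (lt_one_iff_le_exp_neg_one.mp (hc m))
        rw [hw'1] at this
        exact absurd this (not_le.mpr (exp_lt_one.mpr (by omega)))
      have hgW : ∀ p ∈ Ideal.span (Set.range g), eval c p = 0 ∧ grad c p ∈ W := by
        intro p hp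
        induction hp using Submodule.span_induction with
        | mem q hq =>
          obtain ⟨i, rfl⟩ := hq
          exact ⟨eval_eq_zero_of_lt hc (by rw [hg0 i, map_zero]; exact zero_lt_one), Submodule.subset_span ⟨i, rfl⟩⟩
        | zero => exact ⟨map_zero _, by convert W.zero_mem using 1; funext l; simp [grad]⟩
        | add p q _ _ hp hq =>
          refine ⟨by rw [map_add, hp.1, hq.1, add_zero], ?_⟩
          convert W.add_mem hp.2 hq.2 using 1
          funext l; simp [grad]
        | smul a p _ hp =>
          refine ⟨by rw [smul_eq_mul, map_mul, hp.1, mul_zero], ?_⟩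
          convert W.smul_mem (eval c a) hp.2 using 1
          funext l; simp [grad, Derivation.leibniz, hp.1]
      have hmem := (hgW _ hrel).2
      refine ⟨(eval c Aq) / eval c Wq, ?_⟩
      convert W.smul_mem (eval c Wq)⁻¹ hmem using 1
      funext m
      simp only [grad, map_sub, map_add, Derivation.leibniz, pderiv_C, pderiv_X, smul_eq_mul, map_mul, eval_X, eval_C,
        Pi.sub_apply, Pi.smul_apply, sub_zero, sub_self, zero_mul, zero_add, mul_zero]
      rcases eq_or_ne l m with e1 | e1 <;> rcases eq_or_ne u m with e2 | e2 <;>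
        simp [Pi.single_apply, e1, e2, Ne.symm, hW0] <;> field_simp
    have hge : Fintype.card ι ≤ Module.finrank k W + 1 := by
      have htop : W ⊔ Submodule.span k {Pi.single u (1 : k)} = ⊤ := by
        refine top_le_iff.mp ((Pi.basisFun k ι).span_eq.ge.trans (Submodule.span_le.mpr ?_))
        rintro _ ⟨l, rfl⟩
        obtain ⟨β, hβ⟩ := hcompl l
        rw [Pi.basisFun_apply, SetLike.mem_coe,
          show (Pi.single l 1 : ι → k) = (Pi.single l 1 - β • Pi.single u 1) + β • Pi.single u 1 by abel]
        exact Submodule.add_mem_sup hβ (Submodule.smul_mem _ _ (Submodule.mem_span_singleton_self _))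
      have h := Submodule.finrank_sup_add_finrank_inf_eq W (Submodule.span k {Pi.single u (1 : k)})
      rw [htop, finrank_top, Module.finrank_fintype_fun_eq_card,
        finrank_span_singleton (by simp : (Pi.single u 1 : ι → k) ≠ 0)] at h
      omega
    -- the tangent direction kills `W`
    choose τ hτ using fun l => exists_const_sub_lt_one hd (x := δ l / δ u) (by
      rw [map_div₀, hu, div_le_one₀ exp_pos]; exact lt_one_iff_le_exp_neg_one.mp (hc l))
    let T : (ι → k) →ₗ[k] k := ∑ l, τ l • LinearMap.proj l
    have hT : ∀ w : ι → k, T w = ∑ l, τ l * w l := fun w => by simp [T]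
    have hWT : W ≤ LinearMap.ker T := by
      rw [Submodule.span_le]
      rintro _ ⟨i, rfl⟩
      rw [SetLike.mem_coe, LinearMap.mem_ker, hT]
      by_contra hne
      have h1 : P.1 ((∑ l, algebraMap k K (grad c (g i) l) * δ l) / δ u) < 1 := by
        rw [map_div₀, hu, div_lt_iff₀ exp_pos, one_mul]
        exact (val_grad_le hc (hg0 i)).trans_lt (exp_lt_exp.mpr (by omega))
      have h2 : P.1 ((∑ l, algebraMap k K (grad c (g i) l) * δ l) / δ u -
          algebraMap k K (∑ l, τ l * grad c (g i) l)) < 1 := by
        rw [map_sum, Finset.sum_div, ← Finset.sum_sub_distrib]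
        refine Valuation.map_sum_lt _ one_ne_zero fun l _ => ?_
        rw [map_mul, mul_div_assoc, mul_comm (algebraMap k K (τ l)), ← mul_sub, map_mul]
        exact (mul_le_of_le_one_left' (P.2.1 _)).trans_lt (hτ l)
      have h3 := (Valuation.map_sub P.1 _ _).trans_lt (max_lt h1 h2)
      rw [sub_sub_cancel, val_algebraMap P hne] at h3
      exact lt_irrefl 1 h3
    have hTu : T (Pi.single u 1) ≠ 0 := by
      rw [hT, Finset.sum_eq_single u (fun l _ hl => by simp [hl]) (by simp)]
      simp only [Pi.single_eq_same, mul_one]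
      intro h0
      have := hτ u
      rw [div_self hu0, h0, map_zero, sub_zero, map_one] at this
      exact lt_irrefl 1 this
    have hle : Module.finrank k W + 1 ≤ Fintype.card ι := by
      have hlt : Module.finrank k (LinearMap.ker T) < Module.finrank k (ι → k) :=
        Submodule.finrank_lt (fun e => hTu (LinearMap.mem_ker.mp (e ▸ Submodule.mem_top)))
      rw [Module.finrank_fintype_fun_eq_card] at hlt
      have := Submodule.finrank_mono hWT
      omega
    omega
  · intro hdim z hz
    obtain ⟨u, hu⟩ : ∃ u, (Pi.single u 1 : ι → k) ∉ W := by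
      by_contra! hall
      have : W = ⊤ := top_le_iff.mp ((Pi.basisFun k ι).span_eq.ge.trans (Submodule.span_le.mpr (by
        rintro _ ⟨l, rfl⟩; rw [Pi.basisFun_apply]; exact hall l)))
      rw [this, finrank_top, Module.finrank_fintype_fun_eq_card] at hdim
      omega
    have htop : W ⊔ Submodule.span k {Pi.single u (1 : k)} = ⊤ := by
      refine Submodule.eq_top_of_finrank_eq ?_
      have hlt : Module.finrank k W < Module.finrank k ↥(W ⊔ Submodule.span k {Pi.single u (1 : k)}) :=
        Submodule.finrank_lt_finrank_of_lt (lt_of_le_of_ne le_sup_left fun e => hu (e ▸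
          Submodule.mem_sup_right (Submodule.mem_span_singleton_self _)))
      have := Submodule.finrank_le (W ⊔ Submodule.span k {Pi.single u (1 : k)})
      rw [Module.finrank_fintype_fun_eq_card] at this ⊢
      omega
    have hquad : ∀ w ∈ W, ∃ r : ι → ι → K, (∀ l m, r l m ∈ A) ∧
        ∑ l, algebraMap k K (w l) * δ l = ∑ l, ∑ m, δ l * δ m * r l m := by
      intro w hw
      induction hw using Submodule.span_induction with
      | mem q hq =>
        obtain ⟨i, rfl⟩ := hq
        obtain ⟨r, hr, he⟩ := aeval_taylor c y (g i)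
        rw [hg0 i, eval_eq_zero_of_lt hc (p := g i) (by rw [hg0 i, map_zero]; exact zero_lt_one), map_zero, zero_add] at he
        refine ⟨fun l m => -r l m, fun l m => neg_mem (hr l m), ?_⟩
        simp only [mul_neg, Finset.sum_neg_distrib]
        exact eq_neg_of_add_eq_zero_left he.symm
      | zero => exact ⟨0, fun l m => zero_mem _, by simp⟩
      | add p q _ _ hp hq =>
        obtain ⟨r, hr, hre⟩ := hp
        obtain ⟨s, hs, hse⟩ := hq
        exact ⟨r + s, fun l m => add_mem (hr l m) (hs l m), by
          simp only [Pi.add_apply, map_add, add_mul, mul_add, Finset.sum_add_distrib, hre, hse]⟩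
      | smul a p _ hp =>
        obtain ⟨r, hr, hre⟩ := hp
        refine ⟨fun l m => algebraMap k K a * r l m, fun l m => mul_mem (Subalgebra.algebraMap_mem _ _) (hr l m), ?_⟩
        calc ∑ l, algebraMap k K ((a • p) l) * δ l = algebraMap k K a * ∑ l, algebraMap k K (p l) * δ l := by
              rw [Finset.mul_sum]; exact Finset.sum_congr rfl fun l _ => by simp [mul_assoc]
          _ = ∑ l, ∑ m, δ l * δ m * (algebraMap k K a * r l m) := by
              rw [hre, Finset.mul_sum]
              refine Finset.sum_congr rfl fun l _ => ?_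
              rw [Finset.mul_sum]
              exact Finset.sum_congr rfl fun m _ => by ring
    have hsolve : ∀ l, ∃ (β : k) (r : ι → ι → K), (∀ a m, r a m ∈ A) ∧
        δ l = algebraMap k K β * δ u + ∑ m, (∑ a, δ a * r a m) * δ m := by
      intro l
      have hmem : (Pi.single l 1 : ι → k) ∈ W ⊔ Submodule.span k {Pi.single u (1 : k)} := htop ▸ Submodule.mem_top
      obtain ⟨w, hw, v, hv, hwv⟩ := Submodule.mem_sup.mp hmem
      obtain ⟨β, rfl⟩ := Submodule.mem_span_singleton.mp hv
      obtain ⟨r, hr, hre⟩ := hquad w hw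
      refine ⟨β, r, hr, ?_⟩
      have h1 : δ l = ∑ m, algebraMap k K ((Pi.single l 1 : ι → k) m) * δ m := by
        rw [Finset.sum_eq_single l (fun m _ hm => by simp [hm]) (by simp)]
        simp
      rw [h1, ← hwv]
      simp only [Pi.add_apply, Pi.smul_apply, map_add, add_mul, Finset.sum_add_distrib, hre]
      rw [add_comm]
      congr 1
      · rw [Finset.sum_eq_single u (fun m _ hm => by simp [hm]) (by simp)]
        simp
      · rw [Finset.sum_comm]
        exact Finset.sum_congr rfl fun m _ => by rw [Finset.sum_mul]; exact Finset.sum_congr rfl fun a _ => by ring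
    choose β r hr hre using hsolve
    -- `N δ = β δ_u` with `det N` a unit at `P`
    have hM : ∀ l m, ∑ a, δ a * r l a m ∈ A := fun l m =>
      sum_mem fun a _ => mul_mem (delta_mem hc a) (hr l a m)
    let N0 : Matrix ι ι A := 1 - Matrix.of fun l m => (⟨_, hM l m⟩ : A)
    let incl : A →+* P.O := A.val.toRingHom.codRestrict P.O.toSubring fun a => mem_adjoin_le_one hc a.2
    let ρ : A →+* IsLocalRing.ResidueField P.O := (IsLocalRing.residue P.O).comp incl
    have hρN : N0.map ρ = 1 := by
      ext l m
      have hM0 : ρ ⟨_, hM l m⟩ = 0 := by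
        refine (residue_eq_zero_iff P _).mpr ?_
        show P.1 (∑ a, δ a * r l a m) < 1
        refine Valuation.map_sum_lt _ one_ne_zero fun a _ => ?_
        rw [map_mul]
        exact (mul_le_of_le_one_right' (mem_adjoin_le_one hc (hr l a m))).trans_lt (hc a)
      rw [Matrix.map_apply]
      show ρ ((1 - Matrix.of fun l m => (⟨_, hM l m⟩ : A) : Matrix ι ι A) l m) = _
      rw [Matrix.sub_apply, map_sub, Matrix.of_apply, hM0, sub_zero]
      rcases eq_or_ne l m with e | e
      · subst e; simp
      · simp [e]
    have hdet : P.1 ((N0.det : A) : K) = 1 := by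
      refine le_antisymm (mem_adjoin_le_one hc N0.det.2) (not_lt.mp fun hlt => ?_)
      have h1 : ρ N0.det = 0 := (residue_eq_zero_iff P _).mpr hlt
      rw [RingHom.map_det, RingHom.mapMatrix_apply, hρN, Matrix.det_one] at h1
      exact one_ne_zero h1
    have hNδ : (N0.map A.val).mulVec δ = fun l => algebraMap k K (β l) * δ u := by
      funext l
      simp only [Matrix.mulVec, dotProduct, Matrix.map_apply, N0, Matrix.sub_apply, Matrix.of_apply, map_sub,
        sub_mul, Finset.sum_sub_distrib]
      rw [Finset.sum_eq_single l (fun m _ hm => by simp [Ne.symm hm]) (by simp)]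
      simp only [Matrix.one_apply_eq, map_one, one_mul]
      rw [sub_eq_iff_eq_add]
      exact hre l
    have hcramer : ∀ l, ((N0.det : A) : K) * δ l =
        δ u * ∑ m, ((N0.adjugate l m : A) : K) * algebraMap k K (β m) := by
      intro l
      have h1 := congrArg (Matrix.mulVec (N0.adjugate.map A.val)) hNδ
      rw [Matrix.mulVec_mulVec] at h1
      have hmul : (N0.adjugate.map A.val) * (N0.map A.val) = (N0.adjugate * N0).map A.val :=
        (Matrix.map_mul (f := A.val)).symm
      rw [hmul, Matrix.adjugate_mul] at h1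
      have h2 := congrFun h1 l
      simp only [Matrix.mulVec, dotProduct, Matrix.map_apply, Matrix.smul_apply, smul_eq_mul] at h2
      rw [Finset.sum_eq_single l (fun m _ hm => by simp [Ne.symm hm]) (by simp)] at h2
      simp only [Matrix.one_apply_eq, mul_one] at h2
      change ((N0.det : A) : K) * δ l = _ at h2
      rw [h2, Finset.mul_sum]
      exact Finset.sum_congr rfl fun m _ => by simp only [Subalgebra.coe_val]; ring
    refine frac_of_principal hc hgen (u := δ u) (D := ((N0.det : A) : K)) (hc u) (delta_mem hc u) N0.det.2 hdet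
      (fun x hx hx1 => ?_) hz
    obtain ⟨e, r', hr', hxe⟩ := hrep x hx
    have he : e = 0 := by
      by_contra he
      have hs : P.1 (∑ l, δ l * r' l) < 1 := Valuation.map_sum_lt _ one_ne_zero fun l _ => by
        rw [map_mul]; exact (mul_le_of_le_one_right' (mem_adjoin_le_one hc (hr' l))).trans_lt (hc l)
      rw [hxe, Valuation.map_add_eq_of_lt_left, val_algebraMap P he] at hx1
      · exact lt_irrefl 1 hx1
      · rw [val_algebraMap P he]; exact hs
    refine ⟨∑ l, (∑ m, ((N0.adjugate l m : A) : K) * algebraMap k K (β m)) * r' l,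
      sum_mem fun l _ => mul_mem (sum_mem fun m _ => mul_mem (N0.adjugate l m).2 (Subalgebra.algebraMap_mem _ _)) (hr' l), ?_⟩
    rw [hxe, he, map_zero, zero_add, Finset.sum_mul, Finset.mul_sum]
    refine Finset.sum_congr rfl fun l _ => ?_
    linear_combination r' l * hcramer l

end Groth.FunFld1
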