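import Groth.Agent.FunFld1.Jacobian

/-!
The Jacobian criterion for projective maps: relations of the affine part and the translation to
`IsNonsingularAt`.
-/

set_option linter.style.haveILetI false
set_option linter.unusedSectionVars false

open FunFld WithZero MvPolynomial

namespace Groth.FunFld1

variable {k K ι : Type*} [Field k] [Field K] [Algebra k K] [Fintype ι]

/-- Scaling the variables of a form. -/
theorem aeval_mul_of_isHomogeneous {S : Type*} [CommRing S] [Algebra k S] {q : MvPolynomial ι k} {d : ℕ}
    (hq : q.IsHomogeneous d) (a : S) (b : ι → S) :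
    aeval (fun l => a * b l) q = a ^ d * aeval b q := by
  rw [q.as_sum, map_sum, map_sum, Finset.mul_sum]
  refine Finset.sum_congr rfl fun s hs => ?_
  rw [aeval_monomial, aeval_monomial]
  have hd : s.degree = d := by
    have := hq (mem_support_iff.mp hs)
    rwa [Finsupp.degree_eq_weight_one]
  rw [← hd, Finsupp.degree_apply, ← Finset.prod_pow_eq_pow_sum, Finsupp.prod, Finsupp.prod]
  rw [mul_left_comm, ← Finset.prod_mul_distrib]
  exact congrArg _ (Finset.prod_congr rfl fun l _ => mul_pow _ _ _)

/-- The relations of a cone, evaluated at forms. -/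
theorem cone_eval {q : MvPolynomial ι k} {d : ℕ} (hq : q.IsHomogeneous d) (a : K) (b : ι → K) :
    aeval (fun l => Polynomial.C (a * b l) * Polynomial.X) q =
      (Polynomial.C a * Polynomial.X) ^ d * Polynomial.C (aeval b q) := by
  rw [show (fun l => Polynomial.C (a * b l) * Polynomial.X) =
      fun l => (Polynomial.C a * Polynomial.X) * Polynomial.C (b l) from
    funext fun l => by rw [map_mul]; ring, aeval_mul_of_isHomogeneous hq]
  congr 1
  exact (aeval_algebraMap_apply (B := Polynomial K) b q)

/-- The affine part of the relations of a cone. -/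
theorem ker_aeval_ratios {κ : Type*} {φ : ι → K} {j : ι} (hj : φ j ≠ 0) (f : κ → MvPolynomial ι k)
    (hker : RingHom.ker (aeval fun i => Polynomial.C (φ i) * Polynomial.X :
      MvPolynomial ι k →ₐ[k] Polynomial K) = Ideal.span (Set.range f)) :
    RingHom.ker (aeval (ratios φ j) : MvPolynomial ι k →ₐ[k] K) =
      Ideal.span (Set.range fun o : Option κ => o.elim (X j - 1) f) := by
  classical
  have hyj : ratios φ j j = 1 := div_self hj
  set I := Ideal.span (Set.range fun o : Option κ => o.elim (X j - 1) f) with hI
  have hjI : X j - 1 ∈ I := Ideal.subset_span ⟨none, rfl⟩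
  have hfI : ∀ i, f i ∈ I := fun i => Ideal.subset_span ⟨some i, rfl⟩
  have hdown : ∀ p : MvPolynomial ι k,
      (Polynomial.aeval ((φ j)⁻¹) : Polynomial K →ₐ[K] K).restrictScalars k
        (aeval (fun i => Polynomial.C (φ i) * Polynomial.X) p) = aeval (ratios φ j) p := by
    intro p
    refine DFunLike.congr_fun (MvPolynomial.algHom_ext (f := ((Polynomial.aeval ((φ j)⁻¹) :
      Polynomial K →ₐ[K] K).restrictScalars k).comp (aeval fun i => Polynomial.C (φ i) * Polynomial.X))
      (g := aeval (ratios φ j)) fun l => ?_) p
    simp [ratios, div_eq_mul_inv]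
  refine le_antisymm (fun p hp => ?_) (Ideal.span_le.mpr ?_)
  · rw [RingHom.mem_ker] at hp
    set N := p.totalDegree with hN
    set H : MvPolynomial ι k := ∑ i ∈ Finset.range (N + 1), homogeneousComponent i p * X j ^ (N - i)
    have hHker : H ∈ RingHom.ker (aeval fun i => Polynomial.C (φ i) * Polynomial.X :
        MvPolynomial ι k →ₐ[k] Polynomial K) := by
      have hy : (fun i => Polynomial.C (φ i) * Polynomial.X : ι → Polynomial K) =
          fun i => Polynomial.C (φ j * ratios φ j i) * Polynomial.X :=
        funext fun i => by rw [ratios, mul_div_cancel₀ _ hj]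
      rw [RingHom.mem_ker, hy, map_sum]
      calc _ = ∑ i ∈ Finset.range (N + 1), (Polynomial.C (φ j) * Polynomial.X) ^ N *
            Polynomial.C (aeval (ratios φ j) (homogeneousComponent i p)) := by
              refine Finset.sum_congr rfl fun i hi => ?_
              rw [map_mul, map_pow, aeval_X, cone_eval (homogeneousComponent_isHomogeneous i p), hyj,
                mul_one, mul_right_comm, ← pow_add,
                Nat.add_sub_cancel' (Nat.lt_succ_iff.mp (Finset.mem_range.mp hi))]
        _ = 0 := by
              rw [← Finset.mul_sum, ← map_sum, ← map_sum, sum_homogeneousComponent, hp, map_zero, mul_zero]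
    have hHI : H ∈ I := by
      rw [hker] at hHker
      exact Ideal.span_le.mpr (by rintro _ ⟨i, rfl⟩; exact hfI i) hHker
    have hdiff : H - p ∈ I := by
      have e : H - p = ∑ i ∈ Finset.range (N + 1),
          (homogeneousComponent i p * X j ^ (N - i) - homogeneousComponent i p) := by
        rw [Finset.sum_sub_distrib, sum_homogeneousComponent]
      rw [e]
      refine sum_mem fun i _ => ?_
      rw [show homogeneousComponent i p * X j ^ (N - i) - homogeneousComponent i p =
        homogeneousComponent i p * (X j ^ (N - i) - 1) by ring, ← geom_sum_mul (X j) (N - i)]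
      exact I.mul_mem_left _ (I.mul_mem_left _ hjI)
    simpa using sub_mem hHI hdiff
  · rintro _ ⟨(_ | i), rfl⟩
    · simp [hyj]
    · have h : aeval (fun i => Polynomial.C (φ i) * Polynomial.X) (f i) = (0 : Polynomial K) := by
        rw [← RingHom.mem_ker, hker]
        exact Ideal.subset_span ⟨i, rfl⟩
      show aeval (ratios φ j) (f i) = 0
      rw [← hdown, h, map_zero]

/-- The relations of a cone do not change under a common factor. -/
theorem ker_cone_eq_of_mul {φ ψ : ι → K} {a : K} (ha : a ≠ 0) (h : ∀ i, φ i = a * ψ i) :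
    RingHom.ker (aeval fun i => Polynomial.C (φ i) * Polynomial.X : MvPolynomial ι k →ₐ[k] Polynomial K) =
      RingHom.ker (aeval fun i => Polynomial.C (ψ i) * Polynomial.X :
        MvPolynomial ι k →ₐ[k] Polynomial K) := by
  ext p
  have hcomp : aeval (fun i => Polynomial.C (φ i) * Polynomial.X) p =
      (Polynomial.aeval (Polynomial.C a * Polynomial.X : Polynomial K)).restrictScalars k
        (aeval (fun i => Polynomial.C (ψ i) * Polynomial.X) p) := by
    refine DFunLike.congr_fun (MvPolynomial.algHom_ext (f := (aeval fun i => Polynomial.C (φ i) * Polynomial.X))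
      (g := ((Polynomial.aeval (Polynomial.C a * Polynomial.X : Polynomial K)).restrictScalars k).comp
        (aeval fun i => Polynomial.C (ψ i) * Polynomial.X)) fun l => ?_) p
    simp [h l]
    ring
  rw [RingHom.mem_ker, RingHom.mem_ker, hcomp]
  refine ⟨fun hp => ?_, fun hp => by rw [hp, map_zero]⟩
  rw [AlgHom.coe_restrictScalars', ← Polynomial.comp_eq_aeval, Polynomial.comp_eq_zero_iff] at hp
  rcases hp with hp | ⟨-, hp⟩
  · exact hp
  · exfalso
    have := congrArg (fun q => Polynomial.coeff q 1) hp
    simp [ha] at this

/-- The gradient of the normalising relation. -/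
theorem grad_X_sub_one [DecidableEq ι] (c : ι → k) (j : ι) :
    grad c (X j - 1) = Pi.single j 1 := by
  funext l
  simp [grad, pderiv_X, Pi.single_apply, apply_ite, eq_comm]

/-- The Jacobian criterion for a projective map with homogeneous relations `f`. -/
theorem isNonsingularAt_iff_jacobian [IsAlgClosed k] [DecidableEq ι] (hK : IsFunctionField k K) {φ : ι → K}
    {P : Place k K} {j : ι} (hj : IsMin φ P j)
    (hgen : IntermediateField.adjoin k (Set.range (ratios φ j)) = ⊤) {c : ι → k}
    (hc : ∀ i, P.1 (ratios φ j i - algebraMap k K (c i)) < 1) {κ : Type*} (f : κ → MvPolynomial ι k)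
    (hker : RingHom.ker (aeval fun i => Polynomial.C (φ i) * Polynomial.X :
      MvPolynomial ι k →ₐ[k] Polynomial K) = Ideal.span (Set.range f)) :
    IsNonsingularAt φ P ↔ Module.finrank k (Submodule.span k
      (insert (Pi.single j 1) (Set.range fun i => grad c (f i)))) + 1 = Fintype.card ι := by
  have hset : (Set.range fun o : Option κ => grad c (o.elim (X j - 1) f)) =
      insert (Pi.single j 1) (Set.range fun i => grad c (f i)) := by
    ext v
    simp [Option.exists, grad_X_sub_one, eq_comm]
  rw [← hset, ← jacobian_iff hc hgen (deg_eq_one_of_isAlgClosed (IsFF.of_isFunctionField hK) P)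
    _ (ker_aeval_ratios hj.1 f hker)]
  refine ⟨fun h z hz => inLocRing_at (h z hz) hj, fun h z hz => ?_⟩
  obtain ⟨a, ha, w, hw, hw1, he⟩ := h z hz
  exact inLocRing_of_frac hj ha hw hw1 he

theorem adjoin_ratios_eq_top {φ : ι → K} {i₀ j : ι} (hi : φ i₀ ≠ 0) (hj : φ j ≠ 0)
    (h : IntermediateField.adjoin k (Set.range (ratios φ i₀)) = ⊤) :
    IntermediateField.adjoin k (Set.range (ratios φ j)) = ⊤ := by
  refine top_le_iff.mp (h.ge.trans (IntermediateField.adjoin_le_iff.mpr ?_))
  rintro _ ⟨i, rfl⟩
  rw [show ratios φ i₀ i = ratios φ j i / ratios φ j i₀ by unfold ratios; field_simp]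
  exact div_mem (IntermediateField.subset_adjoin _ _ ⟨i, rfl⟩) (IntermediateField.subset_adjoin _ _ ⟨i₀, rfl⟩)

/-- Residues of the ratios are constants. -/
theorem residue_eq_algebraMap {P : Place k K} {a : P.O} {c : k} (h : P.1 ((a : K) - algebraMap k K c) < 1) :
    IsLocalRing.residue P.O a = algebraMap k (IsLocalRing.ResidueField P.O) c :=
  sub_eq_zero.mp (by
    have := (residue_eq_zero_iff P (a - algebraMap k P.O c)).mpr h
    rwa [map_sub] at this)

theorem aeval_residue {P : Place k K} {a : ι → P.O} {c : ι → k}
    (h : ∀ i, P.1 (((a i : P.O) : K) - algebraMap k K (c i)) < 1) (p : MvPolynomial ι k) :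
    aeval (fun i => IsLocalRing.residue P.O (a i)) p =
      algebraMap k (IsLocalRing.ResidueField P.O) (eval c p) := by
  rw [show (fun i => IsLocalRing.residue P.O (a i)) = algebraMap k _ ∘ c from
    funext fun i => residue_eq_algebraMap (h i)]
  refine DFunLike.congr_fun (MvPolynomial.algHom_ext (f := aeval (algebraMap k (IsLocalRing.ResidueField P.O) ∘ c))
    (g := (Algebra.ofId k (IsLocalRing.ResidueField P.O)).comp (aeval c)) fun l => ?_) p
  rw [AlgHom.comp_apply, aeval_X, aeval_X, Algebra.ofId_apply]
  rfl

/-- The Euler relation at a zero of a form. -/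
theorem sum_grad_mul_eq_zero {q : MvPolynomial ι k} {d : ℕ} (hq : q.IsHomogeneous d) {c : ι → k}
    (h0 : eval c q = 0) : ∑ l, grad c q l * c l = 0 := by
  have h := congrArg (eval c) hq.sum_X_mul_pderiv
  rw [map_nsmul, h0, smul_zero, map_sum] at h
  refine Eq.trans (Finset.sum_congr rfl fun l _ => ?_) h
  rw [map_mul, eval_X, grad, mul_comm]

end Groth.FunFld1

namespace Groth.FunFld1

variable {k K : Type*} [Field k] [Field K] [Algebra k K]

/-- Adjoining the first basis vector adds one to the rank. -/
theorem finrank_insert_single_zero {n : ℕ} {κ : Type*} (v : κ → Fin (n + 1) → k) :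
    Module.finrank k (Submodule.span k (insert (Pi.single 0 1) (Set.range v))) =
      Module.finrank k (Submodule.span k (Set.range fun i => Fin.tail (v i))) + 1 := by
  set W := Submodule.span k (insert (Pi.single 0 1) (Set.range v)) with hW
  let π : (Fin (n + 1) → k) →ₗ[k] Fin n → k := LinearMap.funLeft k k Fin.succ
  have hker : LinearMap.ker π = Submodule.span k {Pi.single (0 : Fin (n + 1)) (1 : k)} := by
    refine le_antisymm (fun x hx => Submodule.mem_span_singleton.mpr ⟨x 0, ?_⟩)
      ((Submodule.span_singleton_le_iff_mem _ _).mpr ?_)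
    · funext i
      refine Fin.cases ?_ (fun l => ?_) i
      · simp
      · have := congrFun (LinearMap.mem_ker.mp hx) l
        simpa [π, LinearMap.funLeft_apply] using this.symm
    · ext l
      simp [π, LinearMap.funLeft_apply]
  have hmap : W.map π = Submodule.span k (Set.range fun i => Fin.tail (v i)) := by
    have hπ0 : π (Pi.single 0 1) = 0 := by ext l; simp [π, LinearMap.funLeft_apply]
    rw [hW, Submodule.map_span, Set.image_insert_eq, hπ0, Submodule.span_insert_zero, ← Set.range_comp]
    rfl
  have h := LinearMap.finrank_range_add_finrank_ker (π.domRestrict W)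
  rw [LinearMap.range_domRestrict, hmap, LinearMap.ker_domRestrict, ← Submodule.finrank_map_subtype_eq,
    Submodule.map_comap_subtype, hker, inf_eq_right.mpr (Submodule.span_mono (Set.singleton_subset_iff.mpr
      (Set.mem_insert _ _))), finrank_span_singleton (by simp)] at h
  exact h.symm

/-- The rank is unchanged by a field extension of degree one. -/
theorem rank_map_of_finrank_eq_one {R : Type*} [Field R] [Algebra k R] (hd : Module.finrank k R = 1)
    {m n : Type*} [Finite m] [Fintype n] (A : Matrix m n k) :
    (A.map (algebraMap k R)).rank = A.rank := by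
  have hsur : Function.Surjective (algebraMap k R) := by
    intro z
    obtain ⟨c, hc⟩ := (finrank_eq_one_iff_of_nonzero' (K := k) (1 : R) one_ne_zero).mp hd z
    exact ⟨c, by rw [← hc, Algebra.algebraMap_eq_smul_one]⟩
  rw [Matrix.rank_eq_finrank_span_row, Matrix.rank_eq_finrank_span_row]
  set V := Submodule.span R (Set.range (A.map (algebraMap k R)).row) with hV
  have h1 : Module.finrank k (V.restrictScalars k) = Module.finrank R V := by
    have := Module.finrank_mul_finrank k R V
    rw [hd, one_mul] at this
    exact this.symm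
  let L : (n → k) →ₗ[k] n → R := (Algebra.linearMap k R).compLeft n
  have h2 : V.restrictScalars k = (Submodule.span k (Set.range A.row)).map L := by
    rw [hV, Submodule.restrictScalars_span k R hsur, Submodule.map_span, ← Set.range_comp]
    rfl
  rw [← h1, h2]
  exact (Submodule.equivMapOfInjective L (fun x y h => funext fun l =>
    (algebraMap k R).injective (congrFun h l)) _).finrank_eq.symm

theorem rank_map_algebraMap {P : Place k K} (hd : P.deg = 1) {m n : Type*} [Finite m] [Fintype n]
    (A : Matrix m n k) :
    (A.map (algebraMap k (IsLocalRing.ResidueField P.O))).rank = A.rank :=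
  rank_map_of_finrank_eq_one hd A

end Groth.FunFld1

namespace Groth.FunFld1

section Plane

variable {k K ι : Type*} [Field k] [Field K] [Algebra k K] [Fintype ι]

theorem aeval_ratios_eq_zero {φ : ι → K} {j : ι} (hj : φ j ≠ 0) {f : MvPolynomial ι k} {d : ℕ}
    (hhom : f.IsHomogeneous d) (hfφ : aeval φ f = 0) : aeval (ratios φ j) f = 0 := by
  rw [show ratios φ j = fun l => (φ j)⁻¹ * φ l from funext fun l => div_eq_inv_mul _ _,
    aeval_mul_of_isHomogeneous hhom, hfφ, mul_zero]

theorem eval_eq_zero_of_form {φ : ι → K} {P : Place k K} {j : ι} (hj : IsMin φ P j) {c : ι → k}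
    (hc : ∀ i, P.1 (ratios φ j i - algebraMap k K (c i)) < 1) {f : MvPolynomial ι k} {d : ℕ}
    (hhom : f.IsHomogeneous d) (hfφ : aeval φ f = 0) : eval c f = 0 :=
  eval_eq_zero_of_lt hc (by rw [aeval_ratios_eq_zero hj.1 hhom hfφ, map_zero]; exact zero_lt_one)

theorem const_eq_one_of_ratio {φ : ι → K} {P : Place k K} {j : ι} (hj : IsMin φ P j) {c : ι → k}
    (hc : ∀ i, P.1 (ratios φ j i - algebraMap k K (c i)) < 1) : c j = 1 := by
  by_contra hne
  have := hc j
  rw [ratios, div_self hj.1, ← map_one (algebraMap k K), ← map_sub,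
    val_algebraMap P (sub_ne_zero.mpr (Ne.symm hne))] at this
  exact lt_irrefl 1 this

/-- The projective tangent condition in the plane. -/
theorem finrank_insert_iff {c g : Fin 3 → k} {j : Fin 3} (hE : ∑ l, g l * c l = 0) (hcj : c j = 1) :
    ¬ Module.finrank k (Submodule.span k (insert (Pi.single j 1) (Set.range fun _ : Unit => g))) + 1 = 3 ↔
      ∀ l, g l = 0 := by
  classical
  rw [Set.range_const]
  by_cases hg : ∀ l, g l = 0
  · have : g = 0 := funext hg
    subst this
    have hspan : Submodule.span k (insert (Pi.single j 1) {(0 : Fin 3 → k)}) =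
        Submodule.span k {Pi.single j (1 : k)} := by
      rw [Set.pair_comm, Submodule.span_insert_zero]
    rw [hspan, finrank_span_singleton (by simp)]
    simpa using hg
  · refine iff_of_false (not_not.mpr ?_) hg
    have hli : LinearIndependent k ![Pi.single j (1 : k), g] := by
      rw [LinearIndependent.pair_iff]
      intro s t hst
      have hl : ∀ l, s * (Pi.single j (1 : k) : Fin 3 → k) l + t * g l = 0 := fun l => by
        simpa using congrFun hst l
      have hs : s = 0 := by
        have h := Finset.sum_eq_zero (s := Finset.univ) fun l _ => congrArg (· * c l) (hl l) |>.trans (zero_mul _)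
        simp only [add_mul, Finset.sum_add_distrib, mul_assoc, ← Finset.mul_sum, hE, mul_zero, add_zero] at h
        rwa [Finset.sum_eq_single j (fun l _ hl => by simp [hl]) (by simp), Pi.single_eq_same, one_mul,
          hcj, mul_one] at h
      obtain ⟨l, hl0⟩ := not_forall.mp hg
      have := hl l
      rw [hs, zero_mul, zero_add, mul_eq_zero] at this
      exact ⟨hs, this.resolve_right hl0⟩
    have := finrank_span_eq_card hli
    rw [Matrix.range_cons, Matrix.range_cons, Matrix.range_empty, Set.union_empty, Set.singleton_union] at this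
    rw [this]
    rfl

theorem ker_plane_eq [IsAlgClosed k] (hK : IsFunctionField k K) {φ : Fin 3 → K} (hφ : LinearIndependent k φ)
    (hbir : IntermediateField.adjoin k (Set.range fun i => φ i / φ 0) = ⊤)
    {f : MvPolynomial (Fin 3) k} (hf : Irreducible f) (hhom : f.IsHomogeneous f.totalDegree)
    (hfφ : aeval φ f = 0) :
    RingHom.ker (aeval fun i => Polynomial.C (φ i) * Polynomial.X :
      MvPolynomial (Fin 3) k →ₐ[k] Polynomial K) = Ideal.span (Set.range fun _ : Unit => f) := by
  have h0 : φ 0 ≠ 0 := hφ.ne_zero 0
  have hxy : IntermediateField.adjoin k ({φ 1 / φ 0, φ 2 / φ 0} : Set K) = ⊤ := by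
    refine top_le_iff.mp (hbir.ge.trans (IntermediateField.adjoin_le_iff.mpr ?_))
    rintro _ ⟨i, rfl⟩
    fin_cases i
    · show φ 0 / φ 0 ∈ _
      rw [div_self h0]; exact one_mem _
    · exact IntermediateField.subset_adjoin _ _ (Or.inl rfl)
    · exact IntermediateField.subset_adjoin _ _ (Or.inr rfl)
  obtain ⟨F, hF, -, hker⟩ := exists_ker_plane_relations hK hxy
  have e := ker_cone_eq_of_mul (k := k) (φ := φ) (ψ := ![1, φ 1 / φ 0, φ 2 / φ 0]) h0 fun i => by
    fin_cases i <;> simp [mul_div_cancel₀ _ h0]
  rw [e, hker, Set.range_const]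
  have hmem : f ∈ RingHom.ker (aeval fun i => Polynomial.C (φ i) * Polynomial.X :
      MvPolynomial (Fin 3) k →ₐ[k] Polynomial K) := by
    have h1 := cone_eval hhom (1 : K) φ
    simp only [one_mul, hfφ, map_zero, mul_zero] at h1
    exact h1
  rw [e, hker, Ideal.mem_span_singleton] at hmem
  exact Ideal.span_singleton_eq_span_singleton.mpr (hF.associated_of_dvd hf hmem)

end Plane

end Groth.FunFld1
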