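import Groth.Prelude.Def_W4bk4goldsch45
import Groth.Agent.FunFld1.Extension

/-!
The divisor `mapDiv φ` of a tuple of functions.
-/

namespace Groth.FunFld1

open WithZero FunFld

namespace IsFF

variable {k K : Type*} [Field k] [Field K] [Algebra k K]

theorem mapDiv_apply (hF : IsFF k K) {ι : Type*} [Fintype ι] [Nonempty ι] (φ : ι → K)
    (P : Place k K) :
    mapDiv k φ P = -Finset.univ.inf' Finset.univ_nonempty (fun i => P.ord (φ i)) := by
  have hfin : (Function.support fun P : Place k K =>
      -Finset.univ.inf' Finset.univ_nonempty (fun i => P.ord (φ i))).Finite := by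
    refine (Set.finite_iUnion fun i => hF.finite_support_ord (φ i)).subset fun P hP => ?_
    obtain ⟨i, -, hi⟩ :=
      Finset.exists_mem_eq_inf' (Finset.univ_nonempty (α := ι)) (fun i => P.ord (φ i))
    rw [Function.mem_support, hi] at hP
    exact Set.mem_iUnion.mpr ⟨i, fun h0 => hP (by simp only at h0; omega)⟩
  unfold FunFld.mapDiv
  rw [dif_pos hfin]
  rfl

theorem ord_ge_neg_mapDiv (hF : IsFF k K) {ι : Type*} [Fintype ι] [Nonempty ι] (φ : ι → K)
    (P : Place k K) (i : ι) : -mapDiv k φ P ≤ P.ord (φ i) := by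
  rw [hF.mapDiv_apply, neg_neg]
  exact Finset.inf'_le _ (Finset.mem_univ i)

theorem exists_ord_eq_neg_mapDiv (hF : IsFF k K) {ι : Type*} [Fintype ι] [Nonempty ι] (φ : ι → K)
    (P : Place k K) : ∃ i, P.ord (φ i) = -mapDiv k φ P := by
  obtain ⟨i, -, hi⟩ :=
    Finset.exists_mem_eq_inf' (Finset.univ_nonempty (α := ι)) (fun i => P.ord (φ i))
  exact ⟨i, by rw [hF.mapDiv_apply, neg_neg]; exact hi.symm⟩

variable {K' : Type*} [Field K'] [Algebra K K'] [Algebra k K'] [IsScalarTower k K K']
  [FiniteDimensional K K']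

theorem mapDiv_algebraMap (hF : IsFF k K) {ι : Type*} [Fintype ι] [Nonempty ι] (φ : ι → K) :
    mapDiv k (fun i => algebraMap K K' (φ i)) = conorm K' (mapDiv k φ) := by
  ext Q
  obtain ⟨P, e, he⟩ := hF.exists_isOver Q
  rw [hF.conorm_apply _ he]
  obtain ⟨i, hi⟩ := (hF.ext (K' := K')).exists_ord_eq_neg_mapDiv (fun i => algebraMap K K' (φ i)) Q
  obtain ⟨j, hj⟩ := hF.exists_ord_eq_neg_mapDiv φ P
  have h1 := (hF.ext (K' := K')).ord_ge_neg_mapDiv (fun i => algebraMap K K' (φ i)) Q j
  have h2 := hF.ord_ge_neg_mapDiv φ P i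
  rw [overWith_ord he] at hi h1
  rw [hj] at h1
  have h3 := mul_le_mul_of_nonneg_left h2 (Int.natCast_nonneg e)
  linarith

end IsFF

end Groth.FunFld1

namespace Groth.FunFld1

open WithZero FunFld

/-- The degree of `τ ∘ φ` for an embedding `τ` of function fields. -/
theorem IsFF.deg_mapDiv_algHom {k K L : Type*} [Field k] [Field K] [Field L] [Algebra k K]
    [Algebra k L] (hF : IsFF k K) (hL : IsFF k L) (τ : K →ₐ[k] L) {ι : Type*} [Fintype ι]
    [Nonempty ι] (φ : ι → K) :
    (mapDiv k (τ ∘ φ)).deg = Module.finrank τ.fieldRange L * (mapDiv k φ).deg := by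
  classical
  obtain ⟨x, hx, -⟩ := id hF
  have hxt : Transcendental k (τ x) := fun h => hx ((isAlgebraic_algHom_iff τ τ.injective).mp h)
  haveI := hL.finiteDimensional hxt
  have hle : IntermediateField.adjoin k ({τ x} : Set L) ≤ τ.fieldRange :=
    IntermediateField.adjoin_simple_le_iff.mpr ⟨x, rfl⟩
  haveI hfr : FiniteDimensional τ.fieldRange L := by
    letI := (IntermediateField.inclusion hle).toRingHom.toAlgebra
    haveI : IsScalarTower (IntermediateField.adjoin k ({τ x} : Set L)) τ.fieldRange L :=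
      IsScalarTower.of_algebraMap_eq fun _ => rfl
    exact Module.Finite.of_restrictScalars_finite (IntermediateField.adjoin k ({τ x} : Set L)) _ _
  let e : τ.fieldRange ≃+* K := (AlgEquiv.ofInjectiveField τ).toRingEquiv.symm
  letI : Algebra K L := τ.toRingHom.toAlgebra
  have hcomp : (algebraMap K L).comp e.toRingHom =
      (RingEquiv.refl L).toRingHom.comp (algebraMap τ.fieldRange L) := by
    refine RingHom.ext fun z => ?_
    show τ (e z) = (z : L)
    exact congrArg Subtype.val ((AlgEquiv.ofInjectiveField τ).apply_symm_apply z)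
  haveI : FiniteDimensional K L := Module.Finite.of_equiv_equiv e (RingEquiv.refl L) hcomp
  haveI : IsScalarTower k K L := IsScalarTower.of_algebraMap_eq fun c => (τ.commutes c).symm
  rw [Algebra.finrank_eq_of_equiv_equiv e (RingEquiv.refl L) hcomp,
    show τ ∘ φ = fun i => algebraMap K L (φ i) from rfl, hF.mapDiv_algebraMap, hF.deg_conorm]

end Groth.FunFld1
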