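import Groth.Agent.FunFld1.Approx
import Groth.Agent.FunFld1.MapDiv
import Groth.Agent.FunFld1.Gaps

/-!
Nonsingular points of projective maps: separation and parameter, the codimension two criterion.
-/

set_option linter.style.haveILetI false
set_option linter.unusedSectionVars false

namespace Groth.FunFld1

open WithZero FunFld
open scoped IntermediateField

variable {k K : Type*} [Field k] [Field K] [Algebra k K] {ι : Type*} [Fintype ι]

/-- `φ j` is nonzero and has least order at `P`. -/
def IsMin (φ : ι → K) (P : Place k K) (j : ι) : Prop :=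
  φ j ≠ 0 ∧ ∀ i, P.1 (φ i) ≤ P.1 (φ j)

/-- The ratios `φ i / φ j`. -/
noncomputable def ratios (φ : ι → K) (j : ι) : ι → K := fun i => φ i / φ j

theorem isAffine_ratios_iff {φ : ι → K} {j : ι} (hj : φ j ≠ 0) {P : Place k K} :
    IsAffine (ratios φ j) P ↔ ∀ i, P.1 (φ i) ≤ P.1 (φ j) :=
  forall_congr' fun i => by
    rw [ratios, map_div₀, div_le_one₀ (zero_lt_iff.mpr ((Valuation.ne_zero_iff _).mpr hj))]

theorem IsMin.affine {φ : ι → K} {P : Place k K} {j : ι} (h : IsMin φ P j) :
    IsAffine (ratios φ j) P := (isAffine_ratios_iff h.1).mpr h.2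

theorem exists_isMin {φ : ι → K} (h : ∃ i, φ i ≠ 0) (P : Place k K) : ∃ j, IsMin φ P j := by
  classical
  obtain ⟨i, hi⟩ := h
  obtain ⟨j, -, hj⟩ := Finset.univ.exists_max_image (fun l => P.1 (φ l)) ⟨i, Finset.mem_univ i⟩
  refine ⟨j, fun h0 => ?_, fun l => hj l (Finset.mem_univ l)⟩
  have := hj i (Finset.mem_univ i)
  rw [h0, map_zero, le_zero_iff, map_eq_zero] at this
  exact hi this

theorem IsMin.val_eq {φ : ι → K} {P : Place k K} {i j : ι} (hi : IsMin φ P i) (hj : IsMin φ P j) :
    P.1 (φ i) = P.1 (φ j) := le_antisymm (hj.2 i) (hi.2 j)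

theorem exists_pow_mul_mem {φ : ι → K} {j₁ j : ι} (h₁ : φ j₁ ≠ 0) (h : φ j ≠ 0) {a : K}
    (ha : a ∈ Algebra.adjoin k (Set.range (ratios φ j₁))) :
    ∃ m : ℕ, ∀ m' ≥ m, a * (ratios φ j j₁) ^ m' ∈ Algebra.adjoin k (Set.range (ratios φ j)) := by
  have hr : ratios φ j j₁ ∈ Algebra.adjoin k (Set.range (ratios φ j)) :=
    Algebra.subset_adjoin (Set.mem_range_self _)
  induction ha using Algebra.adjoin_induction with
  | mem x hx =>
    obtain ⟨i, rfl⟩ := hx
    refine ⟨1, fun m' hm => ?_⟩
    obtain ⟨q, rfl⟩ : ∃ q, m' = q + 1 := ⟨m' - 1, by omega⟩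
    rw [pow_succ', ← mul_assoc, show ratios φ j₁ i * ratios φ j j₁ = ratios φ j i by
      unfold ratios; field_simp]
    exact mul_mem (Algebra.subset_adjoin (Set.mem_range_self _)) (pow_mem hr _)
  | algebraMap c => exact ⟨0, fun m' _ => mul_mem (Subalgebra.algebraMap_mem _ c) (pow_mem hr _)⟩
  | add a b _ _ ha hb =>
    obtain ⟨m, hm⟩ := ha
    obtain ⟨m', hm'⟩ := hb
    exact ⟨max m m', fun q hq => by
      rw [add_mul]
      exact add_mem (hm q (le_of_max_le_left hq)) (hm' q (le_of_max_le_right hq))⟩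
  | mul a b _ _ ha hb =>
    obtain ⟨m, hm⟩ := ha
    obtain ⟨m', hm'⟩ := hb
    refine ⟨m + m', fun q hq => ?_⟩
    obtain ⟨r, rfl⟩ : ∃ r, q = m + r := ⟨q - m, by omega⟩
    rw [pow_add, mul_mul_mul_comm]
    exact mul_mem (hm m le_rfl) (hm' r (by omega))

/-- The local ring does not depend on the choice of the minimal entry. -/
theorem inLocRing_at {φ : ι → K} {P : Place k K} {z : K} (h : InLocRing φ P z) {j : ι}
    (hj : IsMin φ P j) :
    ∃ u ∈ Algebra.adjoin k (Set.range (ratios φ j)),
      ∃ w ∈ Algebra.adjoin k (Set.range (ratios φ j)), P.1 w = 1 ∧ z * w = u := by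
  obtain ⟨j₁, h₁, hm₁, u, hu, w, hw, hw1, hzw⟩ := h
  obtain ⟨m, hm⟩ := exists_pow_mul_mem h₁ hj.1 (show u ∈ Algebra.adjoin k (Set.range (ratios φ j₁)) from hu)
  obtain ⟨m', hm'⟩ := exists_pow_mul_mem h₁ hj.1 (show w ∈ Algebra.adjoin k (Set.range (ratios φ j₁)) from hw)
  have hr : P.1 (ratios φ j j₁) = 1 := by
    rw [ratios, map_div₀, IsMin.val_eq ⟨h₁, hm₁⟩ hj,
      div_self ((Valuation.ne_zero_iff _).mpr hj.1)]
  exact ⟨_, hm (max m m') (le_max_left _ _), _, hm' (max m m') (le_max_right _ _),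
    by rw [map_mul, map_pow, hr, hw1, one_pow, one_mul], by rw [← mul_assoc, hzw]⟩

theorem inLocRing_of_frac {φ : ι → K} {P : Place k K} {z : K} {j : ι} (hj : IsMin φ P j) {u w : K}
    (hu : u ∈ Algebra.adjoin k (Set.range (ratios φ j)))
    (hw : w ∈ Algebra.adjoin k (Set.range (ratios φ j))) (hw1 : P.1 w = 1) (hzw : z * w = u) :
    InLocRing φ P z := ⟨j, hj.1, hj.2, u, hu, w, hw, hw1, hzw⟩

theorem InLocRing.le_one {φ : ι → K} {P : Place k K} {z : K} (h : InLocRing φ P z) : P.1 z ≤ 1 := by
  obtain ⟨j, hj, hm, u, hu, w, -, hw1, hzw⟩ := h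
  have := ((isAffine_ratios_iff hj).mpr hm).le_one (show u ∈ Algebra.adjoin k (Set.range (ratios φ j)) from hu)
  rw [← hzw, map_mul, hw1, mul_one] at this
  exact this

theorem inLocRing_of_mem_adjoin {φ : ι → K} {P : Place k K} {j : ι} (hj : IsMin φ P j) {a : K}
    (ha : a ∈ Algebra.adjoin k (Set.range (ratios φ j))) : InLocRing φ P a :=
  inLocRing_of_frac hj ha (one_mem _) (map_one _) (mul_one _)

/-- A unit of `k[y]` congruent to a nonzero constant can be normalised. -/
theorem exists_normalize {P : Place k K} (hd : P.deg = 1) {w : K} (hw : P.1 w = 1) :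
    ∃ c : k, c ≠ 0 ∧ P.1 (algebraMap k K c⁻¹ * w - 1) < 1 := by
  obtain ⟨c, hc⟩ := exists_const_sub_lt_one hd hw.le
  have hc0 : c ≠ 0 := by
    rintro rfl
    rw [map_zero, sub_zero, hw] at hc
    exact lt_irrefl _ hc
  refine ⟨c, hc0, ?_⟩
  have e : algebraMap k K c⁻¹ * w - 1 = algebraMap k K c⁻¹ * (w - algebraMap k K c) := by
    rw [mul_sub, ← map_mul, inv_mul_cancel₀ hc0, map_one]
  rw [e, map_mul, val_algebraMap P (inv_ne_zero hc0), one_mul]
  exact hc

section FunctionField

variable (hK : IsFunctionField k K) (hd : ∀ Q : Place k K, Q.deg = 1) {φ : ι → K}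
include hK hd

local notation "hF" => IsFF.of_isFunctionField hK

theorem sepParam_of_nonsingular {P : Place k K} {j : ι} (hj : IsMin φ P j)
    (h : IsNonsingularAt φ P) : SepParam (ratios φ j) P := by
  classical
  refine ⟨?_, fun Q hQ hQa => ?_⟩
  · obtain ⟨t, ht0, ht⟩ := exists_uniformizer P
    obtain ⟨u, hu, w, -, hw1, hzw⟩ := inLocRing_at (h t (by rw [ht, exp_le_one]; omega)) hj
    exact ⟨u, hu, by rw [← hzw, map_mul, ht, hw1, mul_one]⟩
  · obtain ⟨z, hz⟩ := exists_val_sub_le ({P, Q} : Finset (Place k K)) (fun R => if R = P then 1 else 0)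
      (fun _ => -1)
    have hzP : P.1 (z - 1) < 1 := lt_one_iff_le_exp_neg_one.mpr (by simpa using hz P (by simp))
    have hzQ : Q.1 z < 1 := lt_one_iff_le_exp_neg_one.mpr (by simpa [hQ] using hz Q (by simp))
    have hz1 : P.1 z = 1 := by
      rw [show z = 1 + (z - 1) by ring]; exact val_one_add_of_lt_one P hzP
    obtain ⟨u, hu, w, hw, hw1, hzw⟩ := inLocRing_at (h z hz1.le) hj
    obtain ⟨c, hc, hcw⟩ := exists_normalize (hd P) hw1
    refine ⟨algebraMap k K c⁻¹ * u, mul_mem (Subalgebra.algebraMap_mem _ _) hu, ?_, ?_⟩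
    · rw [← hzw, show algebraMap k K c⁻¹ * (z * w) - 1 =
        (z - 1) * (algebraMap k K c⁻¹ * w) + (algebraMap k K c⁻¹ * w - 1) by ring]
      refine (P.1.map_add _ _).trans_lt (max_lt ?_ hcw)
      rw [map_mul, map_mul, val_algebraMap P (inv_ne_zero hc), hw1, one_mul, mul_one]
      exact hzP
    · rw [← hzw, map_mul, map_mul]
      exact (mul_le_of_le_one_left' (Q.2.1 _)).trans_lt
        ((mul_le_of_le_one_right' (hQa.le_one hw)).trans_lt hzQ)

theorem nonsingular_of_sepParam {P : Place k K} {j : ι} (hj : IsMin φ P j)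
    (h : SepParam (ratios φ j) P) : IsNonsingularAt φ P := fun z hz => by
  obtain ⟨u, hu, w, hw, hw1, hzw⟩ := exists_frac_of_sepParam hK hd hj.affine h hz
  exact inLocRing_of_frac hj hu hw hw1 hzw

/-- Nonsingularity: the local ring lies in no other valuation ring and has a parameter. -/
theorem nonsingular_iff_unique_and_param {P : Place k K} (h0 : ∃ i, φ i ≠ 0) :
    IsNonsingularAt φ P ↔
      (∀ Q : Place k K, (∀ z : K, InLocRing φ P z → Q.1 z ≤ 1) → Q = P) ∧
        ∃ t : K, InLocRing φ P t ∧ P.1 t = exp (-1) := by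
  constructor
  · intro h
    refine ⟨fun Q hQ => (Place.eq_of_forall_le_one P Q fun z hz => hQ z (h z hz)).symm, ?_⟩
    obtain ⟨t, -, ht⟩ := exists_uniformizer P
    exact ⟨t, h t (by rw [ht, exp_le_one]; omega), ht⟩
  · rintro ⟨huniq, t, ht, htP⟩
    obtain ⟨j, hj⟩ := exists_isMin h0 P
    refine nonsingular_of_sepParam hK hd hj ⟨?_, fun Q hQ hQa => ?_⟩
    · obtain ⟨u, hu, w, -, hw1, hzw⟩ := inLocRing_at ht hj
      exact ⟨u, hu, by rw [← hzw, map_mul, htP, hw1, mul_one]⟩
    · have hnot := mt (huniq Q) hQ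
      push Not at hnot
      obtain ⟨z, hz, hzQ⟩ := hnot
      obtain ⟨u, hu, w, hw, hw1, hzw⟩ := inLocRing_at hz hj
      have hwQ : Q.1 w < 1 := by
        by_contra hc
        have h1 : Q.1 w = 1 := le_antisymm (hQa.le_one hw) (not_lt.mp hc)
        have h2 := hQa.le_one hu
        rw [← hzw, map_mul, h1, mul_one] at h2
        exact absurd h2 (not_le.mpr hzQ)
      obtain ⟨c, -, hcw⟩ := exists_normalize (hd P) hw1
      refine ⟨algebraMap k K c⁻¹ * w, mul_mem (Subalgebra.algebraMap_mem _ _) hw, hcw, ?_⟩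
      rw [map_mul]
      exact (mul_le_of_le_one_left' (Q.2.1 _)).trans_lt hwQ

theorem finrank_inf_L_step (W : Submodule k K) [FiniteDimensional k W] (E : Divisor k K)
    (P : Place k K) :
    Module.finrank k ↥(W ⊓ L E) ≤ Module.finrank k ↥(W ⊓ L (E - Finsupp.single P 1)) + 1 := by
  have hle : E - Finsupp.single P (1 : ℤ) ≤ E :=
    sub_le_self _ (Finsupp.single_nonneg.mpr zero_le_one)
  obtain ⟨m, hm1, hm⟩ := ((hF).qfin_AD hle).comap_le ((diag k K).comp W.subtype)
  have he : ∀ D : Divisor k K,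
      Module.finrank k ↥((AD D).comap ((diag k K).comp W.subtype)) = Module.finrank k ↥(W ⊓ L D) := by
    intro D
    rw [Submodule.comap_comp, comap_diag, ← Submodule.finrank_map_subtype_eq,
      Submodule.map_comap_subtype]
  have h := hm.finite_and_finrank.2
  rw [he, he] at h
  rw [deg_sub, deg_single, hd P] at hm1
  omega

theorem exists_mem_inf_not_mem {W : Submodule k K} [FiniteDimensional k W] {E E' : Divisor k K}
    (hE : E' ≤ E) (h : Module.finrank k ↥(W ⊓ L E') < Module.finrank k ↥(W ⊓ L E)) :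
    ∃ f ∈ W, f ∈ L E ∧ f ∉ L E' := by
  by_contra! hc
  have hle : W ⊓ L E ≤ W ⊓ L E' := fun f hf => ⟨hf.1, hc f hf.1 hf.2⟩
  have := Submodule.finrank_mono hle
  omega

omit hK hd in
theorem val_eq_of_not_mem {E : Divisor k K} {P : Place k K} {f : K} (h1 : f ∈ L E)
    (h2 : f ∉ L (E - Finsupp.single P 1)) : P.1 f = exp (E P) := by
  classical
  refine le_antisymm (h1 P) (not_lt.mp fun hlt => h2 fun Q => ?_)
  rw [Finsupp.sub_apply, Finsupp.single_apply]
  split_ifs with e
  · subst e
    by_cases hf : f = 0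
    · simp [hf]
    · rw [val_eq_exp_neg_ord P hf, exp_lt_exp] at hlt
      rw [val_eq_exp_neg_ord P hf, exp_le_exp]
      omega
  · simpa using h1 Q

omit hK hd in
theorem val_le_of_mem_span {φ : ι → K} {P : Place k K} {M : ℤᵐ⁰} (h : ∀ i, P.1 (φ i) ≤ M) {f : K}
    (hf : f ∈ Submodule.span k (Set.range φ)) : P.1 f ≤ M := by
  induction hf using Submodule.span_induction with
  | mem x hx => obtain ⟨i, rfl⟩ := hx; exact h i
  | zero => simp
  | add a b _ _ ha hb => exact Valuation.map_add_le _ ha hb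
  | smul c a _ ha =>
    rw [Algebra.smul_def, map_mul]
    exact (mul_le_of_le_one_left' (P.2.1 c)).trans ha

omit hK hd in
theorem div_mem_adjoin_ratios {φ : ι → K} {j : ι} {f : K}
    (hf : f ∈ Submodule.span k (Set.range φ)) :
    f / φ j ∈ Algebra.adjoin k (Set.range (ratios φ j)) := by
  induction hf using Submodule.span_induction with
  | mem x hx =>
    obtain ⟨i, rfl⟩ := hx
    exact Algebra.subset_adjoin (Set.mem_range_self (f := ratios φ j) i)
  | zero => simp
  | add a b _ _ ha hb => rw [add_div]; exact add_mem ha hb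
  | smul c a _ ha =>
    rw [Algebra.smul_def, mul_div_assoc]
    exact mul_mem (Subalgebra.algebraMap_mem _ c) ha

/-- The codimension two criterion. -/
theorem nonsingular_of_codim {D : Divisor k K} (hD : Submodule.span k (Set.range φ) ≤ L D)
    (P : Place k K)
    (h : ∀ Q : Place k K,
      Module.finrank k ↥(Submodule.span k (Set.range φ) ⊓
          L (D - Finsupp.single P 1 - Finsupp.single Q 1)) + 2 =
        Module.finrank k ↥(Submodule.span k (Set.range φ))) :
    IsNonsingularAt φ P := by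
  classical
  set W := Submodule.span k (Set.range φ) with hW
  haveI : FiniteDimensional k W := Module.Finite.span_of_finite k (Set.finite_range φ)
  have hWD : Module.finrank k ↥(W ⊓ L D) = Module.finrank k ↥W := by rw [inf_eq_left.mpr hD]
  have hdrop : ∀ R : Place k K, (R = P ∨ ∃ Q : Place k K, R = Q) →
      Module.finrank k ↥(W ⊓ L (D - Finsupp.single R 1)) < Module.finrank k ↥(W ⊓ L D) := by
    intro R _
    have h1 := finrank_inf_L_step hK hd W (D - Finsupp.single R 1) P
    rw [sub_right_comm] at h1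
    have h2 := h R
    omega
  have hDP : ∃ f ∈ W, P.1 f = exp (D P) := by
    obtain ⟨f, hf, hfD, hfn⟩ := exists_mem_inf_not_mem hK hd
      (sub_le_self _ (Finsupp.single_nonneg.mpr zero_le_one)) (hdrop P (Or.inl rfl))
    exact ⟨f, hf, val_eq_of_not_mem hfD hfn⟩
  have h0 : ∃ i, φ i ≠ 0 := by
    by_contra! hc
    obtain ⟨f, hf, hfP⟩ := hDP
    have hle : P.1 f ≤ 0 := val_le_of_mem_span (fun i => by rw [hc i, map_zero]) hf
    rw [hfP, le_zero_iff] at hle
    exact exp_ne_zero hle
  obtain ⟨j, hj⟩ := exists_isMin h0 P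
  have hjP : P.1 (φ j) = exp (D P) := by
    refine le_antisymm (hD (Submodule.subset_span (Set.mem_range_self j)) P) ?_
    obtain ⟨f, hf, hfP⟩ := hDP
    exact hfP ▸ val_le_of_mem_span hj.2 hf
  refine nonsingular_of_sepParam hK hd hj ⟨?_, fun Q hQ hQa => ?_⟩
  · have hlt : Module.finrank k ↥(W ⊓ L (D - Finsupp.single P 1 - Finsupp.single P 1)) <
        Module.finrank k ↥(W ⊓ L (D - Finsupp.single P 1)) := by
      have h1 := finrank_inf_L_step hK hd W D P
      have h2 := h P
      omega
    obtain ⟨f, hf, hfD, hfn⟩ := exists_mem_inf_not_mem hK hd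
      (sub_le_self _ (Finsupp.single_nonneg.mpr zero_le_one)) hlt
    refine ⟨f / φ j, div_mem_adjoin_ratios hf, ?_⟩
    rw [map_div₀, val_eq_of_not_mem hfD hfn, hjP, Finsupp.sub_apply, Finsupp.single_eq_same,
      div_eq_mul_inv, ← exp_neg, ← exp_add]
    congr 1; ring
  · have hlt : Module.finrank k ↥(W ⊓ L (D - Finsupp.single Q 1 - Finsupp.single P 1)) <
        Module.finrank k ↥(W ⊓ L (D - Finsupp.single Q 1)) := by
      have h1 := finrank_inf_L_step hK hd W D Q
      have h2 := h Q
      rw [sub_right_comm] at h2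
      omega
    obtain ⟨f, hf, hfD, hfn⟩ := exists_mem_inf_not_mem hK hd
      (sub_le_self _ (Finsupp.single_nonneg.mpr zero_le_one)) hlt
    have hfP : P.1 f = exp (D P) := by
      rw [val_eq_of_not_mem hfD hfn, Finsupp.sub_apply, Finsupp.single_eq_of_ne hQ.symm, sub_zero]
    have hjQ : exp (D Q) ≤ Q.1 (φ j) := by
      obtain ⟨g, hg, hgD, hgn⟩ := exists_mem_inf_not_mem hK hd
        (sub_le_self _ (Finsupp.single_nonneg.mpr zero_le_one)) (hdrop Q (Or.inr ⟨Q, rfl⟩))
      exact val_eq_of_not_mem hgD hgn ▸ val_le_of_mem_span ((isAffine_ratios_iff hj.1).mp hQa) hg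
    have hfQ : Q.1 f < Q.1 (φ j) := by
      refine lt_of_lt_of_le ?_ hjQ
      refine (hfD Q).trans_lt ?_
      rw [exp_lt_exp, Finsupp.sub_apply, Finsupp.single_eq_same]
      omega
    have hone : P.1 (f / φ j) = 1 := by rw [map_div₀, hfP, hjP, div_self exp_ne_zero]
    obtain ⟨c, -, hc⟩ := exists_normalize (hd P) hone
    refine ⟨algebraMap k K c⁻¹ * (f / φ j),
      mul_mem (Subalgebra.algebraMap_mem _ _) (div_mem_adjoin_ratios hf), hc, ?_⟩
    rw [map_mul, map_div₀]
    exact (mul_le_of_le_one_left' (Q.2.1 _)).trans_lt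
      ((div_lt_one₀ (zero_lt_iff.mpr ((Valuation.ne_zero_iff _).mpr hj.1))).mpr hfQ)

omit hK in
/-- A parameter in `k[y]` comes from a parameter among the `y i - c`. -/
theorem exists_coord_param {y : ι → K} {P : Place k K} (hP : IsAffine y P) {t : K}
    (ht : t ∈ Algebra.adjoin k (Set.range y)) (htP : P.1 t = exp (-1)) :
    ∃ (i : ι) (c : k), P.1 (y i - algebraMap k K c) = exp (-1) := by
  by_contra! hno
  choose c hc using fun i => exists_const_sub_lt_one (hd P) (hP i)
  have hsmall : ∀ i, P.1 (y i - algebraMap k K (c i)) ≤ exp (-2) := fun i => by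
    by_cases h0 : y i - algebraMap k K (c i) = 0
    · simp [h0]
    have h1 := hno i (c i)
    have h2 := hc i
    rw [val_eq_exp_neg_ord P h0] at h1 h2 ⊢
    rw [ne_eq, exp_injective.eq_iff] at h1
    rw [exp_lt_one] at h2
    rw [exp_le_exp]; omega
  have key : ∀ a ∈ Algebra.adjoin k (Set.range y), ∃ d : k, P.1 (a - algebraMap k K d) ≤ exp (-2) := by
    intro a ha
    induction ha using Algebra.adjoin_induction with
    | mem x hx => obtain ⟨i, rfl⟩ := hx; exact ⟨c i, hsmall i⟩
    | algebraMap r => exact ⟨r, by simp⟩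
    | add a b _ _ ha hb =>
      obtain ⟨d, hd1⟩ := ha
      obtain ⟨d', hd'⟩ := hb
      refine ⟨d + d', ?_⟩
      rw [map_add, add_sub_add_comm]
      exact Valuation.map_add_le _ hd1 hd'
    | mul a b ha' _ ha hb =>
      obtain ⟨d, hd1⟩ := ha
      obtain ⟨d', hd'⟩ := hb
      refine ⟨d * d', ?_⟩
      rw [map_mul, show a * b - algebraMap k K d * algebraMap k K d' =
        a * (b - algebraMap k K d') + (a - algebraMap k K d) * algebraMap k K d' by ring]
      refine Valuation.map_add_le _ ?_ ?_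
      · rw [map_mul]; exact (mul_le_of_le_one_left' (hP.le_one ha')).trans hd'
      · rw [map_mul]; exact (mul_le_of_le_one_right' (P.2.1 _)).trans hd1
  obtain ⟨d, hd1⟩ := key t ht
  have h2 : P.1 (algebraMap k K d) ≤ exp (-1) := by
    rw [show algebraMap k K d = t - (t - algebraMap k K d) by ring]
    exact Valuation.map_sub_le _ htP.le (hd1.trans (by rw [exp_le_exp]; omega))
  by_cases hd0 : d = 0
  · rw [hd0, map_zero, sub_zero, htP, exp_le_exp] at hd1
    omega
  · rw [val_algebraMap P hd0, one_le_exp] at h2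
    omega

/-- A nonsingular point satisfies the codimension two condition, for any divisor `D` reached at
every minimal entry. -/
theorem codim_of_nonsingular' (h0 : ∃ i, φ i ≠ 0) {D : Divisor k K}
    (hWD : Submodule.span k (Set.range φ) ≤ L D)
    (hmax : ∀ (R : Place k K) (j : ι), IsMin φ R j → R.1 (φ j) = exp (D R)) {P : Place k K}
    (h : IsNonsingularAt φ P) (Q : Place k K) :
    Module.finrank k ↥(Submodule.span k (Set.range φ) ⊓
        L (D - Finsupp.single P 1 - Finsupp.single Q 1)) + 2 =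
      Module.finrank k ↥(Submodule.span k (Set.range φ)) := by
  classical
  set W := Submodule.span k (Set.range φ) with hW
  haveI : FiniteDimensional k W := Module.Finite.span_of_finite k (Set.finite_range φ)
  obtain ⟨j, hj⟩ := exists_isMin h0 P
  obtain ⟨jQ, hjQ⟩ := exists_isMin h0 Q
  have hsp := sepParam_of_nonsingular hK hd hj h
  -- an element of order exactly one more at `P`, then one at `Q`
  have hex : ∃ f ∈ W, f ∈ L (D - Finsupp.single P 1) ∧
      f ∉ L (D - Finsupp.single P 1 - Finsupp.single Q 1) := by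
    have hmemP : ∀ f ∈ W, P.1 f < exp (D P) → f ∈ L (D - Finsupp.single P 1) := by
      intro f hf hlt R
      rw [Finsupp.sub_apply, Finsupp.single_apply]
      split_ifs with e
      · subst e
        by_cases hf0 : f = 0
        · simp [hf0]
        · rw [val_eq_exp_neg_ord P hf0, exp_lt_exp] at hlt
          rw [val_eq_exp_neg_ord P hf0, exp_le_exp]; omega
      · simpa using hWD hf R
    have hnot : ∀ f : K, exp ((D - Finsupp.single P (1 : ℤ) : Divisor k K) Q) ≤ Q.1 f →
        f ∉ L (D - Finsupp.single P 1 - Finsupp.single Q 1) := by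
      intro f hf hmem
      have h1 := hf.trans (hmem Q)
      rw [exp_le_exp, Finsupp.sub_apply _ (Finsupp.single Q 1), Finsupp.single_eq_same] at h1
      omega
    rcases eq_or_ne Q P with rfl | hQP
    · obtain ⟨⟨t, ht, htP⟩, -⟩ := hsp
      obtain ⟨i, c, hic⟩ := exists_coord_param hd hj.affine ht htP
      have e : φ i - c • φ j = (ratios φ j i - algebraMap k K c) * φ j := by
        rw [ratios, sub_mul, div_mul_cancel₀ _ hj.1, Algebra.smul_def]
      have hv : Q.1 (φ i - c • φ j) = exp (D Q - 1) := by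
        rw [e, map_mul, hic, hmax Q j hj, ← exp_add]; congr 1; ring
      have hmem : φ i - c • φ j ∈ W :=
        sub_mem (Submodule.subset_span (Set.mem_range_self i))
          (W.smul_mem c (Submodule.subset_span (Set.mem_range_self j)))
      refine ⟨_, hmem, hmemP _ hmem (by rw [hv, exp_lt_exp]; omega), hnot _ ?_⟩
      rw [hv, exp_le_exp, Finsupp.sub_apply, Finsupp.single_eq_same]
    · by_cases hjPQ : P.1 (φ jQ) < exp (D P)
      · have hmem : φ jQ ∈ W := Submodule.subset_span (Set.mem_range_self jQ)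
        refine ⟨_, hmem, hmemP _ hmem hjPQ, hnot _ ?_⟩
        rw [hmax Q jQ hjQ, exp_le_exp, Finsupp.sub_apply, Finsupp.single_eq_of_ne hQP, sub_zero]
      have hjQP : IsMin φ P jQ := ⟨hjQ.1, fun i => by
        rw [← hmax P j hj] at hjPQ
        exact (hj.2 i).trans (not_lt.mp hjPQ)⟩
      have hsp' := sepParam_of_nonsingular hK hd hjQP h
      choose c hc using fun i => exists_const_sub_lt_one (hd P) (hjQP.affine i)
      by_contra! hall
      have hQc : ∀ i, Q.1 (ratios φ jQ i - algebraMap k K (c i)) < 1 := by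
        intro i
        have e : φ i - c i • φ jQ = (ratios φ jQ i - algebraMap k K (c i)) * φ jQ := by
          rw [ratios, sub_mul, div_mul_cancel₀ _ hjQ.1, Algebra.smul_def]
        have hmem : φ i - c i • φ jQ ∈ W :=
          sub_mem (Submodule.subset_span (Set.mem_range_self i))
            (W.smul_mem _ (Submodule.subset_span (Set.mem_range_self jQ)))
        have hPlt : P.1 (φ i - c i • φ jQ) < exp (D P) := by
          rw [e, map_mul, hmax P jQ hjQP]
          exact mul_lt_of_lt_one_left exp_pos (hc i)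
        have h2 := hall _ hmem (hmemP _ hmem hPlt) Q
        rw [e, map_mul, hmax Q jQ hjQ, Finsupp.sub_apply, Finsupp.sub_apply,
          Finsupp.single_eq_same, Finsupp.single_eq_of_ne hQP, sub_zero] at h2
        refine lt_one_iff_le_exp_neg_one.mpr ?_
        rw [exp_sub, div_eq_mul_inv, ← exp_neg] at h2
        rw [mul_comm] at h2
        exact le_of_mul_le_mul_left h2 exp_pos
      have hcong : ∀ a ∈ Algebra.adjoin k (Set.range (ratios φ jQ)), ∃ d : k,
          P.1 (a - algebraMap k K d) < 1 ∧ Q.1 (a - algebraMap k K d) < 1 := by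
        intro a ha
        induction ha using Algebra.adjoin_induction with
        | mem x hx => obtain ⟨i, rfl⟩ := hx; exact ⟨c i, hc i, hQc i⟩
        | algebraMap r => exact ⟨r, by simp, by simp⟩
        | add a b _ _ ha hb =>
          obtain ⟨d, h1, h2⟩ := ha
          obtain ⟨d', h1', h2'⟩ := hb
          refine ⟨d + d', ?_, ?_⟩
          all_goals rw [map_add, add_sub_add_comm]
          · exact Valuation.map_add_lt _ h1 h1'
          · exact Valuation.map_add_lt _ h2 h2'
        | mul a b ha' _ ha hb =>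
          obtain ⟨d, h1, h2⟩ := ha
          obtain ⟨d', h1', h2'⟩ := hb
          have e := fun (R : Place k K) (hRa : R.1 a ≤ 1) (x : R.1 (a - algebraMap k K d) < 1)
              (y : R.1 (b - algebraMap k K d') < 1) =>
            show R.1 (a * b - algebraMap k K (d * d')) < 1 by
              rw [map_mul, show a * b - algebraMap k K d * algebraMap k K d' =
                a * (b - algebraMap k K d') + (a - algebraMap k K d) * algebraMap k K d' by ring]
              refine Valuation.map_add_lt _ ?_ ?_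
              · rw [map_mul]; exact (mul_le_of_le_one_left' hRa).trans_lt y
              · rw [map_mul]; exact (mul_le_of_le_one_right' (R.2.1 _)).trans_lt x
          exact ⟨d * d', e P (hjQP.affine.le_one ha') h1 h1', e Q (hjQ.affine.le_one ha') h2 h2'⟩
      obtain ⟨b, hb, hbP, hbQ⟩ := hsp'.2 Q hQP hjQ.affine
      obtain ⟨d, hdP, hdQ⟩ := hcong b hb
      by_cases hd0 : d = 0
      · rw [hd0, map_zero, sub_zero] at hdP
        have h3 := (P.1.map_sub b (b - 1)).trans_lt (max_lt hdP hbP)
        rw [sub_sub_cancel, map_one] at h3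
        exact lt_irrefl _ h3
      · have h3 := (Q.1.map_sub b (b - algebraMap k K d)).trans_lt (max_lt hbQ hdQ)
        rw [sub_sub_cancel, val_algebraMap Q hd0] at h3
        exact lt_irrefl _ h3
  obtain ⟨f, hf, hf1, hf2⟩ := hex
  have hlt2 : Module.finrank k ↥(W ⊓ L (D - Finsupp.single P 1 - Finsupp.single Q 1)) <
      Module.finrank k ↥(W ⊓ L (D - Finsupp.single P 1)) :=
    Submodule.finrank_lt_finrank_of_lt (lt_of_le_of_ne
      (inf_le_inf_left _ (L_mono (sub_le_self _ (Finsupp.single_nonneg.mpr zero_le_one))))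
      fun e => hf2 (e.symm.le ⟨hf, hf1⟩).2)
  have hlt1 : Module.finrank k ↥(W ⊓ L (D - Finsupp.single P 1)) < Module.finrank k ↥(W ⊓ L D) :=
    Submodule.finrank_lt_finrank_of_lt (lt_of_le_of_ne
      (inf_le_inf_left _ (L_mono (sub_le_self _ (Finsupp.single_nonneg.mpr zero_le_one))))
      fun e => by
        have hjW : φ j ∈ W := Submodule.subset_span (Set.mem_range_self j)
        have := (e.symm.le ⟨hjW, hWD hjW⟩).2 P
        rw [hmax P j hj, exp_le_exp, Finsupp.sub_apply, Finsupp.single_eq_same] at this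
        omega)
  have h1 := finrank_inf_L_step hK hd W D P
  have h2 := finrank_inf_L_step hK hd W (D - Finsupp.single P 1) Q
  have h3 : Module.finrank k ↥(W ⊓ L D) = Module.finrank k ↥W := by rw [inf_eq_left.mpr hWD]
  omega

/-- A nonsingular point satisfies the codimension two condition. -/
theorem codim_of_nonsingular [Nonempty ι] (hne : ∀ i, φ i ≠ 0) {P : Place k K}
    (h : IsNonsingularAt φ P) (Q : Place k K) :
    Module.finrank k ↥(Submodule.span k (Set.range φ) ⊓
        L (mapDiv k φ - Finsupp.single P 1 - Finsupp.single Q 1)) + 2 =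
      Module.finrank k ↥(Submodule.span k (Set.range φ)) := by
  classical
  set W := Submodule.span k (Set.range φ) with hW
  set D := mapDiv k φ
  haveI : FiniteDimensional k W := Module.Finite.span_of_finite k (Set.finite_range φ)
  have hmax : ∀ (R : Place k K) (j : ι), IsMin φ R j → R.1 (φ j) = exp (D R) := by
    intro R j hj
    obtain ⟨i, hi⟩ := (hF).exists_ord_eq_neg_mapDiv φ R
    refine le_antisymm ?_ ?_
    · rw [val_le_exp_iff R hj.1]
      have : -D R ≤ R.ord (φ j) := (hF).ord_ge_neg_mapDiv φ R j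
      omega
    · refine le_trans (le_of_eq ?_) (hj.2 i)
      rw [val_eq_exp_neg_ord R (hne i), hi, neg_neg]
  have hWD : W ≤ L D := by
    rw [hW, Submodule.span_le]
    rintro _ ⟨i, rfl⟩ R
    rw [val_le_exp_iff R (hne i)]
    have : -D R ≤ R.ord (φ i) := (hF).ord_ge_neg_mapDiv φ R i
    omega
  exact codim_of_nonsingular' hK hd ⟨Classical.arbitrary ι, hne _⟩ (D := D) hWD hmax h Q

end FunctionField

end Groth.FunFld1
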