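import Groth.Agent.FunFld1.Basic
import Mathlib.FieldTheory.IntermediateField.Adjoin.Algebra
import Mathlib.RingTheory.Algebraic.Integral
import Mathlib.RingTheory.Valuation.LocalSubring
import Mathlib.RingTheory.AlgebraicIndependent.TranscendenceBasis
import Mathlib.RingTheory.AlgebraicIndependent.AlgebraicClosure
import Mathlib.RingTheory.Valuation.Discrete.IsDiscreteValuationRing

/-!
Function fields of one variable (not assuming the constants algebraically closed):
finiteness over `k(x)`, independence criterion over `k(x)`, valuation rings containing `k` are places.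
-/

set_option linter.style.haveILetI false

namespace Groth.FunFld1

open WithZero FunFld Polynomial
open scoped IntermediateField

variable {k K : Type*} [Field k] [Field K] [Algebra k K]

variable (k K) in
/-- `K` is finite over `k(x)` for some transcendental `x`. -/
def IsFF : Prop :=
  ∃ x : K, Transcendental k x ∧ FiniteDimensional (IntermediateField.adjoin k ({x} : Set K)) K

theorem IsFF.of_isFunctionField (h : IsFunctionField k K) : IsFF k K := h.1

theorem val_eq_one_of_isAlgebraic (P : Place k K) {y : K} (h : IsAlgebraic k y) (hy : y ≠ 0) :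
    P.1 y = 1 := by
  haveI : IsScalarTower k P.O K := IsScalarTower.of_algebraMap_eq fun _ => rfl
  have key : ∀ z : K, IsAlgebraic k z → P.1 z ≤ 1 := by
    intro z hz
    obtain ⟨a, ha⟩ := IsIntegrallyClosed.isIntegral_iff.mp (hz.isIntegral.tower_top (A := P.O))
    exact ha ▸ a.2
  refine le_antisymm (key y h) ?_
  have h1 := key y⁻¹ h.inv
  rw [map_inv₀] at h1
  exact (inv_le_one₀ (zero_lt_iff.mpr (by simpa using hy))).mp h1

theorem transcendental_of_val_lt_one (P : Place k K) {y : K} (hy : y ≠ 0) (h : P.1 y < 1) :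
    Transcendental k y :=
  fun halg => (ne_of_lt h) (val_eq_one_of_isAlgebraic P halg hy)

theorem transcendental_of_one_lt_val (P : Place k K) {y : K} (h : 1 < P.1 y) :
    Transcendental k y :=
  fun halg => (ne_of_gt h) (val_eq_one_of_isAlgebraic P halg (fun h0 => by simp [h0] at h))

open scoped IntermediateField.algebraAdjoinAdjoin in
/-- Criterion for linear independence over `k(x)`: it suffices that constant terms of polynomial
relations vanish. -/
theorem linearIndependent_adjoin {ι : Type*} {x : K} (hx : x ≠ 0) {w : ι → K}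
    (h : ∀ (s : Finset ι) (φ : ι → k[X]), ∑ i ∈ s, aeval x (φ i) * w i = 0 →
      ∀ i ∈ s, (φ i).coeff 0 = 0) :
    LinearIndependent (IntermediateField.adjoin k ({x} : Set K)) w := by
  have key : ∀ (n : ℕ) (s : Finset ι) (φ : ι → k[X]), ∑ i ∈ s, aeval x (φ i) * w i = 0 →
      ∀ i ∈ s, (φ i).coeff n = 0 := by
    intro n
    induction n with
    | zero => exact h
    | succ n ih =>
      intro s φ hφ i hi
      have h0 := h s φ hφ
      have e : ∀ j ∈ s, aeval x (φ j) * w j = x * (aeval x (φ j).divX * w j) := by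
        intro j hj
        conv_lhs => rw [← X_mul_divX_add (φ j), h0 j hj]
        simp [mul_assoc]
      rw [Finset.sum_congr rfl e, ← Finset.mul_sum] at hφ
      have := ih s (fun j => (φ j).divX) ((mul_eq_zero.mp hφ).resolve_left hx) i hi
      rwa [coeff_divX] at this
  refine (LinearIndependent.iff_fractionRing (Algebra.adjoin k ({x} : Set K))
    (IntermediateField.adjoin k ({x} : Set K))).mp ?_
  rw [linearIndependent_iff']
  intro s g hg i hi
  have hr : ∀ j, ∃ q : k[X], aeval x q = (g j : K) := fun j => by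
    exact (Algebra.adjoin_singleton_eq_range_aeval k x).le (g j).2
  choose φ hφ using hr
  have hsum : ∑ j ∈ s, aeval x (φ j) * w j = 0 := by
    rw [← hg]
    exact Finset.sum_congr rfl fun j _ => by rw [hφ]; rfl
  have hz : φ i = 0 := Polynomial.ext fun n => by simpa using key n s φ hsum i hi
  exact Subtype.ext (by rw [← hφ, hz, map_zero]; rfl)

namespace IsFF

theorem trdeg_eq_one (hF : IsFF k K) : Algebra.trdeg k K = 1 := by
  obtain ⟨x, hx, hfin⟩ := hF
  haveI : Algebra.IsAlgebraic (IntermediateField.adjoin k ({x} : Set K)) K :=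
    Algebra.IsAlgebraic.of_finite _ _
  have h1 : AlgebraicIndependent k (fun _ : Unit => x) :=
    algebraicIndependent_unique_type_iff.mpr hx
  have h2 : Algebra.IsAlgebraic (IntermediateField.adjoin k (Set.range fun _ : Unit => x)) K := by
    rw [Set.range_const]; infer_instance
  have h3 : IsTranscendenceBasis k (fun _ : Unit => x) :=
    h1.isTranscendenceBasis_iff_isAlgebraic.mpr
      (IntermediateField.isAlgebraic_adjoin_iff_top.mp h2)
  simpa using h3.lift_cardinalMk_eq_trdeg.symm

theorem finiteDimensional (hF : IsFF k K) {y : K} (hy : Transcendental k y) :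
    FiniteDimensional (IntermediateField.adjoin k ({y} : Set K)) K := by
  have h1 : AlgebraicIndependent k (fun _ : Unit => y) :=
    algebraicIndependent_unique_type_iff.mpr hy
  have h3 : IsTranscendenceBasis k (fun _ : Unit => y) :=
    h1.isTranscendenceBasis_of_lift_trdeg_le_of_finite (by simp [hF.trdeg_eq_one])
  have h4 := h1.isTranscendenceBasis_iff_isAlgebraic.mp h3
  rw [Set.range_const] at h4
  haveI : Algebra.IsAlgebraic (IntermediateField.adjoin k ({y} : Set K)) K :=
    IntermediateField.isAlgebraic_adjoin_iff_top.mpr h4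
  obtain ⟨x, hx, hfin⟩ := hF
  haveI : Algebra.EssFiniteType k (IntermediateField.adjoin k ({x} : Set K)) :=
    IntermediateField.essFiniteType_iff.mpr
      (IntermediateField.fg_adjoin_of_finite (Set.finite_singleton x))
  haveI : Algebra.EssFiniteType k K :=
    Algebra.EssFiniteType.comp k (IntermediateField.adjoin k ({x} : Set K)) K
  haveI : Algebra.EssFiniteType (IntermediateField.adjoin k ({y} : Set K)) K :=
    Algebra.EssFiniteType.of_comp k _ K
  exact Algebra.finite_of_essFiniteType_of_isAlgebraic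

/-- Every valuation ring of `K` containing `k`, other than `K`, is the ring of a place. -/
theorem exists_place_O_eq (hF : IsFF k K) (A : ValuationSubring K)
    (hk : ∀ c : k, algebraMap k K c ∈ A) (hA : A ≠ ⊤) : ∃ P : Place k K, P.O = A := by
  set v := A.valuation with hv
  have htr : ∀ z : K, z ≠ 0 → v z < 1 → Transcendental k z := by
    intro z hz0 hz halg
    letI : Algebra k A := ((algebraMap k K).codRestrict A.toSubring hk).toAlgebra
    haveI : IsScalarTower k A K := IsScalarTower.of_algebraMap_eq fun _ => rfl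
    obtain ⟨a, ha⟩ :=
      IsIntegrallyClosed.isIntegral_iff.mp (halg.inv.isIntegral.tower_top (A := A))
    have h1 : v z⁻¹ ≤ 1 := ha ▸ A.valuation_le_one a
    rw [map_inv₀] at h1
    exact absurd ((inv_le_one₀ (zero_lt_iff.mpr (by simpa using hz0))).mp h1) (not_le.mpr hz)
  have hconst : ∀ c : k, c ≠ 0 → v (algebraMap k K c) = 1 := by
    intro c hc
    refine le_antisymm ((A.valuation_le_one_iff _).mpr (hk c)) ?_
    have h1 := (A.valuation_le_one_iff _).mpr (hk c⁻¹)
    rw [map_inv₀, map_inv₀] at h1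
    exact (inv_le_one₀ (zero_lt_iff.mpr (by simpa using hc))).mp h1
  -- intervals below `1` are finite
  have hfin : ∀ z : K, z ≠ 0 → {γ | v z ≤ γ ∧ γ < 1}.Finite := by
    intro z hz0
    by_contra hinf
    rcases lt_or_ge (v z) 1 with hz | hz
    swap
    · exact hinf (Set.Finite.subset Set.finite_empty fun γ h => absurd (hz.trans h.1) (not_le.mpr h.2))
    haveI := hF.finiteDimensional (htr z hz0 hz)
    set n := Module.finrank (IntermediateField.adjoin k ({z} : Set K)) K
    obtain ⟨T, hT, hTc⟩ := (Set.not_finite.mp hinf).exists_subset_card_eq (n + 1)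
    have hrep : ∀ γ : (T : Set A.ValueGroup), ∃ g : K, v g = γ.1 := fun γ => A.valuation_surjective _
    choose g hg using hrep
    have hli : LinearIndependent (IntermediateField.adjoin k ({z} : Set K)) g := by
      refine linearIndependent_adjoin hz0 fun s φ hs => ?_
      by_contra hne
      push Not at hne
      obtain ⟨i, hi, hi0⟩ := hne
      classical
      obtain ⟨j, hj, hjmax⟩ := (s.filter fun i => (φ i).coeff 0 ≠ 0).exists_max_image
        (fun i => i.1) ⟨i, by simp [hi, hi0]⟩
      simp only [Finset.mem_filter] at hj hjmax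
      have hb : ∀ (q : k[X]), v (aeval z q) ≤ 1 := by
        intro q
        induction q using Polynomial.induction_on' with
        | add p q hp hq => rw [map_add]; exact (v.map_add _ _).trans (max_le hp hq)
        | monomial m c =>
          rw [aeval_monomial, map_mul, map_pow]
          exact mul_le_one' ((A.valuation_le_one_iff _).mpr (hk c)) (pow_le_one₀ zero_le hz.le)
      have hcase : ∀ m ∈ s, (φ m).coeff 0 ≠ 0 → v (aeval z (φ m) * g m) = m.1 := by
        intro m hm hm0
        rw [map_mul, hg]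
        conv_lhs => rw [← X_mul_divX_add (φ m), map_add, map_mul, aeval_X, aeval_C]
        rw [v.map_add_eq_of_lt_right, hconst _ hm0, one_mul]
        rw [map_mul, hconst _ hm0]
        exact (mul_le_of_le_one_right' (hb _)).trans_lt hz
      have hlt : ∀ m ∈ s \ {j}, v (aeval z (φ m) * g m) < v (aeval z (φ j) * g j) := by
        intro m hm
        simp only [Finset.mem_sdiff, Finset.mem_singleton] at hm
        rw [hcase j hj.1 hj.2]
        by_cases hm0 : (φ m).coeff 0 = 0
        · have : aeval z (φ m) = z * aeval z (φ m).divX := by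
            conv_lhs => rw [← X_mul_divX_add (φ m), hm0]
            simp
          rw [this, map_mul, map_mul, hg, mul_assoc]
          calc v z * (v (aeval z (φ m).divX) * m.1) ≤ v z * m.1 :=
                mul_le_mul' le_rfl (mul_le_of_le_one_left' (hb _))
            _ < v z * 1 := mul_lt_mul_of_pos_left (hT m.2).2 (zero_lt_iff.mpr (by simpa using hz0))
            _ ≤ j.1 := by rw [mul_one]; exact (hT j.2).1
        · rw [hcase m hm.1 hm0]
          exact lt_of_le_of_ne (hjmax m ⟨hm.1, hm0⟩) (fun e => hm.2 (Subtype.ext e))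
      have hval := v.map_sum_eq_of_lt hj.1 hlt
      rw [hs, map_zero, hcase j hj.1 hj.2] at hval
      have hjz := (hT j.2).1
      rw [← hval] at hjz
      exact hz0 (by simpa using le_zero_iff.mp hjz)
    have := hli.fintype_card_le_finrank
    simp only [Finset.coe_sort_coe, Fintype.card_coe, hTc] at this
    omega
  -- a largest value below `1`
  obtain ⟨x₀, hx₀⟩ : ∃ x₀ : K, x₀ ≠ 0 ∧ v x₀ < 1 := by
    obtain ⟨y, hy⟩ : ∃ y : K, y ∉ A := by
      by_contra! h
      exact hA (ValuationSubring.ext _ _ fun y => ⟨fun _ => ValuationSubring.mem_top y, fun _ => h y⟩)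
    have hy1 : 1 < v y := not_le.mp (mt (A.valuation_le_one_iff y).mp hy)
    refine ⟨y⁻¹, inv_ne_zero fun h0 => by simp [h0] at hy1, ?_⟩
    rw [map_inv₀]
    exact inv_lt_one_of_one_lt₀ hy1
  have hne : ({γ | v x₀ ≤ γ ∧ γ < 1} : Set A.ValueGroup).Nonempty := ⟨v x₀, le_rfl, hx₀.2⟩
  obtain ⟨γ₀, hγ₀, hmax⟩ := (hfin x₀ hx₀.1).exists_maximalFor id _ hne
  have hmax' : ∀ γ, γ < 1 → γ ≤ γ₀ := by
    intro γ hγ
    by_contra hlt
    push Not at hlt
    exact absurd (hmax ⟨hγ₀.1.trans hlt.le, hγ⟩ hlt.le) (not_le.mpr hlt)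
  have hγ₀0 : γ₀ ≠ 0 := by
    intro h0
    have := hγ₀.1
    rw [h0] at this
    exact hx₀.1 (by simpa using le_zero_iff.mp this)
  -- all values `≤ 1` are powers of `γ₀`
  have hpow : ∀ (N : ℕ) (γ : A.ValueGroup) (hγ : γ ≠ 0), γ ≤ 1 →
      ∀ z : K, v z = γ → {δ | γ ≤ δ ∧ δ < 1}.ncard ≤ N → ∃ n : ℕ, γ = γ₀ ^ n := by
    intro N
    induction N with
    | zero =>
      intro γ hγ h1 z hz hN
      refine ⟨0, ?_⟩
      rw [pow_zero]
      by_contra hne
      have hz0 : z ≠ 0 := fun h0 => hγ (by rw [← hz, h0, map_zero])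
      have hf := hfin z hz0
      rw [hz] at hf
      have := (Set.ncard_pos hf).mpr ⟨γ, le_rfl, lt_of_le_of_ne h1 hne⟩
      omega
    | succ N ih =>
      intro γ hγ h1 z hz hN
      by_cases hne : γ = 1
      · exact ⟨0, by simp [hne]⟩
      have hlt : γ < 1 := lt_of_le_of_ne h1 hne
      have hz0 : z ≠ 0 := fun h0 => hγ (by rw [← hz, h0, map_zero])
      obtain ⟨g₀, hg₀⟩ := A.valuation_surjective γ₀
      have h' : γ / γ₀ ≤ 1 := (div_le_one₀ (zero_lt_iff.mpr hγ₀0)).mpr (hmax' γ hlt)
      have hsub : {δ | γ / γ₀ ≤ δ ∧ δ < 1} ⊂ {δ | γ ≤ δ ∧ δ < 1} := by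
        have hle : γ < γ / γ₀ := by
          rw [lt_div_iff₀ (zero_lt_iff.mpr hγ₀0)]
          exact mul_lt_of_lt_one_right (zero_lt_iff.mpr hγ) hγ₀.2
        exact ⟨fun δ h => ⟨hle.le.trans h.1, h.2⟩, fun h => absurd (h ⟨le_rfl, hlt⟩).1 (not_le.mpr hle)⟩
      have hf := hfin z hz0
      rw [hz] at hf
      have hcard := Set.ncard_lt_ncard hsub hf
      obtain ⟨n, hn⟩ := ih (γ / γ₀) (div_ne_zero hγ hγ₀0) h' (z / g₀)
        (by rw [map_div₀, hz]; exact congrArg _ hg₀) (by omega)
      exact ⟨n + 1, by rw [pow_succ, ← hn, div_mul_cancel₀ _ hγ₀0]⟩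
  obtain ⟨g₀, hg₀⟩ := A.valuation_surjective γ₀
  replace hg₀ : v g₀ = γ₀ := hg₀
  have hgA : g₀ ∈ A := (A.valuation_le_one_iff _).mp (by rw [← hv, hg₀]; exact hγ₀.2.le)
  have hirr : Irreducible (⟨g₀, hgA⟩ : A) := by
    refine ⟨fun hu => ?_, fun a b hab => ?_⟩
    · have h1 := (A.valuation_eq_one_iff _).mp hu
      exact hγ₀.2.ne (hg₀.symm.trans h1)
    · by_contra hc
      push Not at hc
      have hlt : ∀ a : A, ¬ IsUnit a → v a < 1 := fun a ha =>
        lt_of_le_of_ne (A.valuation_le_one a) (mt (A.valuation_eq_one_iff a).mpr ha)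
      have h1 : γ₀ = v a * v b := by rw [← hg₀, ← map_mul]; exact congrArg v (congrArg Subtype.val hab)
      have ha := hmax' _ (hlt a hc.1)
      have : v a * v b < γ₀ :=
        (mul_le_mul' ha le_rfl).trans_lt (mul_lt_of_lt_one_right (zero_lt_iff.mpr hγ₀0) (hlt b hc.2))
      exact this.ne h1.symm
  haveI hdvr : IsDiscreteValuationRing A := by
    refine IsDiscreteValuationRing.ofHasUnitMulPowIrreducibleFactorization
      ⟨⟨g₀, hgA⟩, hirr, fun {a} ha => ?_⟩
    have ha0 : (a : K) ≠ 0 := by simpa using ha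
    obtain ⟨n, hn⟩ := hpow _ (v a) (by simpa using ha0) (A.valuation_le_one a) a rfl le_rfl
    obtain ⟨u, hu⟩ := (A.valuation_eq_iff (a : K) (g₀ ^ n)).mp
      (by rw [← hv, hn, map_pow, hg₀])
    refine ⟨n, u, ?_⟩
    apply Subtype.ext
    push_cast
    rw [mul_comm]
    exact hu
  let w := (IsDiscreteValuationRing.maximalIdeal A).valuation K
  have hiff : ∀ y, w y ≤ 1 ↔ y ∈ A := by
    intro y
    refine ⟨fun h => ?_, fun h => ?_⟩
    · obtain ⟨a, ha⟩ := IsDiscreteValuationRing.exists_lift_of_le_one h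
      exact ha ▸ a.2
    · exact IsDedekindDomain.HeightOneSpectrum.valuation_le_one _ (⟨y, h⟩ : A)
  exact ⟨⟨w, fun c => (hiff _).mpr (hk c),
    IsDedekindDomain.HeightOneSpectrum.valuation_surjective K _⟩, ValuationSubring.ext _ _ hiff⟩

theorem exists_zero_place (hF : IsFF k K) {y : K} (hy : Transcendental k y) :
    ∃ P : Place k K, P.1 y < 1 := by
  let B : Subring K := (Algebra.adjoin k ({y} : Set K)).toSubring
  let yB : B := ⟨y, Algebra.self_mem_adjoin_singleton k y⟩
  have hnu : Ideal.span ({yB} : Set B) ≠ ⊤ := by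
    rw [Ne, Ideal.span_singleton_eq_top]
    rintro ⟨u, hu⟩
    have hinv : (((u⁻¹ : Bˣ) : B) : K) * y = 1 := by
      have := congrArg Subtype.val (Units.inv_mul u)
      rw [Subring.coe_mul, hu] at this
      exact this
    obtain ⟨q, hq⟩ : ∃ q : k[X], aeval y q = (((u⁻¹ : Bˣ) : B) : K) := by
      have h2 : (((u⁻¹ : Bˣ) : B) : K) ∈ Algebra.adjoin k ({y} : Set K) := ((u⁻¹ : Bˣ) : B).2
      rw [Algebra.adjoin_singleton_eq_range_aeval] at h2
      exact h2
    have h0 : q * X - 1 = 0 := by
      by_contra hne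
      exact hy ⟨q * X - 1, hne, by simp [hq, hinv]⟩
    have := congrArg (coeff · 0) h0
    simp at this
  obtain ⟨A, hBA, hmem⟩ := Ideal.image_subset_nonunits_valuationSubring _ hnu
  have hy' : y ∈ A.nonunits := hmem ⟨yB, Ideal.mem_span_singleton_self _, rfl⟩
  have hk : ∀ c : k, algebraMap k K c ∈ A := fun c =>
    hBA (Subalgebra.algebraMap_mem (Algebra.adjoin k ({y} : Set K)) c)
  have hA : A ≠ ⊤ := by
    intro h
    rw [A.mem_nonunits_iff_or] at hy'
    rcases hy' with h0 | h0
    · exact hy (h0 ▸ isAlgebraic_zero)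
    · exact h0 (h ▸ ValuationSubring.mem_top _)
  obtain ⟨P, hP⟩ := hF.exists_place_O_eq A hk hA
  refine ⟨P, not_le.mp fun h1 => ?_⟩
  have hy0 : y ≠ 0 := fun h0 => hy (h0 ▸ isAlgebraic_zero)
  rw [A.mem_nonunits_iff_or] at hy'
  refine hy'.resolve_left hy0 ?_
  rw [← hP]
  show P.1 y⁻¹ ≤ 1
  rw [map_inv₀]
  exact inv_le_one_of_one_le₀ h1

end IsFF

end Groth.FunFld1
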