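import Groth.Agent.FunFld1.Nonsingular
import Groth.Agent.FunFld1.IntClosure
import Mathlib.RingTheory.Polynomial.ScaleRoots
import Mathlib.FieldTheory.Minpoly.IsIntegrallyClosed
import Mathlib.RingTheory.MvPolynomial.Homogeneous
import Mathlib.Algebra.Algebra.Operations
import Mathlib.FieldTheory.IntermediateField.Adjoin.Basic

/-!
Plane models `K = k(l, y)` with all poles of `y` bounded by those of `l`: the equation, the spaces of
polynomials of bounded degree, the genus bound.
-/

set_option linter.style.haveILetI false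
set_option linter.unusedSectionVars false

namespace Groth.FunFld1

open WithZero FunFld Polynomial
open scoped IntermediateField

variable {k K : Type*} [Field k] [Field K] [Algebra k K]

/-- An intermediate field containing a transcendental element is a function field. -/
theorem IsFF.intermediateField (hF : IsFF k K) (E : IntermediateField k K) {t : K} (ht : t ∈ E)
    (htK : Transcendental k t) : IsFF k E ∧ FiniteDimensional E K := by
  haveI := hF.finiteDimensional htK
  have hsub : IntermediateField.adjoin k ({t} : Set K) ≤ E :=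
    IntermediateField.adjoin_simple_le_iff.mpr ht
  letI : Algebra (IntermediateField.adjoin k ({t} : Set K)) E :=
    (IntermediateField.inclusion hsub).toRingHom.toAlgebra
  haveI : IsScalarTower (IntermediateField.adjoin k ({t} : Set K)) E K :=
    IsScalarTower.of_algebraMap_eq fun _ => rfl
  haveI : FiniteDimensional E K :=
    Module.Finite.of_restrictScalars_finite (IntermediateField.adjoin k ({t} : Set K)) E K
  refine ⟨⟨⟨t, ht⟩, fun halg => htK (halg.algHom E.val), ?_⟩, inferInstance⟩
  have e : (IntermediateField.adjoin k ({(⟨t, ht⟩ : E)} : Set E)).map E.val =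
      IntermediateField.adjoin k ({t} : Set K) := by
    rw [IntermediateField.adjoin_map, Set.image_singleton]; rfl
  haveI : FiniteDimensional (IntermediateField.adjoin k ({t} : Set K)) E :=
    FiniteDimensional.left (IntermediateField.adjoin k ({t} : Set K)) E K
  exact Module.Finite.of_equiv_equiv
    ((IntermediateField.equivMap _ E.val).trans (IntermediateField.equivOfEq e)).toRingEquiv.symm
    (RingEquiv.refl E) (RingHom.ext fun a => Subtype.ext (by
      have := congrArg Subtype.val
        (((IntermediateField.equivMap (IntermediateField.adjoin k ({(⟨t, ht⟩ : E)} : Set E)) E.val).trans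
          (IntermediateField.equivOfEq e)).apply_symm_apply a)
      exact this))

theorem mul_mem_L {D E : Divisor k K} {a b : K} (ha : a ∈ L D) (hb : b ∈ L E) :
    a * b ∈ L (D + E) := fun P => by
  rw [map_mul, Finsupp.add_apply, exp_add]
  exact mul_le_mul' (ha P) (hb P)

theorem pow_span_le_L {D : Divisor k K} {W : Submodule k K} (h : W ≤ L D) (m : ℕ) :
    W ^ m ≤ L (m • D) := by
  induction m with
  | zero =>
    rw [pow_zero, zero_smul, Submodule.one_le]
    intro P; simp
  | succ m ih =>
    rw [pow_succ, Submodule.mul_le, succ_nsmul]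
    exact fun a ha b hb => mul_mem_L (ih ha) (h hb)

theorem pow_le_pow_of_one_le {W : Submodule k K} (h : (1 : K) ∈ W) {m n : ℕ} (hmn : m ≤ n) :
    W ^ m ≤ W ^ n := by
  have h1 : (1 : Submodule k K) ≤ W := Submodule.one_le.mpr h
  exact pow_le_pow_right' h1 hmn

theorem val_le_one_of_algebraMap (P : Place k K) (q : k[X]) {l : K} (h : P.1 l ≤ 1) :
    P.1 (aeval l q) ≤ 1 := by
  induction q using Polynomial.induction_on' with
  | add p q hp hq => rw [map_add]; exact Valuation.map_add_le _ hp hq
  | monomial m c =>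
    rw [aeval_monomial, map_mul, map_pow]
    exact mul_le_one' (P.2.1 c) (pow_le_one₀ zero_le h)

theorem val_aeval_of_one_lt (P : Place k K) {q : k[X]} (hq : q ≠ 0) {l : K} (h : 1 < P.1 l) :
    P.1 (aeval l q) = P.1 l ^ q.natDegree := by
  rw [aeval_def, eval₂_eq_sum_range]
  have hlead : P.1 (algebraMap k K (q.coeff q.natDegree) * l ^ q.natDegree) = P.1 l ^ q.natDegree := by
    rw [map_mul, map_pow, val_algebraMap P (show q.coeff q.natDegree ≠ 0 from leadingCoeff_ne_zero.mpr hq), one_mul]
  rw [P.1.map_sum_eq_of_lt (Finset.self_mem_range_succ _) ?_, hlead]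
  intro i hi
  simp only [Finset.mem_sdiff, Finset.mem_range, Finset.mem_singleton] at hi
  rw [hlead, map_mul, map_pow]
  refine (mul_le_of_le_one_left' (P.2.1 _)).trans_lt ?_
  exact pow_lt_pow_right₀ h (by omega)

/-- Elements of `k(l)` with poles bounded by `j` times the poles of `l` are polynomials of degree
`≤ j`. -/
theorem exists_poly_of_mem_adjoin (hF : IsFF k K) [IsAlgClosed k] {l : K} (hl : Transcendental k l)
    {r : K} (hr : r ∈ IntermediateField.adjoin k ({l} : Set K)) (j : ℕ)
    (hb : r ∈ L (j • zeroDiv k l⁻¹)) : ∃ p : k[X], p.natDegree ≤ j ∧ r = aeval l p := by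
  obtain ⟨p₀, q₀, hr0⟩ := (IntermediateField.mem_adjoin_simple_iff k r).mp hr
  by_cases hr00 : r = 0
  · exact ⟨0, by simp, by simp [hr00]⟩
  have hinj := transcendental_iff_injective.mp hl
  obtain ⟨p', q', hcop, g, hp, hq⟩ : ∃ p' q' : k[X], IsCoprime p' q' ∧ ∃ g, p₀ = g * p' ∧ q₀ = g * q' := by
    classical
    have hq0 : q₀ ≠ 0 := by rintro rfl; simp [hr0] at hr00
    obtain ⟨p', hp⟩ := EuclideanDomain.gcd_dvd_left p₀ q₀
    obtain ⟨q', hq⟩ := EuclideanDomain.gcd_dvd_right p₀ q₀
    refine ⟨p', q', ?_, _, hp, hq⟩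
    have hg : EuclideanDomain.gcd p₀ q₀ ≠ 0 := fun h0 => hq0 (by rw [hq, h0, zero_mul])
    obtain ⟨a, b, hab⟩ : ∃ a b, EuclideanDomain.gcd p₀ q₀ = p₀ * a + q₀ * b :=
      ⟨_, _, EuclideanDomain.gcd_eq_gcd_ab p₀ q₀⟩
    refine ⟨a, b, mul_left_cancel₀ hg ?_⟩
    linear_combination -hab - a * hp - b * hq
  have hg : g ≠ 0 := by rintro rfl; simp [hr0, hp] at hr00
  have hgl : aeval l g ≠ 0 := fun h => hg (hinj (h.trans (map_zero _).symm))
  have hq'0 : q' ≠ 0 := by rintro rfl; simp [hr0, hq] at hr00
  have hp'0 : p' ≠ 0 := by rintro rfl; simp [hr0, hp] at hr00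
  have hr' : r = aeval l p' / aeval l q' := by
    rw [hr0, hp, hq, map_mul, map_mul, mul_div_mul_left _ _ hgl]
  have hq'deg : q'.natDegree = 0 := by
    by_contra hne
    obtain ⟨a, ha⟩ := IsAlgClosed.exists_root q' (fun h => hne (natDegree_eq_of_degree_eq_some h))
    obtain ⟨q'', hq''⟩ := dvd_iff_isRoot.mpr ha
    have hla : Transcendental k (l - algebraMap k K a) := fun h =>
      hl (by simpa using h.add (isAlgebraic_algebraMap a))
    obtain ⟨Q, hQ⟩ := hF.exists_zero_place hla
    have hQl : Q.1 l ≤ 1 := by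
      rw [show l = (l - algebraMap k K a) + algebraMap k K a by ring]
      exact Valuation.map_add_le _ hQ.le (Q.2.1 a)
    have hq1 : Q.1 (aeval l q') < 1 := by
      rw [hq'', map_mul, map_sub, aeval_X, aeval_C, map_mul]
      exact (mul_le_of_le_one_right' (val_le_one_of_algebraMap Q q'' hQl)).trans_lt hQ
    have hp1 : Q.1 (aeval l p') = 1 := by
      obtain ⟨u, v, huv⟩ := hcop
      refine le_antisymm (val_le_one_of_algebraMap Q p' hQl) (not_lt.mp fun hlt => ?_)
      have h1 : Q.1 (aeval l (u * p' + v * q')) < 1 := by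
        simp only [map_add, map_mul]
        refine Valuation.map_add_lt _ ?_ ?_
        · rw [map_mul]; exact (mul_le_of_le_one_left' (val_le_one_of_algebraMap Q u hQl)).trans_lt hlt
        · rw [map_mul]; exact (mul_le_of_le_one_left' (val_le_one_of_algebraMap Q v hQl)).trans_lt hq1
      rw [huv, map_one, map_one] at h1
      exact lt_irrefl _ h1
    have hrQ := hb Q
    have hD : zeroDiv k l⁻¹ Q = 0 := by
      rw [hF.zeroDiv_apply, ord_inv]
      have := (val_le_one_iff Q l).mp hQl
      omega
    rw [hr', map_div₀, hp1, Finsupp.smul_apply, hD, smul_zero, exp_zero,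
      div_le_one₀ (zero_lt_iff.mpr ((Valuation.ne_zero_iff _).mpr
        fun h => hq'0 (hinj (h.trans (map_zero _).symm))))] at hrQ
    exact absurd hq1 (not_lt.mpr hrQ)
  obtain ⟨c, rfl⟩ : ∃ c, q' = C c := ⟨_, eq_C_of_natDegree_eq_zero hq'deg⟩
  have hc : c ≠ 0 := fun h => hq'0 (by rw [h, map_zero])
  have hrp : r = aeval l (C c⁻¹ * p') := by
    rw [hr', map_mul, aeval_C, aeval_C, map_inv₀, div_eq_mul_inv, mul_comm]
  refine ⟨C c⁻¹ * p', ?_, hrp⟩
  obtain ⟨Q, hQ⟩ := hF.exists_zero_place (IsFF.transcendental_inv hl)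
  have hQl : 1 < Q.1 l := by
    rw [map_inv₀, inv_lt_one_iff₀] at hQ
    refine hQ.resolve_left fun h0 => hl ?_
    rw [show l = 0 by simpa using le_zero_iff.mp h0]
    exact isAlgebraic_zero
  have hne : C c⁻¹ * p' ≠ 0 := mul_ne_zero (C_ne_zero.mpr (inv_ne_zero hc)) hp'0
  have hrQ := hb Q
  have hpos := (one_lt_val_iff Q l).mp hQl
  rw [hrp, val_aeval_of_one_lt Q hne hQl, val_eq_exp_neg_ord Q (fun h => by simp [h] at hQl),
    ← exp_nsmul, exp_le_exp, Finsupp.smul_apply, hF.zeroDiv_apply, ord_inv,
    max_eq_left (by omega), nsmul_eq_mul, nsmul_eq_mul] at hrQ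
  exact Int.ofNat_le.mp (le_of_mul_le_mul_right hrQ (by omega))

/-- The standard monomials `l^a y^b` with `b < d`, `a + b ≤ m`. -/
def stdIdx (d m : ℕ) : Finset (ℕ × ℕ) :=
  (Finset.range (m + 1) ×ˢ Finset.range d).filter fun p => p.1 + p.2 ≤ m

theorem mem_stdIdx {d m : ℕ} {p : ℕ × ℕ} : p ∈ stdIdx d m ↔ p.2 < d ∧ p.1 + p.2 ≤ m := by
  simp only [stdIdx, Finset.mem_filter, Finset.mem_product, Finset.mem_range]
  omega

theorem two_mul_card_stdIdx {d : ℕ} {m : ℕ} (h : d ≤ m + 1) :
    2 * ((stdIdx d m).card : ℤ) = 2 * d * (m + 1) - d * (d - 1) := by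
  classical
  induction d with
  | zero => simp [stdIdx]
  | succ d ih =>
    have hu : stdIdx (d + 1) m =
        stdIdx d m ∪ (Finset.range (m + 1 - d)).image fun a => (a, d) := by
      ext ⟨a, b⟩
      simp only [Finset.mem_union, mem_stdIdx, Finset.mem_image, Finset.mem_range, Prod.mk.injEq]
      constructor
      · rintro ⟨h1, h2⟩
        by_cases hb : b < d
        · exact Or.inl ⟨hb, h2⟩
        · exact Or.inr ⟨a, by omega, rfl, by omega⟩
      · rintro (⟨h1, h2⟩ | ⟨a', h1, rfl, rfl⟩) <;> omega
    have hdis : Disjoint (stdIdx d m) ((Finset.range (m + 1 - d)).image fun a => (a, d)) := by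
      rw [Finset.disjoint_left]
      intro p hp hp'
      obtain ⟨a, -, rfl⟩ := Finset.mem_image.mp hp'
      have := (mem_stdIdx.mp hp).1
      omega
    rw [hu, Finset.card_union_of_disjoint hdis,
      Finset.card_image_of_injective _ (fun a b h => (Prod.mk.inj h).1), Finset.card_range]
    have hh := ih (by omega)
    push_cast [Nat.cast_sub (show d ≤ m + 1 by omega)]
    linear_combination hh

section Plane

variable [IsAlgClosed k] (hK : IsFunctionField k K) {l y : K} (hl : Transcendental k l)
  (hgen : IntermediateField.adjoin k ({l, y} : Set K) = ⊤) (hy : y ∈ L (zeroDiv k l⁻¹))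
include hK hl hgen hy

local notation "hF" => IsFF.of_isFunctionField hK
set_option quotPrecheck false in
local notation "deg₀" => Module.finrank (IntermediateField.adjoin k (Singleton.singleton l : Set K)) K

omit hy in
theorem plane_minpoly :
    IsIntegral (IntermediateField.adjoin k ({l} : Set K)) y ∧
      (minpoly (IntermediateField.adjoin k ({l} : Set K)) y).natDegree = deg₀ := by
  haveI := (hF).finiteDimensional hl
  have hint := IsIntegral.of_finite (IntermediateField.adjoin k ({l} : Set K)) y
  refine ⟨hint, ?_⟩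
  have htop : IntermediateField.adjoin (IntermediateField.adjoin k ({l} : Set K)) ({y} : Set K) = ⊤ := by
    refine eq_top_iff.mpr fun z _ => ?_
    have hz : z ∈ IntermediateField.adjoin k ({l, y} : Set K) := by rw [hgen]; trivial
    have hle : IntermediateField.adjoin k ({l, y} : Set K) ≤
        (IntermediateField.adjoin (IntermediateField.adjoin k ({l} : Set K)) ({y} : Set K)).restrictScalars k := by
      rw [IntermediateField.adjoin_le_iff]
      rintro w (rfl | rfl)
      · exact IntermediateField.algebraMap_mem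
          (IntermediateField.adjoin (IntermediateField.adjoin k ({w} : Set K)) ({y} : Set K))
          (⟨w, IntermediateField.mem_adjoin_simple_self k w⟩ : IntermediateField.adjoin k ({w} : Set K))
      · exact IntermediateField.mem_adjoin_simple_self _ w
    exact hle hz
  rw [← IntermediateField.adjoin.finrank hint, htop, IntermediateField.finrank_top']

set_option maxHeartbeats 1000000 in
omit hy in
theorem plane_linearIndependent :
    LinearIndependent k (fun p : ℕ × Fin deg₀ => l ^ p.1 * y ^ (p.2 : ℕ)) := by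
  obtain ⟨hint, hdeg⟩ := plane_minpoly hK hl hgen
  let g : IntermediateField.adjoin k ({l} : Set K) := IntermediateField.AdjoinSimple.gen k l
  have hg : LinearIndependent k (fun j : ℕ => g ^ j) := by
    refine LinearIndependent.of_comp (IntermediateField.val _).toLinearMap ?_
    have h1 := (Polynomial.basisMonomials k).linearIndependent.map'
      (aeval l : k[X] →ₐ[k] K).toLinearMap
      (LinearMap.ker_eq_bot.mpr (transcendental_iff_injective.mp hl))
    have e : ⇑(IntermediateField.val (IntermediateField.adjoin k ({l} : Set K))).toLinearMap ∘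
        (fun j : ℕ => g ^ j) = ⇑(aeval l : k[X] →ₐ[k] K).toLinearMap ∘ ⇑(Polynomial.basisMonomials k) := by
      ext j
      simp [g]
    rw [e]; exact h1
  have hyli : LinearIndependent (IntermediateField.adjoin k ({l} : Set K))
      (fun i : Fin deg₀ => y ^ (i : ℕ)) :=
    (linearIndependent_pow (K := IntermediateField.adjoin k ({l} : Set K)) y).comp
      (Fin.cast hdeg.symm) (Fin.cast_injective _)
  exact linearIndependent_smul hg hyli

set_option maxHeartbeats 1000000 in
/-- The equation of the model: `y^d + ∑ pᵢ(l) yⁱ = 0` with `deg pᵢ ≤ d - i`. -/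
theorem plane_equation :
    ∃ p : ℕ → k[X], (∀ i < deg₀, (p i).natDegree ≤ deg₀ - i) ∧
      y ^ deg₀ + ∑ i ∈ Finset.range deg₀, aeval l (p i) * y ^ i = 0 := by
  classical
  obtain ⟨hint, hdeg⟩ := plane_minpoly hK hl hgen
  set E := IntermediateField.adjoin k ({l} : Set K) with hE
  set μ := minpoly E y
  haveI := (hF).finiteDimensional hl
  obtain ⟨hEF, -⟩ := (hF).intermediateField E (IntermediateField.mem_adjoin_simple_self k l) hl
  let lE : E := ⟨l, IntermediateField.mem_adjoin_simple_self k l⟩
  have hcoeff : ∀ i < deg₀, (algebraMap E K (μ.coeff i)) ∈ L ((deg₀ - i) • zeroDiv k l⁻¹) := by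
    intro i hi Q
    obtain ⟨P, hQP⟩ := hEF.exists_isOver Q
    have ho := isOverWith_ramIdx hQP
    obtain ⟨t, ht0, ht⟩ := exists_uniformizer P
    -- a scaling `s` of `y` integral above `P`
    set j : ℤ := max (-P.ord lE) 0 with hj
    set s : E := t ^ j with hs
    have hs0 : s ≠ 0 := zpow_ne_zero _ ht0
    have hsP : P.1 s = exp (-j) := by rw [hs, map_zpow₀, ht, ← exp_zsmul]; simp
    have hbound : ∀ R : Place k K, IsOver R P → R.1 (algebraMap E K s * y) ≤ 1 := by
      intro R hR
      have hoR := isOverWith_ramIdx hR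
      have hlR : R.1 l = P.1 lE ^ ramIdx R P := hoR lE
      rw [map_mul, hoR s, hsP]
      refine (mul_le_mul' le_rfl (hy R)).trans ?_
      rw [(hF).zeroDiv_apply, ord_inv, ← exp_nsmul, ← exp_add, exp_le_one, nsmul_eq_mul]
      have hl0 : l ≠ 0 := fun h => hl (h ▸ isAlgebraic_zero)
      have hordl : R.ord l = (ramIdx R P : ℤ) * P.ord lE := overWith_ord hoR lE
      rw [hordl, hj]
      rcases le_total (-P.ord lE) 0 with h | h
      · have : (ramIdx R P : ℤ) * (-P.ord lE) ≤ 0 := mul_nonpos_of_nonneg_of_nonpos (by positivity) h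
        rw [max_eq_right h, max_eq_right (by linarith)]
        simp
      · have : 0 ≤ (ramIdx R P : ℤ) * (-P.ord lE) := mul_nonneg (by positivity) h
        rw [max_eq_left h, max_eq_left (by linarith)]
        linarith
    letI : Algebra P.O K := ((algebraMap E K).comp P.O.subtype).toAlgebra
    haveI : IsScalarTower P.O E K := IsScalarTower.of_algebraMap_eq fun _ => rfl
    have hzint : IsIntegral P.O (algebraMap E K s * y) :=
      (hEF.mem_integralClosure_iff P _).mpr hbound
    have hmin : minpoly E (algebraMap E K s * y) = μ.scaleRoots s := by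
      refine (minpoly.unique E _ ((monic_scaleRoots_iff s).mpr (minpoly.monic hint))
        (scaleRoots_aeval_eq_zero (minpoly.aeval E y)) fun q hq hq0 => ?_).symm
      have h1 : aeval y (q.scaleRoots s⁻¹) = 0 := by
        have := scaleRoots_aeval_eq_zero (p := q) (r := s⁻¹) hq0
        rwa [← mul_assoc, ← map_mul, inv_mul_cancel₀ hs0, map_one, one_mul] at this
      have h2 := minpoly.degree_le_of_ne_zero E y
        (((monic_scaleRoots_iff s⁻¹).mpr hq).ne_zero) h1
      rw [degree_scaleRoots] at h2
      rwa [degree_scaleRoots]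
    have hcoef : (μ.scaleRoots s).coeff i ∈ P.O := by
      rw [← hmin, minpoly.isIntegrallyClosed_eq_field_fractions' E hzint, coeff_map]
      exact SetLike.coe_mem _
    rw [coeff_scaleRoots, show μ.natDegree = deg₀ from hdeg] at hcoef
    have hc1 : P.1 (μ.coeff i) * P.1 s ^ (deg₀ - i) ≤ 1 := by
      rw [← map_pow, ← map_mul]; exact hcoef
    show Q.1 _ ≤ _
    rw [ho (μ.coeff i), Finsupp.smul_apply, (hF).zeroDiv_apply, ord_inv, nsmul_eq_mul]
    have hordl : Q.ord l = (ramIdx Q P : ℤ) * P.ord lE := overWith_ord ho lE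
    by_cases hc0 : μ.coeff i = 0
    · simp [hc0, zero_pow (overWith_pos ho).ne']
    rw [val_eq_exp_neg_ord P hc0, hsP, ← exp_nsmul, ← exp_add, exp_le_one, nsmul_eq_mul] at hc1
    rw [val_eq_exp_neg_ord P hc0, ← exp_nsmul, exp_le_exp, hordl, nsmul_eq_mul]
    have he : (0 : ℤ) ≤ ramIdx Q P := by positivity
    have h3 := mul_le_mul_of_nonneg_left (show -P.ord (μ.coeff i) ≤ ((deg₀ - i : ℕ) : ℤ) * j by linarith) he
    have hje : (ramIdx Q P : ℤ) * j = max (-((ramIdx Q P : ℤ) * P.ord lE)) 0 := by
      rw [hj, mul_max_of_nonneg _ _ he, mul_neg, mul_zero]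
    rw [← hje]
    linarith
  have hpoly : ∀ i, ∃ q : k[X], i < deg₀ → q.natDegree ≤ deg₀ - i ∧ algebraMap E K (μ.coeff i) = aeval l q := by
    intro i
    by_cases hi : i < deg₀
    · obtain ⟨q, hq1, hq2⟩ := exists_poly_of_mem_adjoin (hF) hl (μ.coeff i).2 _ (hcoeff i hi)
      exact ⟨q, fun _ => ⟨hq1, hq2⟩⟩
    · exact ⟨0, fun h => absurd h hi⟩
  choose p hp using hpoly
  refine ⟨p, fun i hi => (hp i hi).1, ?_⟩
  have h0 := minpoly.aeval E y
  rw [aeval_eq_sum_range, show (minpoly E y).natDegree = deg₀ from hdeg, Finset.sum_range_succ] at h0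
  have hlead : (minpoly E y).coeff deg₀ = 1 := by
    rw [← hdeg]; exact minpoly.monic hint
  rw [hlead, one_smul, add_comm] at h0
  refine Eq.trans ?_ h0
  congr 1
  refine Finset.sum_congr rfl fun i hi => ?_
  rw [Algebra.smul_def, (hp i (Finset.mem_range.mp hi)).2]

end Plane

end Groth.FunFld1
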