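import Groth.Agent.FunFld1.PlaneModel

/-!
Spaces of polynomials of bounded degree on a plane model, the genus bound and its equality case.
-/

set_option linter.style.haveILetI false
set_option linter.unusedSectionVars false

namespace Groth.FunFld1

open WithZero FunFld Polynomial
open scoped IntermediateField

variable {k K : Type*} [Field k] [Field K] [Algebra k K]

/-- The span of `1, l, y`. -/
noncomputable def planeW (k : Type*) {K : Type*} [Field k] [Field K] [Algebra k K] (l y : K) :
    Submodule k K :=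
  Submodule.span k ({1, l, y} : Set K)

theorem mul_pow_mem_planeW (l y : K) (a b : ℕ) : l ^ a * y ^ b ∈ planeW k l y ^ (a + b) := by
  rw [pow_add]
  exact Submodule.mul_mem_mul (Submodule.pow_mem_pow _ (Submodule.subset_span (by simp)) a)
    (Submodule.pow_mem_pow _ (Submodule.subset_span (by simp)) b)

theorem exists_pow_of_mem_adjoin {l y a : K} (ha : a ∈ Algebra.adjoin k ({l, y} : Set K)) :
    ∃ m, a ∈ planeW k l y ^ m := by
  have h1 : (1 : K) ∈ planeW k l y := Submodule.subset_span (by simp)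
  induction ha using Algebra.adjoin_induction with
  | mem x hx =>
    refine ⟨1, ?_⟩
    rw [pow_one]
    exact Submodule.subset_span (Set.mem_insert_of_mem _ hx)
  | algebraMap c => exact ⟨0, by rw [pow_zero]; exact Submodule.mem_one.mpr ⟨c, rfl⟩⟩
  | add a b _ _ ha hb =>
    obtain ⟨m, hm⟩ := ha
    obtain ⟨n, hn⟩ := hb
    exact ⟨max m n, add_mem (pow_le_pow_of_one_le h1 (le_max_left m n) hm)
      (pow_le_pow_of_one_le h1 (le_max_right m n) hn)⟩
  | mul a b _ _ ha hb =>
    obtain ⟨m, hm⟩ := ha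
    obtain ⟨n, hn⟩ := hb
    exact ⟨m + n, by rw [pow_add]; exact Submodule.mul_mem_mul hm hn⟩

theorem pow_span_div_mem {φ : Fin 3 → K} {j : Fin 3} (m : ℕ) {a : K}
    (ha : a ∈ Submodule.span k (Set.range φ) ^ m) :
    a / φ j ^ m ∈ Algebra.adjoin k (Set.range (ratios φ j)) := by
  induction m generalizing a with
  | zero =>
    rw [pow_zero] at ha ⊢
    obtain ⟨c, rfl⟩ := Submodule.mem_one.mp ha
    rw [div_one]
    exact Subalgebra.algebraMap_mem _ c
  | succ m ih =>
    rw [pow_succ] at ha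
    refine Submodule.mul_induction_on ha (fun a ha b hb => ?_) (fun x y hx hy => ?_)
    · rw [pow_succ, mul_div_mul_comm]
      exact mul_mem (ih ha) (div_mem_adjoin_ratios hb)
    · rw [add_div]; exact add_mem hx hy

theorem exists_pow_span_of_mem_ratios {φ : Fin 3 → K} {j : Fin 3} (hj : φ j ≠ 0) {a : K}
    (ha : a ∈ Algebra.adjoin k (Set.range (ratios φ j))) :
    ∃ m, ∀ m' ≥ m, a * φ j ^ m' ∈ Submodule.span k (Set.range φ) ^ m' := by
  set W := Submodule.span k (Set.range φ)
  have hjW : φ j ∈ W := Submodule.subset_span (Set.mem_range_self j)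
  induction ha using Algebra.adjoin_induction with
  | mem x hx =>
    obtain ⟨i, rfl⟩ := hx
    refine ⟨1, fun m' hm => ?_⟩
    obtain ⟨q, rfl⟩ : ∃ q, m' = q + 1 := ⟨m' - 1, by omega⟩
    rw [show ratios φ j i * φ j ^ (q + 1) = φ j ^ q * φ i by
      rw [ratios, pow_succ]; field_simp, pow_succ]
    exact Submodule.mul_mem_mul (Submodule.pow_mem_pow _ hjW q) (Submodule.subset_span (Set.mem_range_self i))
  | algebraMap c =>
    refine ⟨0, fun m' _ => ?_⟩
    rw [← Algebra.smul_def]
    exact Submodule.smul_mem _ c (Submodule.pow_mem_pow _ hjW m')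
  | add a b _ _ ha hb =>
    obtain ⟨m, hm⟩ := ha
    obtain ⟨n, hn⟩ := hb
    exact ⟨max m n, fun q hq => by
      rw [add_mul]
      exact add_mem (hm q (le_of_max_le_left hq)) (hn q (le_of_max_le_right hq))⟩
  | mul a b _ _ ha hb =>
    obtain ⟨m, hm⟩ := ha
    obtain ⟨n, hn⟩ := hb
    refine ⟨m + n, fun q hq => ?_⟩
    obtain ⟨r, rfl⟩ : ∃ r, q = m + r := ⟨q - m, by omega⟩
    rw [pow_add, pow_add, mul_mul_mul_comm]
    exact Submodule.mul_mem_mul (hm m le_rfl) (hn r (by omega))

section Plane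

variable [IsAlgClosed k] (hK : IsFunctionField k K) {l y : K} (hl : Transcendental k l)
  (hgen : IntermediateField.adjoin k ({l, y} : Set K) = ⊤) (hy : y ∈ L (zeroDiv k l⁻¹))
include hK hl hgen hy

local notation "hF" => IsFF.of_isFunctionField hK
set_option quotPrecheck false in
local notation "deg₀" => Module.finrank (IntermediateField.adjoin k (Singleton.singleton l : Set K)) K
set_option quotPrecheck false in
local notation "Dl" => zeroDiv k l⁻¹

theorem planeW_le : planeW k l y ≤ L Dl := by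
  rw [planeW, Submodule.span_le]
  rintro w (rfl | rfl | rfl)
  · intro P
    rw [map_one, one_le_exp]
    exact IsFF.zeroDiv_nonneg (k := k) l⁻¹ P
  · exact fun P => (hF).val_le_exp_zeroDiv_inv w P
  · exact hy

theorem deg_Dl : (Dl).deg = (deg₀ : ℤ) := (hF).deg_poleDiv_eq hl

theorem deg₀_pos : 0 < deg₀ := by
  haveI := (hF).finiteDimensional hl
  exact Module.finrank_pos

theorem planeW_pow_eq (m : ℕ) :
    planeW k l y ^ m =
      Submodule.span k ((fun p : ℕ × ℕ => l ^ p.1 * y ^ p.2) '' (stdIdx deg₀ m : Set (ℕ × ℕ))) := by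
  classical
  obtain ⟨p, hp, heq⟩ := plane_equation hK hl hgen hy
  have hd := deg₀_pos hK hl hgen hy
  set S : ℕ → Submodule k K := fun m =>
    Submodule.span k ((fun p : ℕ × ℕ => l ^ p.1 * y ^ p.2) '' (stdIdx deg₀ m : Set (ℕ × ℕ))) with hS
  have hred : ∀ b m a : ℕ, a + b ≤ m → l ^ a * y ^ b ∈ S m := by
    intro b
    induction b using Nat.strong_induction_on with
    | _ b ih =>
      intro m a hab
      by_cases hb : b < deg₀
      · exact Submodule.subset_span ⟨(a, b), Finset.mem_coe.mpr (mem_stdIdx.mpr ⟨hb, hab⟩), rfl⟩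
      · have hyd : y ^ deg₀ = -∑ i ∈ Finset.range deg₀, aeval l (p i) * y ^ i :=
          eq_neg_of_add_eq_zero_left heq
        obtain ⟨r, rfl⟩ : ∃ r, b = r + deg₀ := ⟨b - deg₀, by omega⟩
        rw [pow_add, hyd, mul_neg, mul_neg, Finset.mul_sum, Finset.mul_sum]
        refine neg_mem (sum_mem fun i hi => ?_)
        have hi' := Finset.mem_range.mp hi
        rw [aeval_eq_sum_range, Finset.sum_mul, Finset.mul_sum, Finset.mul_sum]
        refine sum_mem fun t ht => ?_
        have ht' : t ≤ deg₀ - i := le_trans (Nat.lt_succ_iff.mp (Finset.mem_range.mp ht)) (hp i hi')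
        have e : l ^ a * (y ^ r * ((p i).coeff t • l ^ t * y ^ i)) =
            (p i).coeff t • (l ^ (a + t) * y ^ (r + i)) := by
          simp only [Algebra.smul_def, pow_add]; ring
        rw [e]
        exact Submodule.smul_mem _ _ (ih (r + i) (by omega) m (a + t) (by omega))
  refine le_antisymm ?_ ?_
  · induction m with
    | zero =>
      rw [pow_zero, Submodule.one_le]
      simpa using hred 0 0 0 le_rfl
    | succ m ih =>
      rw [pow_succ]
      refine (mul_le_mul' ih le_rfl).trans ?_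
      rw [planeW, Submodule.span_mul_span, Submodule.span_le]
      rintro _ ⟨_, ⟨⟨a, b⟩, hab, rfl⟩, w, hw, rfl⟩
      have hab' := (mem_stdIdx.mp (Finset.mem_coe.mp hab)).2
      simp only at hab' ⊢
      rcases hw with rfl | rfl | rfl
      · rw [mul_one]; exact hred b (m + 1) a (by omega)
      · rw [show w ^ a * y ^ b * w = w ^ (a + 1) * y ^ b by ring]
        exact hred b (m + 1) (a + 1) (by omega)
      · rw [mul_assoc, ← pow_succ]
        exact hred (b + 1) (m + 1) a (by omega)
  · rw [Submodule.span_le]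
    rintro _ ⟨⟨a, b⟩, hab, rfl⟩
    exact pow_le_pow_of_one_le (Submodule.subset_span (by simp))
      (mem_stdIdx.mp (Finset.mem_coe.mp hab)).2 (mul_pow_mem_planeW l y a b)

theorem finiteDimensional_planeW_pow (m : ℕ) : FiniteDimensional k ↥(planeW k l y ^ m) := by
  rw [planeW_pow_eq hK hl hgen hy m]
  exact Module.Finite.span_of_finite k ((Finset.finite_toSet _).image _)

theorem two_mul_finrank_planeW_pow {m : ℕ} (hm : deg₀ ≤ m + 1) :
    2 * (Module.finrank k ↥(planeW k l y ^ m) : ℤ) =
      2 * deg₀ * (m + 1) - deg₀ * (deg₀ - 1) := by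
  classical
  rw [← two_mul_card_stdIdx hm, planeW_pow_eq hK hl hgen hy m, ← Finset.coe_image]
  have hli : LinearIndependent k (fun p : {p // p ∈ stdIdx deg₀ m} => l ^ p.1.1 * y ^ p.1.2) := by
    refine (plane_linearIndependent hK hl hgen).comp
      (fun p : {p // p ∈ stdIdx deg₀ m} => ((p.1.1, ⟨p.1.2, (mem_stdIdx.mp p.2).1⟩) : ℕ × Fin deg₀)) ?_
    intro a b h
    simp only [Prod.mk.injEq, Fin.mk.injEq] at h
    exact Subtype.ext (Prod.ext h.1 h.2)
  have h1 := finrank_span_eq_card hli
  rw [Fintype.card_coe] at h1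
  have e : Set.range (fun p : {p // p ∈ stdIdx deg₀ m} => l ^ p.1.1 * y ^ p.1.2) =
      ((stdIdx deg₀ m).image fun p : ℕ × ℕ => l ^ p.1 * y ^ p.2 : Finset K) := by
    ext z; simp
  rw [e] at h1
  rw [h1]

theorem ell_nsmul_Dl {m : ℕ} (hm : 2 * genus k K ≤ m) :
    (ell (m • Dl) : ℤ) = deg₀ * m + 1 - genus k K := by
  have hd := deg₀_pos hK hl hgen hy
  have hdeg : (m • Dl).deg = (deg₀ : ℤ) * m := by
    rw [deg_nsmul, deg_Dl hK hl hgen hy]; ring
  have hm' : (m : ℤ) ≤ deg₀ * m := le_mul_of_one_le_left (by positivity) (by exact_mod_cast hd)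
  have := ell_eq_of_deg_ge hK (D := m • Dl) (by rw [hdeg]; omega)
  rw [hdeg] at this
  exact this

theorem planeW_pow_le (m : ℕ) : planeW k l y ^ m ≤ L (m • Dl) :=
  pow_span_le_L (planeW_le hK hl hgen hy) m

/-- The genus bound. -/
theorem plane_genus_le :
    2 * (genus k K : ℤ) ≤ ((deg₀ : ℤ) - 1) * ((deg₀ : ℤ) - 2) := by
  set m := deg₀ + 2 * genus k K
  haveI := (hF).finiteDimensional_L (m • Dl)
  have h1 := Submodule.finrank_mono (planeW_pow_le hK hl hgen hy m)
  have h2 := two_mul_finrank_planeW_pow hK hl hgen hy (m := m) (by omega)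
  have h3 := ell_nsmul_Dl hK hl hgen hy (m := m) (by omega)
  unfold ell at h3
  have h1' : (Module.finrank k ↥(planeW k l y ^ m) : ℤ) ≤ Module.finrank k ↥(L (m • Dl)) := by
    exact_mod_cast h1
  linarith

theorem planeW_pow_eq_L_iff {m : ℕ} (hm : deg₀ + 2 * genus k K ≤ m) :
    planeW k l y ^ m = L (m • Dl) ↔
      2 * (genus k K : ℤ) = ((deg₀ : ℤ) - 1) * ((deg₀ : ℤ) - 2) := by
  haveI := (hF).finiteDimensional_L (m • Dl)
  have h2 := two_mul_finrank_planeW_pow hK hl hgen hy (m := m) (by omega)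
  have h3 := ell_nsmul_Dl hK hl hgen hy (m := m) (by omega)
  unfold ell at h3
  constructor
  · intro h
    rw [h] at h2
    linarith
  · intro h
    refine Submodule.eq_of_le_of_finrank_eq (planeW_pow_le hK hl hgen hy m) ?_
    have : (Module.finrank k ↥(planeW k l y ^ m) : ℤ) = Module.finrank k ↥(L (m • Dl)) := by linarith
    exact_mod_cast this

omit hgen in
theorem isMin_val (R : Place k K) {j : Fin 3} (hj : IsMin ![1, l, y] R j) :
    R.1 (![1, l, y] j) = exp (Dl R) := by
  refine le_antisymm ?_ ?_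
  · have hmem : ∀ i, ![1, l, y] i ∈ L Dl := by
      intro i
      fin_cases i
      · intro P; show P.1 (1 : K) ≤ _
        rw [map_one, one_le_exp]
        exact IsFF.zeroDiv_nonneg (k := k) l⁻¹ P
      · exact fun P => (hF).val_le_exp_zeroDiv_inv l P
      · exact hy
    exact hmem j R
  · have hl0 : l ≠ 0 := fun h => hl (h ▸ isAlgebraic_zero)
    rw [(hF).zeroDiv_apply, ord_inv]
    rcases le_total (-R.ord l) 0 with h | h
    · rw [max_eq_right h, exp_zero]
      simpa using hj.2 0
    · rw [max_eq_left h, ← val_eq_exp_neg_ord R hl0]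
      simpa using hj.2 1

/-- In the equality case the model is nonsingular. -/
theorem nonsingular_of_genus_eq (h : 2 * (genus k K : ℤ) = ((deg₀ : ℤ) - 1) * ((deg₀ : ℤ) - 2))
    (P : Place k K) : IsNonsingularAt ![1, l, y] P := by
  classical
  have hd1 := deg_eq_one_of_isAlgClosed (hF)
  set φ : Fin 3 → K := ![1, l, y] with hφ
  have hW : Submodule.span k (Set.range φ) = planeW k l y := by
    rw [hφ, planeW]
    congr 1
    ext z
    simp [Fin.exists_fin_succ, eq_comm]; tauto
  set m := deg₀ + 2 * genus k K + 1 with hm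
  have heq := (planeW_pow_eq_L_iff hK hl hgen hy (m := m) (by omega)).mpr h
  have hd := deg₀_pos hK hl hgen hy
  have hdeg : (m • Dl).deg = (deg₀ : ℤ) * m := by rw [deg_nsmul, deg_Dl hK hl hgen hy]; ring
  have hm' : (m : ℤ) ≤ deg₀ * m := le_mul_of_one_le_left (by positivity) (by exact_mod_cast hd)
  -- elements of exact order exist
  have hex : ∀ (E : Divisor k K) (R : Place k K), 2 * (genus k K : ℤ) ≤ E.deg →
      ∃ f, f ∈ L E ∧ f ∉ L (E - Finsupp.single R 1) := by
    intro E R hE
    by_contra hc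
    push Not at hc
    haveI := (hF).finiteDimensional_L (E - Finsupp.single R (1 : ℤ))
    have h1 := Submodule.finrank_mono (show L E ≤ L (E - Finsupp.single R (1 : ℤ)) from hc)
    have h2 := ell_eq_of_deg_ge hK (D := E) (by omega)
    have h3 := ell_eq_of_deg_ge hK (D := E - Finsupp.single R 1)
      (by rw [deg_sub, deg_single, hd1]; omega)
    rw [deg_sub, deg_single, hd1] at h3
    unfold ell at h2 h3
    omega
  obtain ⟨j, hj⟩ := exists_isMin (φ := φ) ⟨(0 : Fin 3), by simp [hφ]⟩ P
  have hjP : P.1 (φ j) = exp (Dl P) := isMin_val hK hl hy P hj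
  have hmem : ∀ f ∈ L (m • Dl), f / φ j ^ m ∈ Algebra.adjoin k (Set.range (ratios φ j)) := by
    intro f hf
    rw [← heq, ← hW] at hf
    exact pow_span_div_mem m hf
  have hval : ∀ (R : Place k K) (f : K) (n : ℤ), R.1 f = exp n → R.1 (φ j) = exp (Dl R) →
      R.1 (f / φ j ^ m) = exp (n - m * Dl R) := by
    intro R f n hf hR
    rw [map_div₀, map_pow, hf, hR, ← exp_nsmul, ← exp_sub, nsmul_eq_mul]
  refine nonsingular_of_sepParam hK hd1 hj ⟨?_, fun Q hQ hQa => ?_⟩
  · obtain ⟨f, hf, hfn⟩ := hex (m • Dl - Finsupp.single P 1) P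
      (by rw [deg_sub, deg_single, hd1, hdeg]; omega)
    refine ⟨_, hmem f (L_mono (sub_le_self _ (Finsupp.single_nonneg.mpr zero_le_one)) hf), ?_⟩
    rw [hval P f _ (val_eq_of_not_mem hf hfn) hjP, Finsupp.sub_apply, Finsupp.smul_apply,
      Finsupp.single_eq_same, nsmul_eq_mul]
    congr 1; ring
  · obtain ⟨f, hf, hfn⟩ := hex (m • Dl - Finsupp.single Q 1) P
      (by rw [deg_sub, deg_single, hd1, hdeg]; omega)
    have hfP : P.1 (f / φ j ^ m) = 1 := by
      rw [hval P f _ (val_eq_of_not_mem hf hfn) hjP, Finsupp.sub_apply, Finsupp.smul_apply,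
        Finsupp.single_eq_of_ne hQ.symm, nsmul_eq_mul, sub_zero, sub_self, exp_zero]
    have hjQ : Q.1 (φ j) = exp (Dl Q) :=
      isMin_val hK hl hy Q ⟨hj.1, (isAffine_ratios_iff hj.1).mp hQa⟩
    have hfQ : Q.1 (f / φ j ^ m) < 1 := by
      rw [map_div₀, map_pow, hjQ, div_lt_one₀ (pow_pos exp_pos _)]
      refine (hf Q).trans_lt ?_
      rw [← exp_nsmul, exp_lt_exp, Finsupp.sub_apply, Finsupp.smul_apply, Finsupp.single_eq_same]
      omega
    obtain ⟨c, -, hc⟩ := exists_normalize (hd1 P) hfP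
    refine ⟨algebraMap k K c⁻¹ * (f / φ j ^ m), mul_mem (Subalgebra.algebraMap_mem _ _)
      (hmem f (L_mono (sub_le_self _ (Finsupp.single_nonneg.mpr zero_le_one)) hf)), hc, ?_⟩
    rw [map_mul]
    exact (mul_le_of_le_one_left' (Q.2.1 _)).trans_lt hfQ

/-- A nonsingular model attains the genus bound. -/
theorem genus_eq_of_nonsingular (hns : ∀ P : Place k K, IsNonsingularAt ![1, l, y] P) :
    2 * (genus k K : ℤ) = ((deg₀ : ℤ) - 1) * ((deg₀ : ℤ) - 2) := by
  classical
  have hd1 := deg_eq_one_of_isAlgClosed (hF)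
  set φ : Fin 3 → K := ![1, l, y] with hφ
  have hl0 : l ≠ 0 := fun h => hl (h ▸ isAlgebraic_zero)
  have hW : Submodule.span k (Set.range φ) = planeW k l y := by
    rw [hφ, planeW]
    congr 1
    ext z
    simp [Fin.exists_fin_succ, eq_comm]; tauto
  have hrange : Set.range (ratios φ 0) = insert 1 ({l, y} : Set K) := by
    ext z
    simp [ratios, hφ, Fin.exists_fin_succ, eq_comm]
  have hadj : Algebra.adjoin k (Set.range (ratios φ 0)) = Algebra.adjoin k ({l, y} : Set K) := by
    rw [hrange, Algebra.adjoin_insert_one]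
  -- the affine chart
  have hbir : IntermediateField.adjoin k (Set.range (ratios φ 0)) = ⊤ :=
    top_le_iff.mp (hgen.symm.le.trans (IntermediateField.adjoin.mono _ _ _ (by rw [hrange]; simp)))
  have hmin0 : ∀ Q : Place k K, IsAffine (ratios φ 0) Q → IsMin φ Q 0 := fun Q hQ =>
    ⟨by simp [hφ], (isAffine_ratios_iff (by simp [hφ])).mp hQ⟩
  have hA : ∀ z : K, (∀ Q : Place k K, IsAffine (ratios φ 0) Q → Q.1 z ≤ 1) →
      z ∈ Algebra.adjoin k ({l, y} : Set K) := fun z hz =>
    hadj ▸ mem_adjoin_of_integral hK hd1 (fun Q hQ => sepParam_of_nonsingular hK hd1 (hmin0 Q hQ) (hns Q))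
      hbir hz
  have hL : ∀ m : ℕ, ∀ z ∈ L (m • Dl), ∃ M, z ∈ planeW k l y ^ M := by
    intro m z hz
    refine exists_pow_of_mem_adjoin (hA z fun Q hQ => ?_)
    have h0 : Dl Q = 0 := by
      have h1 : Q.1 l ≤ 1 := by simpa [hφ] using (hmin0 Q hQ).2 1
      rw [(hF).zeroDiv_apply, ord_inv]
      have := (val_le_one_iff Q l).mp h1
      omega
    simpa [Finsupp.smul_apply, h0] using hz Q
  -- the places at infinity
  set T := (Dl).support
  have hT : ∀ Q ∈ T, Q.1 l = exp (Dl Q) ∧ IsMin φ Q 1 := by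
    intro Q hQ
    have h1 : Dl Q ≠ 0 := Finsupp.mem_support_iff.mp hQ
    have h2 : Q.1 l = exp (Dl Q) := by
      rw [(hF).zeroDiv_apply, ord_inv] at h1 ⊢
      rw [max_eq_left (by omega), val_eq_exp_neg_ord Q hl0]
    refine ⟨h2, by simpa [hφ] using hl0, fun i => ?_⟩
    have h3 : φ i ∈ L Dl := planeW_le hK hl hgen hy (hW ▸ Submodule.subset_span (Set.mem_range_self i))
    refine (h3 Q).trans_eq ?_
    simpa [hφ] using h2.symm
  set N := T.sup fun Q => (Dl Q).toNat
  set M₀ := 2 * genus k K + 1 with hM₀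
  haveI := (hF).finiteDimensional_L (M₀ • Dl)
  let bz := Module.finBasis k ↥(L (M₀ • Dl))
  have hs : ∀ i, ∃ s ∈ Algebra.adjoin k (Set.range (ratios φ 1)),
      ∀ Q ∈ T, Q.1 ((bz i : K) / l ^ M₀ - s) ≤ exp (-(N : ℤ)) := by
    intro i
    refine exists_mem_adjoin_approx T (fun Q hQ => (hT Q hQ).2.affine)
      (fun Q hQ => sepParam_of_nonsingular hK hd1 (hT Q hQ).2 (hns Q)) (fun Q _ => hd1 Q) (fun Q hQ => ?_) N
    rw [map_div₀, map_pow, (hT Q hQ).1, div_le_one₀ (pow_pos exp_pos _), ← exp_nsmul]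
    simpa [Finsupp.smul_apply] using (bz i).2 Q
  choose s hsA hsT using hs
  choose ms hms using fun i => exists_pow_span_of_mem_ratios (j := (1 : Fin 3)) (by simpa [hφ] using hl0) (hsA i)
  set M₁ := M₀ + Finset.univ.sup ms with hM₁
  have hd := deg₀_pos hK hl hgen hy
  have hstep : ∀ M, M₁ ≤ M → L (M • Dl) ≤ planeW k l y ^ M ⊔ L ((M - 1) • Dl) := by
    intro M hM
    set a := M - M₀ with ha
    have hlaL : l ^ a ∈ L (a • Dl) := by
      intro Q
      rw [map_pow, Finsupp.smul_apply, exp_nsmul]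
      exact pow_le_pow_left₀ zero_le ((hF).val_le_exp_zeroDiv_inv l Q) a
    let μ : K →ₗ[k] K := LinearMap.mulLeft k (l ^ a)
    have hμ : Function.Injective μ := mul_right_injective₀ (pow_ne_zero a hl0)
    set I := (L (M₀ • Dl)).map μ with hI
    haveI := (hF).finiteDimensional_L (M • Dl)
    have hIle : I ≤ L (M • Dl) := by
      rintro _ ⟨z, hz, rfl⟩
      rw [show M = a + M₀ by omega, add_nsmul]
      exact mul_mem_L hlaL hz
    have hL'le : L ((M - 1) • Dl) ≤ L (M • Dl) :=
      L_mono (nsmul_le_nsmul_left (IsFF.zeroDiv_nonneg _) (by omega))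
    haveI : FiniteDimensional k I := Submodule.finiteDimensional_of_le hIle
    haveI := (hF).finiteDimensional_L ((M - 1) • Dl)
    have hinf : I ⊓ L ((M - 1) • Dl) ≤ (L ((M₀ - 1) • Dl)).map μ := by
      rintro _ ⟨⟨z, hz, rfl⟩, hz2⟩
      refine ⟨z, fun Q => ?_, rfl⟩
      by_cases hQ : Q ∈ T
      · have h1 := hz2 Q
        rw [show μ z = l ^ a * z from rfl, map_mul, map_pow, (hT Q hQ).1, ← exp_nsmul,
          Finsupp.smul_apply] at h1
        by_cases hz0 : z = 0
        · simp [hz0]
        rw [val_eq_exp_neg_ord Q hz0, ← exp_add, exp_le_exp] at h1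
        rw [val_eq_exp_neg_ord Q hz0, exp_le_exp, Finsupp.smul_apply]
        rw [nsmul_eq_mul, nsmul_eq_mul] at *
        have hc : ((M - 1 : ℕ) : ℤ) = (a : ℤ) + ((M₀ - 1 : ℕ) : ℤ) := by omega
        rw [hc, add_mul] at h1
        linarith
      · have h1 : Dl Q = 0 := Finsupp.notMem_support_iff.mp hQ
        have h2 := hz Q
        rw [Finsupp.smul_apply, h1, smul_zero] at h2
        rw [Finsupp.smul_apply, h1, smul_zero]
        exact h2
    have hsum : I ⊔ L ((M - 1) • Dl) = L (M • Dl) := by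
      refine Submodule.eq_of_le_of_finrank_le (sup_le hIle hL'le) ?_
      have e1 := Submodule.finrank_sup_add_finrank_inf_eq I (L ((M - 1) • Dl))
      haveI := (hF).finiteDimensional_L ((M₀ - 1) • Dl)
      have e2 := (Submodule.finrank_mono hinf).trans
        (Submodule.finrank_map_le μ (L ((M₀ - 1) • Dl)))
      have e3 : Module.finrank k I = Module.finrank k ↥(L (M₀ • Dl)) :=
        (Submodule.equivMapOfInjective μ hμ _).finrank_eq.symm
      have g1 := ell_nsmul_Dl hK hl hgen hy (m := M₀) (by omega)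
      have g2 := ell_nsmul_Dl hK hl hgen hy (m := M₀ - 1) (by omega)
      have g3 := ell_nsmul_Dl hK hl hgen hy (m := M) (by omega)
      have g4 := ell_nsmul_Dl hK hl hgen hy (m := M - 1) (by omega)
      unfold ell at g1 g2 g3 g4
      rw [Nat.cast_sub (by omega)] at g2 g4
      push_cast at g2 g4
      zify
      zify at e1 e2 e3
      linarith
    rw [← hsum]
    refine sup_le ?_ le_sup_right
    rintro _ ⟨z, hz, rfl⟩
    rw [← Submodule.coe_mk z hz, ← bz.sum_repr ⟨z, hz⟩, Submodule.coe_sum, map_sum]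
    refine sum_mem fun i _ => ?_
    rw [Submodule.coe_smul, map_smul]
    refine Submodule.smul_mem _ _ ?_
    have hsW : s i * l ^ M ∈ planeW k l y ^ M := by
      have := hms i M (le_trans (Finset.le_sup (Finset.mem_univ i)) (by omega))
      rwa [hW, show φ 1 = l from rfl] at this
    refine Submodule.mem_sup.mpr ⟨_, hsW, μ (bz i : K) - s i * l ^ M, fun Q => ?_, add_sub_cancel _ _⟩
    by_cases hQ : Q ∈ T
    · have e : μ (bz i : K) - s i * l ^ M = ((bz i : K) / l ^ M₀ - s i) * l ^ M := by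
        rw [show μ (bz i : K) = l ^ a * (bz i : K) from rfl, sub_mul, show M = M₀ + a by omega, pow_add,
          ← mul_assoc (_ / _), div_mul_cancel₀ _ (pow_ne_zero _ hl0), mul_comm]
      rw [e, map_mul, map_pow, (hT Q hQ).1, ← exp_nsmul, Finsupp.smul_apply]
      refine (mul_le_mul' (hsT i Q hQ) le_rfl).trans ?_
      rw [← exp_add, exp_le_exp, nsmul_eq_mul, nsmul_eq_mul]
      have h1 : (Dl Q).toNat ≤ N := Finset.le_sup (f := fun Q : Place k K => (Dl Q).toNat) hQ
      have h2 : ((M - 1 : ℕ) : ℤ) = (M : ℤ) - 1 := by omega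
      rw [h2, sub_mul, one_mul]
      omega
    · have h1 : Dl Q = 0 := Finsupp.notMem_support_iff.mp hQ
      rw [Finsupp.smul_apply, h1, smul_zero]
      refine Valuation.map_sub_le _ ?_ ?_
      · simpa [Finsupp.smul_apply, h1] using (hIle ⟨_, (bz i).2, rfl⟩ : μ (bz i : K) ∈ L (M • Dl)) Q
      · simpa [Finsupp.smul_apply, h1] using planeW_pow_le hK hl hgen hy M hsW Q
  have hall : ∀ M, M₁ ≤ M → L (M • Dl) ≤ planeW k l y ^ M ⊔ L (M₁ • Dl) := by
    intro M hM
    induction M, hM using Nat.le_induction with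
    | base => exact le_sup_right
    | succ M hM ih =>
      refine (hstep (M + 1) (by omega)).trans (sup_le le_sup_left ?_)
      rw [Nat.add_sub_cancel]
      exact ih.trans (sup_le_sup_right
        (pow_le_pow_of_one_le (Submodule.subset_span (by simp)) (Nat.le_succ M)) _)
  haveI := (hF).finiteDimensional_L (M₁ • Dl)
  let b1 := Module.finBasis k ↥(L (M₁ • Dl))
  choose Ms hMs using fun i => hL M₁ (b1 i : K) (b1 i).2
  set M := M₁ + deg₀ + 2 * genus k K + Finset.univ.sup Ms
  refine (planeW_pow_eq_L_iff hK hl hgen hy (m := M) (by omega)).mp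
    (le_antisymm (planeW_pow_le hK hl hgen hy M) ((hall M (by omega)).trans (sup_le le_rfl ?_)))
  intro z hz
  rw [← Submodule.coe_mk z hz, ← b1.sum_repr ⟨z, hz⟩, Submodule.coe_sum]
  exact sum_mem fun i _ => Submodule.smul_mem _ _ (pow_le_pow_of_one_le (Submodule.subset_span (by simp))
    (le_trans (Finset.le_sup (Finset.mem_univ i)) (by omega)) (hMs i))

end Plane

/-- Coordinates adapted to a plane model `K = k(x, y)`. -/
theorem exists_plane_coord [IsAlgClosed k] (hK : IsFunctionField k K) {x y : K}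
    (hxy : IntermediateField.adjoin k ({x, y} : Set K) = ⊤) :
    ∃ c : k, Transcendental k (x + c • y) ∧
      IntermediateField.adjoin k ({x + c • y, y} : Set K) = ⊤ ∧
      zeroDiv k (x + c • y)⁻¹ = mapDiv k ![(1 : K), x, y] ∧
      y ∈ L (zeroDiv k (x + c • y)⁻¹) ∧
      Submodule.span k (Set.range ![(1 : K), x, y]) = planeW k (x + c • y) y := by
  classical
  have hF := IsFF.of_isFunctionField hK
  set D := mapDiv k ![(1 : K), x, y] with hD
  have hge : ∀ (Q : Place k K), 0 ≤ D Q ∧ -Q.ord x ≤ D Q ∧ -Q.ord y ≤ D Q := fun Q => by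
    have h0 := hF.ord_ge_neg_mapDiv ![(1 : K), x, y] Q 0
    have h1 := hF.ord_ge_neg_mapDiv ![(1 : K), x, y] Q 1
    have h2 := hF.ord_ge_neg_mapDiv ![(1 : K), x, y] Q 2
    simp only [← hD, Matrix.cons_val_zero, Matrix.cons_val_one, Matrix.cons_val, ord_one] at h0 h1 h2
    omega
  have hxD : ∀ Q : Place k K, Q.1 x ≤ exp (D Q) ∧ Q.1 y ≤ exp (D Q) := fun Q => by
    obtain ⟨h0, h1, h2⟩ := hge Q
    constructor
    · by_cases h : x = 0
      · simp [h]
      · rw [val_le_exp_iff Q h]; exact h1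
    · by_cases h : y = 0
      · simp [h]
      · rw [val_le_exp_iff Q h]; exact h2
  have hbad : ∀ Q ∈ D.support, {c : k | Q.1 (x + c • y) < exp (D Q)}.Subsingleton := by
    intro Q hQ c hc c' hc'
    by_contra hne
    have hpos : 0 < D Q := lt_of_le_of_ne (hge Q).1 (Finsupp.mem_support_iff.mp hQ).symm
    have hy' : Q.1 y < exp (D Q) := by
      have h1 := (Q.1.map_sub _ _).trans_lt (max_lt hc hc')
      rw [add_sub_add_left_eq_sub, ← sub_smul, Algebra.smul_def, map_mul,
        val_algebraMap Q (sub_ne_zero.mpr hne), one_mul] at h1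
      exact h1
    have hx' : Q.1 x < exp (D Q) := by
      rw [show x = (x + c • y) - c • y by ring]
      refine (Q.1.map_sub _ _).trans_lt (max_lt hc ?_)
      rw [Algebra.smul_def, map_mul]
      exact (mul_le_of_le_one_left' (Q.2.1 c)).trans_lt hy'
    obtain ⟨i, hi⟩ := hF.exists_ord_eq_neg_mapDiv ![(1 : K), x, y] Q
    rw [← hD] at hi
    fin_cases i
    · simp at hi; omega
    · simp at hi
      by_cases h : x = 0
      · simp [h] at hi; omega
      · rw [val_eq_exp_neg_ord Q h, exp_lt_exp] at hx'; omega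
    · simp at hi
      by_cases h : y = 0
      · simp [h] at hi; omega
      · rw [val_eq_exp_neg_ord Q h, exp_lt_exp] at hy'; omega
  obtain ⟨c, hc⟩ : ∃ c : k, ∀ Q ∈ D.support, ¬ Q.1 (x + c • y) < exp (D Q) := by
    by_contra! h
    refine Set.infinite_univ (α := k)
      ((D.support.finite_toSet.biUnion fun Q hQ => (hbad Q hQ).finite).subset fun c _ => ?_)
    obtain ⟨Q, hQ, hQc⟩ := h c
    exact Set.mem_biUnion (Finset.mem_coe.mpr hQ) hQc
  set l := x + c • y with hl
  have hle : ∀ Q : Place k K, Q.1 l ≤ exp (D Q) := fun Q => by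
    refine Valuation.map_add_le _ (hxD Q).1 ?_
    rw [Algebra.smul_def, map_mul]
    exact (mul_le_of_le_one_left' (Q.2.1 c)).trans (hxD Q).2
  have hgen : IntermediateField.adjoin k ({l, y} : Set K) = ⊤ := by
    refine top_le_iff.mp (hxy.symm.le.trans (IntermediateField.adjoin_le_iff.mpr ?_))
    have hmy : y ∈ IntermediateField.adjoin k ({l, y} : Set K) :=
      IntermediateField.subset_adjoin k _ (by simp)
    rintro w (rfl | rfl)
    · have hml : l ∈ IntermediateField.adjoin k ({l, y} : Set K) :=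
        IntermediateField.subset_adjoin k _ (by simp)
      have h' := sub_mem hml (IntermediateField.smul_mem _ hmy (x := c))
      rwa [hl, add_sub_cancel_right] at h'
    · exact hmy
  have hzero : zeroDiv k l⁻¹ = D := by
    ext Q
    rw [hF.zeroDiv_apply, ord_inv]
    have h1 := hle Q
    by_cases hQ : Q ∈ D.support
    · have h2 := le_antisymm h1 (not_lt.mp (hc Q hQ))
      rw [ord_eq_of_val_eq Q h2]
      have := (hge Q).1
      omega
    · rw [Finsupp.notMem_support_iff.mp hQ] at h1 ⊢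
      rw [exp_zero, val_le_one_iff] at h1
      omega
  refine ⟨c, ?_, hgen, hzero, hzero ▸ fun Q => (hxD Q).2, ?_⟩
  · by_contra halg
    obtain ⟨e, he⟩ := hK.2 l (not_not.mp halg)
    have hzero' : zeroDiv k l⁻¹ = 0 := by
      ext Q
      rw [hF.zeroDiv_apply, ord_inv, ← he, ord_algebraMap]
      rfl
    rw [hzero] at hzero'
    have hbot : IntermediateField.adjoin k ({x, y} : Set K) ≤ ⊥ := by
      rw [IntermediateField.adjoin_le_iff]
      have hall : ∀ Q : Place k K, Q.1 x ≤ 1 ∧ Q.1 y ≤ 1 := fun Q => by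
        simpa [hzero'] using hxD Q
      rintro w (rfl | rfl) <;>
      · rw [SetLike.mem_coe, IntermediateField.mem_bot]
        by_contra hn
        obtain ⟨Q, hQ⟩ := exists_pole_of_notMem hK hn
        have h1 := (one_lt_val_iff Q _).mpr hQ
        first
          | exact absurd (hall Q).1 (not_le.mpr h1)
          | exact absurd (hall Q).2 (not_le.mpr h1)
    obtain ⟨⟨w, hw, -⟩, -⟩ := id hK
    rw [hxy] at hbot
    obtain ⟨e, rfl⟩ := IntermediateField.mem_bot.mp (hbot (IntermediateField.mem_top (x := w)))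
    exact hw (isAlgebraic_algebraMap e)
  · rw [planeW]
    refine le_antisymm (Submodule.span_le.mpr ?_) (Submodule.span_le.mpr ?_)
    · rintro _ ⟨i, rfl⟩
      fin_cases i
      · exact Submodule.subset_span (by simp)
      · show x ∈ _
        rw [show x = l - c • y from (add_sub_cancel_right x (c • y)).symm]
        exact sub_mem (Submodule.subset_span (by simp))
          (Submodule.smul_mem _ c (Submodule.subset_span (by simp)))
      · exact Submodule.subset_span (by simp)
    · rintro w (rfl | rfl | rfl)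
      · exact Submodule.subset_span ⟨0, rfl⟩
      · exact add_mem (Submodule.subset_span ⟨1, rfl⟩)
          (Submodule.smul_mem _ c (Submodule.subset_span ⟨2, rfl⟩))
      · exact Submodule.subset_span ⟨2, rfl⟩

end Groth.FunFld1
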