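import Groth.Agent.FunFld1.PlaneModel
import Groth.Agent.FunFld1.Extension
import Mathlib.RingTheory.PowerBasis
import Mathlib.RingTheory.Polynomial.DegreeLT
import Mathlib.FieldTheory.Minpoly.Field

/-!
Quadratic extensions `y² = f(x)` of the rational function field in characteristic different from 2.
-/

set_option linter.style.haveILetI false
set_option linter.unusedSectionVars false

open FunFld WithZero Polynomial
open scoped IntermediateField

namespace Groth.FunFld1

variable {k K : Type*} [Field k] [Field K] [Algebra k K]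

theorem transcendental_aeval {x : K} (hx : Transcendental k x) {s : k[X]} (hs : s.natDegree ≠ 0) :
    Transcendental k (aeval x s) := by
  rintro ⟨q, hq0, hq⟩
  refine hx ⟨q.comp s, fun h => ?_, by rw [aeval_comp, hq]⟩
  rcases comp_eq_zero_iff.mp h with h1 | ⟨-, h2⟩
  · exact hq0 h1
  · exact hs (by rw [h2, natDegree_C])

/-- An element of `k(x)` without poles outside the poles of `x` is a polynomial in `x`. -/
theorem exists_poly_of_forall_le_one (hF : IsFF k K) {x : K} (hx : Transcendental k x) {a : K}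
    (ha : a ∈ IntermediateField.adjoin k ({x} : Set K))
    (h : ∀ Q : Place k K, Q.1 x ≤ 1 → Q.1 a ≤ 1) : ∃ q : k[X], a = aeval x q := by
  classical
  obtain ⟨r, s, rfl⟩ := (IntermediateField.mem_adjoin_simple_iff k _).1 ha
  by_cases hs : aeval x s = 0
  · exact ⟨0, by simp [hs]⟩
  have hs0 : s ≠ 0 := fun e => hs (by simp [e])
  set g := EuclideanDomain.gcd r s
  have hg0 : g ≠ 0 := fun e => hs0 (EuclideanDomain.gcd_eq_zero_iff.mp e).2
  obtain ⟨r', hr'⟩ : g ∣ r := EuclideanDomain.gcd_dvd_left r s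
  obtain ⟨s', hs'⟩ : g ∣ s := EuclideanDomain.gcd_dvd_right r s
  have hcop : IsCoprime r' s' := by
    refine ⟨EuclideanDomain.gcdA r s, EuclideanDomain.gcdB r s, ?_⟩
    have hb := EuclideanDomain.gcd_eq_gcd_ab r s
    apply mul_left_cancel₀ hg0
    linear_combination EuclideanDomain.gcdA r s * hr'.symm + EuclideanDomain.gcdB r s * hs'.symm - hb
  clear_value g
  have hgx : aeval x g ≠ 0 := fun e => hs (by rw [hs', map_mul, e, zero_mul])
  have hs'x : aeval x s' ≠ 0 := fun e => hs (by rw [hs', map_mul, e, mul_zero])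
  have hratio : aeval x r / aeval x s = aeval x r' / aeval x s' := by
    rw [hr', hs', map_mul, map_mul, mul_div_mul_left _ _ hgx]
  rw [hratio] at h ⊢
  by_cases hdeg : s'.natDegree = 0
  · refine ⟨C (s'.coeff 0)⁻¹ * r', ?_⟩
    rw [eq_C_of_natDegree_eq_zero hdeg, aeval_C, map_mul, aeval_C, map_inv₀, coeff_C_zero]
    exact (inv_mul_eq_div _ _).symm
  exfalso
  obtain ⟨Q, hQ⟩ := hF.exists_zero_place (transcendental_aeval hx hdeg)
  have hx1 : Q.1 x ≤ 1 := by
    refine not_lt.mp fun hlt => ?_
    rw [val_aeval_of_one_lt Q (fun e => hdeg (by rw [e, natDegree_zero])) hlt] at hQ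
    exact absurd hQ (not_lt.mpr (one_le_pow_of_one_le' hlt.le _))
  obtain ⟨u, v, huv⟩ := hcop
  have hrQ : Q.1 (aeval x r') = 1 := by
    refine le_antisymm (val_le_one_of_algebraMap Q r' hx1) (not_lt.mp fun hlt => ?_)
    have h1 := congrArg (aeval x) huv
    rw [map_add, map_mul, map_mul, map_one] at h1
    have h2 : Q.1 (aeval x u * aeval x r' + aeval x v * aeval x s') < 1 := by
      refine (Q.1.map_add _ _).trans_lt (max_lt ?_ ?_)
      · rw [map_mul]; exact (mul_le_of_le_one_left' (val_le_one_of_algebraMap Q u hx1)).trans_lt hlt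
      · rw [map_mul]; exact (mul_le_of_le_one_left' (val_le_one_of_algebraMap Q v hx1)).trans_lt hQ
    rw [h1, map_one] at h2
    exact lt_irrefl 1 h2
  have hpos : 0 < Q.1 (aeval x s') := zero_lt_iff.mpr (by simpa using hs'x)
  have := h Q hx1
  rw [map_div₀, hrQ, div_le_one₀ hpos] at this
  exact absurd this (not_le.mpr hQ)

/-- `L(n (x)_∞) ∩ k(x)` consists of the polynomials of degree at most `n`. -/
theorem mem_L_adjoin_iff (hF : IsFF k K) {x : K} (hx : Transcendental k x) {a : K}
    (ha : a ∈ IntermediateField.adjoin k ({x} : Set K)) (n : ℕ) :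
    a ∈ L (n • zeroDiv k x⁻¹) ↔ ∃ q : k[X], q.natDegree ≤ n ∧ a = aeval x q := by
  have hD : ∀ Q : Place k K, (n • zeroDiv k x⁻¹ : Divisor k K) Q = n * max (-Q.ord x) 0 := fun Q => by
    rw [Finsupp.smul_apply, hF.zeroDiv_apply, ord_inv, nsmul_eq_mul]
  constructor
  · intro h
    obtain ⟨q, rfl⟩ := exists_poly_of_forall_le_one hF hx ha fun Q hQ => by
      have h1 := h Q
      rw [hD, max_eq_right (by have := (val_le_one_iff Q x).mp hQ; omega), mul_zero, exp_zero] at h1
      exact h1
    refine ⟨q, ?_, rfl⟩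
    by_cases hq : q = 0
    · simp [hq]
    obtain ⟨Q, hQ⟩ := hF.exists_zero_place (IsFF.transcendental_inv hx)
    have hlt : 1 < Q.1 x := by
      rw [map_inv₀] at hQ
      exact (inv_lt_one₀ (zero_lt_iff.mpr fun e => hx (by rw [(Valuation.zero_iff _).mp e]; exact isAlgebraic_zero))).mp hQ
    have ho := (one_lt_val_iff Q x).mp hlt
    have hx0 : x ≠ 0 := fun e => hx (e ▸ isAlgebraic_zero)
    have h1 := h Q
    rw [hD, max_eq_left (by omega), val_aeval_of_one_lt Q hq hlt, val_eq_exp_neg_ord Q hx0, ← exp_nsmul,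
      exp_le_exp, nsmul_eq_mul] at h1
    have := le_of_mul_le_mul_right h1 (by omega : (0:ℤ) < -Q.ord x)
    exact_mod_cast this
  · rintro ⟨q, hq, rfl⟩ Q
    rw [hD]
    by_cases hle : Q.1 x ≤ 1
    · refine (val_le_one_of_algebraMap Q q hle).trans ?_
      rw [← exp_zero, exp_le_exp]
      positivity
    · by_cases hq0 : q = 0
      · simp [hq0]
      have hlt := not_le.mp hle
      have ho := (one_lt_val_iff Q x).mp hlt
      have hx0 : x ≠ 0 := fun e => hx (e ▸ isAlgebraic_zero)
      rw [max_eq_left (by omega), val_aeval_of_one_lt Q hq0 hlt, val_eq_exp_neg_ord Q hx0, ← exp_nsmul,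
        exp_le_exp, nsmul_eq_mul]
      exact mul_le_mul_of_nonneg_right (by exact_mod_cast hq) (by omega)

theorem isUnit_of_sq_dvd {f v : k[X]} (hf : Squarefree f) (h : v ^ 2 ∣ f) : IsUnit v :=
  hf v (by rwa [pow_two] at h)

/-- If `f b²` is a polynomial with `f` squarefree, then `b` is a polynomial. -/
theorem exists_poly_of_mul_sq {x : K} (hx : Transcendental k x) {f h : k[X]} (hf : Squarefree f)
    {b : K} (hb : b ∈ IntermediateField.adjoin k ({x} : Set K))
    (he : aeval x f * b ^ 2 = aeval x h) : ∃ q : k[X], b = aeval x q := by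
  classical
  have hinj := transcendental_iff_injective.mp hx
  obtain ⟨r, s, rfl⟩ := (IntermediateField.mem_adjoin_simple_iff k _).1 hb
  by_cases hs : aeval x s = 0
  · exact ⟨0, by simp [hs]⟩
  have hs0 : s ≠ 0 := fun e => hs (by simp [e])
  set g := EuclideanDomain.gcd r s
  have hg0 : g ≠ 0 := fun e => hs0 (EuclideanDomain.gcd_eq_zero_iff.mp e).2
  obtain ⟨r', hr'⟩ : g ∣ r := EuclideanDomain.gcd_dvd_left r s
  obtain ⟨s', hs'⟩ : g ∣ s := EuclideanDomain.gcd_dvd_right r s
  have hcop : IsCoprime r' s' := by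
    refine ⟨EuclideanDomain.gcdA r s, EuclideanDomain.gcdB r s, ?_⟩
    have hb := EuclideanDomain.gcd_eq_gcd_ab r s
    apply mul_left_cancel₀ hg0
    linear_combination EuclideanDomain.gcdA r s * hr'.symm + EuclideanDomain.gcdB r s * hs'.symm - hb
  clear_value g
  have hgx : aeval x g ≠ 0 := fun e => hs (by rw [hs', map_mul, e, zero_mul])
  have hs'x : aeval x s' ≠ 0 := fun e => hs (by rw [hs', map_mul, e, mul_zero])
  have hratio : aeval x r / aeval x s = aeval x r' / aeval x s' := by
    rw [hr', hs', map_mul, map_mul, mul_div_mul_left _ _ hgx]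
  rw [hratio] at he ⊢
  have he' : f * r' ^ 2 = h * s' ^ 2 := hinj (by
    rw [div_pow, mul_div_assoc', div_eq_iff (pow_ne_zero 2 hs'x)] at he
    simpa [map_mul, map_pow] using he)
  have hdvd : s' ^ 2 ∣ f := (hcop.symm.pow).dvd_of_dvd_mul_right ⟨h, by rw [he', mul_comm]⟩
  obtain ⟨c, hc, hcs⟩ := Polynomial.isUnit_iff.mp (isUnit_of_sq_dvd hf hdvd)
  refine ⟨C c⁻¹ * r', ?_⟩
  rw [← hcs, aeval_C, map_mul, aeval_C, map_inv₀]
  exact (inv_mul_eq_div _ _).symm

variable {x y : K} {f : k[X]}

/-- Hypotheses `y² = f(x)`. -/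
structure HyperEll (x y : K) (f : k[X]) : Prop where
  two_ne : (2 : k) ≠ 0
  tr : Transcendental k x
  gen : IntermediateField.adjoin k ({x, y} : Set K) = ⊤
  sf : Squarefree f
  pos : 1 ≤ f.natDegree
  eqn : y ^ 2 = aeval x f

namespace HyperEll

variable (h : HyperEll x y f)
include h

theorem notMem : y ∉ IntermediateField.adjoin k ({x} : Set K) := by
  intro hy
  obtain ⟨q, hq⟩ := exists_poly_of_mul_sq h.tr (f := 1) (h := f) squarefree_one hy
    (by rw [map_one, one_mul, h.eqn])
  have hf : f = q ^ 2 := transcendental_iff_injective.mp h.tr (by rw [map_pow, ← hq, h.eqn])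
  have hu := isUnit_of_sq_dvd h.sf (dvd_of_eq hf.symm)
  have : f.natDegree = 0 := by rw [hf, natDegree_pow, natDegree_eq_zero_of_isUnit hu, mul_zero]
  have := h.pos
  omega

theorem adjoin_y : IntermediateField.adjoin (IntermediateField.adjoin k ({x} : Set K)) ({y} : Set K) = ⊤ := by
  rw [← IntermediateField.restrictScalars_eq_top_iff (K := k), IntermediateField.adjoin_adjoin_left,
    Set.union_singleton, Set.pair_comm, h.gen]

theorem minpoly_eq : minpoly (IntermediateField.adjoin k ({x} : Set K)) y =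
    X ^ 2 - C (aeval (IntermediateField.AdjoinSimple.gen k x) f) := by
  set c := aeval (IntermediateField.AdjoinSimple.gen k x) f with hc
  have hc' : (c : K) = aeval x f := (aeval_algHom_apply (IntermediateField.val _) _ f).symm
  have hroot : aeval y (X ^ 2 - C c : (IntermediateField.adjoin k ({x} : Set K))[X]) = 0 := by
    rw [map_sub, map_pow, aeval_X, aeval_C, h.eqn, ← hc']
    exact sub_self _
  have hm : (X ^ 2 - C c : (IntermediateField.adjoin k ({x} : Set K))[X]).Monic :=
    monic_X_pow_sub_C _ two_ne_zero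
  have hi : IsIntegral (IntermediateField.adjoin k ({x} : Set K)) y := ⟨_, hm, hroot⟩
  refine eq_of_monic_of_dvd_of_natDegree_le (minpoly.monic hi) hm (minpoly.dvd _ _ hroot) ?_ |>.symm
  rw [natDegree_X_pow_sub_C]
  by_contra hlt
  have h1 : (minpoly (IntermediateField.adjoin k ({x} : Set K)) y).natDegree = 1 := by
    have := minpoly.natDegree_pos hi
    omega
  obtain ⟨z, hz⟩ := minpoly.natDegree_eq_one_iff.mp h1
  exact h.notMem (hz ▸ z.2)

theorem finrank_eq : Module.finrank (IntermediateField.adjoin k ({x} : Set K)) K = 2 ∧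
    FiniteDimensional (IntermediateField.adjoin k ({x} : Set K)) K := by
  have hi : IsIntegral (IntermediateField.adjoin k ({x} : Set K)) y := by
    by_contra hn
    have := minpoly.eq_zero hn
    rw [h.minpoly_eq] at this
    exact (monic_X_pow_sub_C _ two_ne_zero).ne_zero this
  have h2 := IntermediateField.adjoin.finrank hi
  rw [h.adjoin_y, IntermediateField.finrank_top', h.minpoly_eq, natDegree_X_pow_sub_C] at h2
  exact ⟨h2, Module.finite_of_finrank_pos (by rw [h2]; norm_num)⟩

theorem isFF : IsFF k K := ⟨x, h.tr, h.finrank_eq.2⟩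

/-- Every element is `a + b y` with `a, b ∈ k(x)`. -/
theorem exists_coords (z : K) : ∃ a b : IntermediateField.adjoin k ({x} : Set K),
    z = a + b * y := by
  haveI := h.finrank_eq.2
  set F := IntermediateField.adjoin k ({x} : Set K)
  have hz : z ∈ IntermediateField.adjoin F ({y} : Set K) := h.adjoin_y ▸ IntermediateField.mem_top
  have hi : IsIntegral F y := IsIntegral.of_finite F y
  rw [← IntermediateField.mem_toSubalgebra,
    IntermediateField.adjoin_simple_toSubalgebra_of_isAlgebraic hi.isAlgebraic,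
    Algebra.adjoin_singleton_eq_range_aeval] at hz
  obtain ⟨p, hp⟩ := hz
  have hmonic := minpoly.monic hi
  have h3 : aeval y (p %ₘ minpoly F y) = z := by
    have e := congrArg (aeval y) (modByMonic_add_div p (q := minpoly F y))
    rw [map_add, map_mul, minpoly.aeval, zero_mul, add_zero] at e
    exact e.trans hp
  have hdeg : (p %ₘ minpoly F y).natDegree < 2 := by
    have hd : (minpoly F y).natDegree = 2 := by rw [h.minpoly_eq, natDegree_X_pow_sub_C]
    exact hd ▸ natDegree_modByMonic_lt p hmonic (fun e => by rw [e, natDegree_one] at hd; omega)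
  refine ⟨(p %ₘ minpoly F y).coeff 0, (p %ₘ minpoly F y).coeff 1, ?_⟩
  rw [← h3, aeval_eq_sum_range' hdeg, Finset.sum_range_succ, Finset.sum_range_one]
  simp [Algebra.smul_def]

theorem coords_unique {a b : IntermediateField.adjoin k ({x} : Set K)}
    (he : (a : K) + b * y = 0) : a = 0 ∧ b = 0 := by
  by_cases hb : b = 0
  · subst hb
    refine ⟨Subtype.ext ?_, rfl⟩
    simpa using he
  · exfalso
    refine h.notMem ?_
    have hb' : (b : K) ≠ 0 := fun e => hb (Subtype.ext e)
    have : y = -(a : K) / b := by field_simp; linear_combination he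
    rw [this]
    exact div_mem (neg_mem a.2) b.2

/-- The conjugation `y ↦ -y`. -/
theorem exists_conj : ∃ σ : K ≃ₐ[IntermediateField.adjoin k ({x} : Set K)] K, σ y = -y := by
  set F := IntermediateField.adjoin k ({x} : Set K)
  haveI := h.finrank_eq.2
  have hi : IsIntegral F y := IsIntegral.of_finite F y
  let pb : PowerBasis F K := (IntermediateField.adjoin.powerBasis hi).map
    ((IntermediateField.equivOfEq h.adjoin_y).trans IntermediateField.topEquiv)
  have hgen : pb.gen = y := by simp [pb]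
  have hroot : aeval (-y) (minpoly F pb.gen) = 0 := by
    have h0 := minpoly.aeval F y
    rw [h.minpoly_eq] at h0
    rw [hgen, h.minpoly_eq]
    simpa [map_sub, map_pow] using h0
  have hσ : pb.lift (-y) hroot y = -y :=
    (congrArg (pb.lift (-y) hroot) hgen.symm).trans (pb.lift_gen (-y) hroot)
  exact ⟨AlgEquiv.ofBijective (pb.lift (-y) hroot) (AlgHom.bijective _), hσ⟩

theorem two_ne' : (2 : K) ≠ 0 := by
  intro e
  apply h.two_ne
  apply (algebraMap k K).injective
  rw [map_ofNat, map_zero, e]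

theorem mem_L_iff (n : ℕ) (z : K) : z ∈ L (n • zeroDiv k x⁻¹) ↔
    ∃ p q : k[X], p.natDegree ≤ n ∧ (q = 0 ∨ 2 * q.natDegree + f.natDegree ≤ 2 * n) ∧
      z = aeval x p + aeval x q * y := by
  classical
  have hF := h.isFF
  have hD : ∀ (m : ℕ) (Q : Place k K), (m • zeroDiv k x⁻¹ : Divisor k K) Q = m * max (-Q.ord x) 0 :=
    fun m Q => by rw [Finsupp.smul_apply, hF.zeroDiv_apply, ord_inv, nsmul_eq_mul]
  have hsq : ∀ w : K, w ∈ L (n • zeroDiv k x⁻¹) → w ^ 2 ∈ L ((2 * n) • zeroDiv k x⁻¹) := fun w hw Q => by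
    rw [map_pow, hD]
    refine (pow_le_pow_left₀ zero_le (hw Q) 2).trans ?_
    rw [hD, ← exp_nsmul, exp_le_exp, nsmul_eq_mul]
    push_cast; rw [mul_assoc]
  constructor
  · intro hz
    obtain ⟨a, b, rfl⟩ := h.exists_coords z
    obtain ⟨σ, hσ⟩ := h.exists_conj
    haveI := h.finrank_eq.2
    have hinv : σ ((a : K) + b * y) ∈ L (n • zeroDiv k x⁻¹) := by
      intro Q
      have h1 := hz (comapPlace σ Q)
      rw [comapPlace_apply, hD] at h1
      have hox : (comapPlace σ Q).ord x = Q.ord x := by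
        unfold Place.ord
        rw [comapPlace_apply, show σ x = x from
          σ.commutes ⟨x, IntermediateField.mem_adjoin_simple_self k x⟩]
      rw [hox] at h1
      rw [hD]
      exact h1
    have hσe : σ ((a : K) + b * y) = a - b * y := by
      rw [map_add, map_mul, hσ, show σ (a : K) = a from σ.commutes a,
        show σ (b : K) = b from σ.commutes b]
      ring
    rw [hσe] at hinv
    have h2a : (a : K) ∈ L (n • zeroDiv k x⁻¹) := by
      have h2 : ((2 : k)⁻¹) • (((a : K) + b * y) + (a - b * y)) = (a : K) := by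
        rw [Algebra.smul_def, map_inv₀, map_ofNat]
        field_simp [h.two_ne']
        ring
      rw [← h2]
      exact Submodule.smul_mem _ _ (add_mem hz hinv)
    obtain ⟨p, hp, hpa⟩ := (mem_L_adjoin_iff hF h.tr a.2 n).mp h2a
    have hby : (b : K) * y ∈ L (n • zeroDiv k x⁻¹) := by
      have := sub_mem hz h2a
      rwa [add_sub_cancel_left] at this
    have hb2 : aeval x f * (b : K) ^ 2 ∈ L ((2 * n) • zeroDiv k x⁻¹) := by
      have := hsq _ hby
      rwa [mul_pow, h.eqn, mul_comm ((b : K) ^ 2)] at this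
    have hmemF : aeval x f * (b : K) ^ 2 ∈ IntermediateField.adjoin k ({x} : Set K) :=
      mul_mem (IntermediateField.algebra_adjoin_le_adjoin k _ (aeval_mem_adjoin_singleton k x)) (pow_mem b.2 2)
    obtain ⟨u, hu, hue⟩ := (mem_L_adjoin_iff hF h.tr hmemF (2 * n)).mp hb2
    obtain ⟨q, hq⟩ := exists_poly_of_mul_sq h.tr h.sf b.2 hue
    refine ⟨p, q, hp, ?_, by rw [← hpa, ← hq]⟩
    by_cases hq0 : q = 0
    · exact Or.inl hq0
    right
    have hfu : f * q ^ 2 = u := transcendental_iff_injective.mp h.tr (by rw [map_mul, map_pow, ← hq, hue])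
    rw [← hfu, natDegree_mul h.sf.ne_zero (pow_ne_zero 2 hq0), natDegree_pow] at hu
    omega
  · rintro ⟨p, q, hp, hq, rfl⟩
    refine add_mem ((mem_L_adjoin_iff hF h.tr
      (IntermediateField.algebra_adjoin_le_adjoin k _ (aeval_mem_adjoin_singleton k x)) n).mpr ⟨p, hp, rfl⟩) ?_
    rcases hq with rfl | hq
    · simp
    intro Q
    have hmem : aeval x (f * q ^ 2) ∈ L ((2 * n) • zeroDiv k x⁻¹) :=
      (mem_L_adjoin_iff hF h.tr (IntermediateField.algebra_adjoin_le_adjoin k _ (aeval_mem_adjoin_singleton k x))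
        (2 * n)).mpr ⟨_, (natDegree_mul_le.trans (by rw [natDegree_pow]; omega)), rfl⟩
    have h1 := hmem Q
    rw [map_mul, map_pow, ← h.eqn, ← mul_pow, map_pow, mul_comm y, hD] at h1
    refine (pow_le_pow_iff_left₀ zero_le zero_le two_ne_zero).mp (h1.trans ?_)
    rw [hD, ← exp_nsmul, exp_le_exp, nsmul_eq_mul]
    push_cast; rw [mul_assoc]

theorem isFunctionField : IsFunctionField k K := by
  refine ⟨h.isFF, fun z hz => ?_⟩
  have hz0 : z ∈ L (0 • zeroDiv k x⁻¹ : Divisor k K) := fun Q => by
    rw [zero_smul, Finsupp.coe_zero, Pi.zero_apply, exp_zero]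
    by_cases h0 : z = 0
    · simp [h0]
    · exact (val_eq_one_of_isAlgebraic Q hz h0).le
  obtain ⟨p, q, hp, hq, rfl⟩ := (h.mem_L_iff 0 z).mp hz0
  rcases hq with rfl | hq
  · exact ⟨p.coeff 0, by
      rw [map_zero, zero_mul, add_zero, eq_C_of_natDegree_eq_zero (Nat.le_zero.mp hp), aeval_C, coeff_C_zero]⟩
  · have := h.pos
    omega

theorem ell_eq {n : ℕ} (hn : f.natDegree ≤ n) :
    ell (n • zeroDiv k x⁻¹ : Divisor k K) = (n + 1) + (n + 1 - (f.natDegree + 1) / 2) := by
  classical
  set m := n + 1 - (f.natDegree + 1) / 2 with hm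
  let Ψ : (degreeLT k (n + 1) × degreeLT k m) →ₗ[k] K :=
    ((aeval x : k[X] →ₐ[k] K).toLinearMap ∘ₗ (degreeLT k (n + 1)).subtype).coprod
      ((LinearMap.mulRight k y) ∘ₗ (aeval x : k[X] →ₐ[k] K).toLinearMap ∘ₗ (degreeLT k m).subtype)
  have hΨ : ∀ u, Ψ u = aeval x (u.1 : k[X]) + aeval x (u.2 : k[X]) * y := fun u => rfl
  have hinj : Function.Injective Ψ := by
    rw [← LinearMap.ker_eq_bot, LinearMap.ker_eq_bot']
    intro u hu
    rw [hΨ] at hu
    obtain ⟨h1, h2⟩ := h.coords_unique
      (a := ⟨_, IntermediateField.algebra_adjoin_le_adjoin k _ (aeval_mem_adjoin_singleton k x (p := (u.1 : k[X])))⟩)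
      (b := ⟨_, IntermediateField.algebra_adjoin_le_adjoin k _ (aeval_mem_adjoin_singleton k x (p := (u.2 : k[X])))⟩)
      hu
    have i := transcendental_iff_injective.mp h.tr
    refine Prod.ext (Subtype.ext (i ?_)) (Subtype.ext (i ?_))
    · simpa using congrArg Subtype.val h1
    · simpa using congrArg Subtype.val h2
  have hlt : ∀ (N : ℕ) (p : k[X]), p ∈ degreeLT k N ↔ p = 0 ∨ p.natDegree < N := by
    intro N p
    rw [mem_degreeLT]
    by_cases hp : p = 0
    · simp [hp]
    · simp [hp, natDegree_lt_iff_degree_lt]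
  have hrange : LinearMap.range Ψ = L (n • zeroDiv k x⁻¹ : Divisor k K) := by
    ext z
    rw [LinearMap.mem_range, h.mem_L_iff]
    constructor
    · rintro ⟨u, rfl⟩
      refine ⟨u.1, u.2, ?_, ?_, hΨ u⟩
      · rcases (hlt _ _).mp u.1.2 with e | e
        · rw [e]; simp
        · omega
      · rcases (hlt _ _).mp u.2.2 with e | e
        · exact Or.inl e
        · right; omega
    · rintro ⟨p, q, hp, hq, rfl⟩
      refine ⟨(⟨p, (hlt _ _).mpr (Or.inr (by omega))⟩, ⟨q, (hlt _ _).mpr ?_⟩), rfl⟩
      rcases hq with e | e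
      · exact Or.inl e
      · right; omega
  haveI : FiniteDimensional k (degreeLT k (n + 1)) := Module.Finite.equiv (degreeLTEquiv k (n + 1)).symm
  haveI : FiniteDimensional k (degreeLT k m) := Module.Finite.equiv (degreeLTEquiv k m).symm
  unfold ell
  rw [← hrange, LinearMap.finrank_range_of_inj hinj, Module.finrank_prod,
    (degreeLTEquiv k _).finrank_eq, (degreeLTEquiv k _).finrank_eq, Module.finrank_fin_fun,
    Module.finrank_fin_fun]

theorem genus_eq : genus k K = (f.natDegree - 1) / 2 := by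
  have hK := h.isFunctionField
  have hF := h.isFF
  set n := f.natDegree + 2 * genus k K with hn
  have hdeg : (n • zeroDiv k x⁻¹ : Divisor k K).deg = 2 * (n : ℤ) := by
    rw [deg_nsmul, hF.deg_poleDiv_eq h.tr, h.finrank_eq.1]
    push_cast; ring
  have h1 := ell_eq_of_deg_ge hK (D := n • zeroDiv k x⁻¹) (by rw [hdeg]; omega)
  rw [h.ell_eq (by omega), hdeg] at h1
  have := h.pos
  omega

end HyperEll

theorem two_ne_zero_of_ringChar (h2 : ringChar k ≠ 2) : (2 : k) ≠ 0 :=
  Ring.two_ne_zero h2

end Groth.FunFld1
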