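import Groth.Agent.FunFld1.Residues
import Mathlib.RingTheory.Valuation.RamificationGroup
import Mathlib.FieldTheory.PrimitiveElement
import Mathlib.FieldTheory.Galois.Basic
import Mathlib.RingTheory.IntegralDomain

/-!
Ramification groups of a place in a finite Galois extension: the order of the inertia group and the
elementary properties of the higher groups.
-/

set_option linter.style.haveILetI false
set_option linter.unusedSectionVars false

open FunFld WithZero Polynomial
open scoped Pointwise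

namespace Groth.FunFld1

variable {k K K' : Type*} [Field k] [Field K] [Field K'] [Algebra k K] [Algebra K K'] [Algebra k K']
  [IsScalarTower k K K']

theorem comap_eq_of_le_one {Q : Place k K'} {σ : K' ≃ₐ[K] K'}
    (h : ∀ x, Q.1 x ≤ 1 → Q.1 (σ x) ≤ 1) : comapPlace σ Q = Q :=
  (Place.eq_of_forall_le_one Q (comapPlace σ Q) fun x hx => h x hx).symm

theorem val_apply_of_comap {Q : Place k K'} {σ : K' ≃ₐ[K] K'} (h : comapPlace σ Q = Q) (x : K') :
    Q.1 (σ x) = Q.1 x := by
  have := congrArg (fun R : Place k K' => R.1 x) h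
  simpa only [comapPlace_apply] using this

theorem val_symm_of_comap {Q : Place k K'} {σ : K' ≃ₐ[K] K'} (h : comapPlace σ Q = Q) (x : K') :
    Q.1 (σ.symm x) = Q.1 x := by
  have := val_apply_of_comap h (σ.symm x)
  rwa [AlgEquiv.apply_symm_apply, eq_comm] at this

/-- The `i`-th ramification group (for `i ≥ 0`) inside the decomposition group. -/
def RamG (K : Type*) [Field K] [Algebra k K] [Algebra K K'] [IsScalarTower k K K'] (Q : Place k K')
    (i : ℕ) : Subgroup (K' ≃ₐ[K] K') where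
  carrier := {σ | comapPlace σ Q = Q ∧ ∀ x, Q.1 x ≤ 1 → Q.1 (σ x - x) ≤ exp (-(i : ℤ))}
  one_mem' := ⟨comap_eq_of_le_one fun x hx => hx, fun x _ => by simp⟩
  mul_mem' := by
    rintro σ τ ⟨hσ, hσ'⟩ ⟨hτ, hτ'⟩
    refine ⟨comap_eq_of_le_one fun x hx => ?_, fun x hx => ?_⟩
    · show Q.1 (σ (τ x)) ≤ 1
      rwa [val_apply_of_comap hσ, val_apply_of_comap hτ]
    · show Q.1 (σ (τ x) - x) ≤ _
      rw [show σ (τ x) - x = σ (τ x - x) + (σ x - x) by rw [map_sub]; ring]
      exact Valuation.map_add_le _ (by rw [val_apply_of_comap hσ]; exact hτ' x hx) (hσ' x hx)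
  inv_mem' := by
    rintro σ ⟨hσ, hσ'⟩
    refine ⟨comap_eq_of_le_one fun x hx => ?_, fun x hx => ?_⟩
    · show Q.1 (σ.symm x) ≤ 1
      rwa [val_symm_of_comap hσ]
    · show Q.1 (σ.symm x - x) ≤ _
      have h1 := hσ' (σ.symm x) (by rwa [val_symm_of_comap hσ])
      rwa [AlgEquiv.apply_symm_apply, ← Valuation.map_neg, neg_sub] at h1

theorem mem_RamG_iff {Q : Place k K'} {i : ℕ} {σ : K' ≃ₐ[K] K'} :
    σ ∈ RamG K Q i ↔ ∀ x, Q.1 x ≤ 1 → Q.1 (σ x - x) ≤ exp (-(i : ℤ)) := by
  refine ⟨fun h => h.2, fun h => ⟨comap_eq_of_le_one fun x hx => ?_, h⟩⟩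
  rw [show σ x = (σ x - x) + x by ring]
  exact Valuation.map_add_le _ ((h x hx).trans (exp_le_one.mpr (by omega))) hx

theorem RamG_mono (Q : Place k K') {i j : ℕ} (h : i ≤ j) : RamG K Q j ≤ RamG K Q i :=
  fun _ hσ => ⟨hσ.1, fun x hx => (hσ.2 x hx).trans (exp_le_exp.mpr (by omega))⟩

/-- `σ(xy) - xy` in terms of the displacements of the factors. -/
theorem val_delta_mul_le {Q : Place k K'} {σ : K' ≃ₐ[K] K'} (hσ : comapPlace σ Q = Q) {x y : K'}
    {a : ℤᵐ⁰} (h1 : Q.1 x * Q.1 (σ y - y) ≤ a) (h2 : Q.1 y * Q.1 (σ x - x) ≤ a) :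
    Q.1 (σ (x * y) - x * y) ≤ a := by
  rw [show σ (x * y) - x * y = σ x * (σ y - y) + y * (σ x - x) by rw [map_mul]; ring]
  refine Valuation.map_add_le _ ?_ ?_
  · rw [map_mul, val_apply_of_comap hσ]; exact h1
  · rw [map_mul]; exact h2

/-- In `G_i` the higher congruence only needs to be checked on a uniformizer. -/
theorem mem_RamG_succ {Q : Place k K'} [Algebra.IsSeparable k (IsLocalRing.ResidueField Q.O)]
    {σ : K' ≃ₐ[K] K'} {i : ℕ} (hi : 1 ≤ i) (hσ : σ ∈ RamG K Q i) {t : K'}
    (ht : Q.1 t = exp (-1)) (hσt : Q.1 (σ t - t) ≤ exp (-((i : ℤ) + 1))) :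
    σ ∈ RamG K Q (i + 1) := by
  refine ⟨hσ.1, fun x hx => ?_⟩
  push_cast
  have ht0 : t ≠ 0 := ne_zero_of_val_eq ht
  have hm : ∀ z : K', Q.1 z < 1 → Q.1 (σ z - z) ≤ exp (-((i : ℤ) + 1)) := by
    intro z hz
    have hu : Q.1 (z / t) ≤ 1 := by
      rw [map_div₀, ht, div_le_one₀ exp_pos]
      exact lt_one_iff_le_exp_neg_one.mp hz
    rw [show z = t * (z / t) by rw [mul_div_cancel₀ _ ht0]]
    refine val_delta_mul_le hσ.1 ?_ ((mul_le_of_le_one_left' hu).trans hσt)
    rw [ht]
    refine (mul_le_mul' le_rfl (hσ.2 _ hu)).trans_eq ?_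
    rw [← exp_add]; congr 1; ring
  let ρ : Q.O →ₐ[k] IsLocalRing.ResidueField Q.O := { IsLocalRing.residue Q.O with commutes' := fun _ => rfl }
  let ι : Q.O →ₐ[k] K' := { Q.O.subtype with commutes' := fun _ => rfl }
  set b := ρ ⟨x, hx⟩ with hb
  set f := minpoly k b
  have hsep : f.Separable := Algebra.IsSeparable.isSeparable k b
  have hval : ∀ p : k[X], ∀ z : K', Q.1 z ≤ 1 → Q.1 (aeval z p) ≤ 1 := fun p z hz => by
    have : aeval z p = ι (aeval (⟨z, hz⟩ : Q.O) p) := aeval_algHom_apply ι (⟨z, hz⟩ : Q.O) p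
    rw [this]
    exact (aeval (⟨z, hz⟩ : Q.O) p).2
  have hres : ∀ p : k[X], ρ ⟨aeval x p, hval p x hx⟩ = aeval b p := fun p => by
    rw [hb, aeval_algHom_apply]
    exact congrArg ρ (Subtype.ext (aeval_algHom_apply ι (⟨x, hx⟩ : Q.O) p))
  have hf1 : Q.1 (aeval x f) < 1 := by
    have := hres f
    rw [minpoly.aeval] at this
    exact (residue_eq_zero_iff Q _).mp this
  have hf' : Q.1 (aeval x (derivative f)) = 1 := by
    refine le_antisymm (hval _ x hx) (not_lt.mp fun hlt => ?_)
    have h0 : ρ ⟨aeval x (derivative f), hval _ x hx⟩ = 0 := (residue_eq_zero_iff Q _).mpr hlt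
    rw [hres] at h0
    exact hsep.aeval_derivative_ne_zero (minpoly.aeval k b) h0
  set δ := σ x - x with hδ
  by_cases h0' : δ = 0
  · simp [h0']
  have hδi : Q.1 δ ≤ exp (-(i : ℤ)) := hσ.2 x hx
  obtain ⟨c, hc⟩ := binomExpansion (f.map (algebraMap k K')) x δ
  have heval : ∀ (p : k[X]) (z : K'), (p.map (algebraMap k K')).eval z = aeval z p := fun p z =>
    eval_map_algebraMap p z
  rw [derivative_map, heval, heval, heval, show x + δ = σ x by rw [hδ]; ring] at hc
  have hσf : σ (aeval x f) = aeval (σ x) f := (aeval_algHom_apply (σ.toAlgHom.restrictScalars k) x f).symm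
  have hcδ : Q.1 (c * δ ^ 2) ≤ exp (-((i : ℤ) + 1)) := by
    have hc' : Q.1 c ≤ 1 := by
      obtain ⟨g, hg⟩ := binomExpansion (f.map (algebraMap k Q.O)) (⟨x, hx⟩ : Q.O) ⟨δ, hδi.trans (exp_le_one.mpr (by omega))⟩
      have hg' := congrArg ι hg
      have hev : ∀ (p : k[X]) (z : Q.O), ι ((p.map (algebraMap k Q.O)).eval z) = aeval (z : K') p :=
        fun p z => by rw [eval_map_algebraMap]; exact (aeval_algHom_apply ι z p).symm
      rw [map_add, map_add, map_mul, map_mul, map_pow, derivative_map, hev, hev, hev] at hg'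
      have hx' : ((⟨x, hx⟩ + ⟨δ, hδi.trans (exp_le_one.mpr (by omega))⟩ : Q.O) : K') = σ x := by
        show x + δ = σ x
        rw [hδ]; ring
      rw [hx', hc] at hg'
      have hg2 : c * δ ^ 2 = (g : K') * δ ^ 2 := add_left_cancel hg'
      rw [mul_right_cancel₀ (pow_ne_zero 2 h0') hg2]
      exact g.2
    rw [map_mul, map_pow]
    refine (mul_le_of_le_one_left' hc').trans ((pow_le_pow_left₀ zero_le hδi 2).trans ?_)
    rw [← exp_nsmul, exp_le_exp, nsmul_eq_mul]
    push_cast
    omega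
  have h := hm _ hf1
  rw [hσf, hc, show aeval x f + aeval x (derivative f) * δ + c * δ ^ 2 - aeval x f =
    aeval x (derivative f) * δ + c * δ ^ 2 by ring] at h
  have h2 := Valuation.map_sub_le Q.1 h hcδ
  rwa [add_sub_cancel_right, map_mul, hf', one_mul] at h2

theorem val_delta_le_succ {Q : Place k K'} {σ : K' ≃ₐ[K] K'} (hσ : σ ∈ RamG K Q 2) {t : K'}
    (ht : Q.1 t = exp (-1)) (n : ℕ) :
    ∀ y : K', Q.1 y ≤ exp (-(n : ℤ)) → Q.1 (σ y - y) ≤ exp (-((n : ℤ) + 1)) := by
  induction n with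
  | zero =>
    intro y hy
    refine (hσ.2 y (by simpa using hy)).trans (exp_le_exp.mpr ?_)
    norm_num
  | succ n ih =>
    intro y hy
    push_cast at hy ⊢
    have ht0 : t ≠ 0 := ne_zero_of_val_eq ht
    have hy' : Q.1 (y / t) ≤ exp (-(n : ℤ)) := by
      rw [map_div₀, ht, div_le_iff₀ exp_pos, ← exp_add]
      exact hy.trans (exp_le_exp.mpr (by omega))
    rw [show y = t * (y / t) by rw [mul_div_cancel₀ _ ht0]]
    refine val_delta_mul_le hσ.1 ?_ ?_
    · rw [ht]
      refine (mul_le_mul' le_rfl (ih _ hy')).trans ?_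
      rw [← exp_add, exp_le_exp]; omega
    · refine (mul_le_mul' hy' (hσ.2 t (ht.trans_le (exp_le_one.mpr (by omega))))).trans ?_
      rw [← exp_add, exp_le_exp]; push_cast; omega

theorem val_delta_mul {Q : Place k K'} {i : ℕ} (hi : 2 ≤ i) {σ τ : K' ≃ₐ[K] K'}
    (hσ : σ ∈ RamG K Q i) (hτ : τ ∈ RamG K Q i) {t : K'} (ht : Q.1 t = exp (-1)) :
    Q.1 ((σ * τ) t - t - ((σ t - t) + (τ t - t))) ≤ exp (-((i : ℤ) + 1)) := by
  rw [AlgEquiv.mul_apply, show σ (τ t) - t - ((σ t - t) + (τ t - t)) = σ (τ t - t) - (τ t - t) by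
    rw [map_sub]; ring]
  exact val_delta_le_succ (RamG_mono Q hi hσ) ht i _ (hτ.2 t (ht.trans_le (exp_le_one.mpr (by omega))))

theorem val_delta_pow {Q : Place k K'} {i : ℕ} (hi : 2 ≤ i) {σ : K' ≃ₐ[K] K'}
    (hσ : σ ∈ RamG K Q i) {t : K'} (ht : Q.1 t = exp (-1)) (n : ℕ) :
    Q.1 ((σ ^ n) t - t - n * (σ t - t)) ≤ exp (-((i : ℤ) + 1)) := by
  induction n with
  | zero => simp
  | succ n ih =>
    have h := val_delta_mul hi (pow_mem hσ n) hσ ht
    rw [← pow_succ] at h
    have e : (σ ^ (n + 1)) t - t - ((n + 1 : ℕ) : K') * (σ t - t) =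
        ((σ ^ (n + 1)) t - t - (((σ ^ n) t - t) + (σ t - t))) + ((σ ^ n) t - t - n * (σ t - t)) := by
      push_cast; ring
    rw [e]
    exact Valuation.map_add_le _ h ih

theorem mem_inertiaSubgroup_iff {Q : Place k K'} (g : (Q.O).decompositionSubgroup K) :
    g ∈ (Q.O).inertiaSubgroup K ↔ ∀ x : K', Q.1 x ≤ 1 → Q.1 ((g : K' ≃ₐ[K] K') x - x) < 1 := by
  rw [ValuationSubring.inertiaSubgroup, MonoidHom.mem_ker]
  constructor
  · intro h x hx
    have h1 : g • IsLocalRing.residue Q.O ⟨x, hx⟩ = IsLocalRing.residue Q.O ⟨x, hx⟩ :=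
      RingEquiv.congr_fun h _
    rw [← IsLocalRing.ResidueField.residue_smul, residue_eq_iff] at h1
    exact h1
  · intro h
    refine RingEquiv.ext fun r => ?_
    obtain ⟨a, rfl⟩ := IsLocalRing.residue_surjective r
    show g • IsLocalRing.residue Q.O a = IsLocalRing.residue Q.O a
    rw [← IsLocalRing.ResidueField.residue_smul, residue_eq_iff]
    exact h a.1 a.2

theorem mem_decomposition_iff {Q : Place k K'} (σ : K' ≃ₐ[K] K') :
    σ ∈ (Q.O).decompositionSubgroup K ↔ comapPlace σ Q = Q := by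
  rw [MulAction.mem_stabilizer_iff]
  constructor
  · intro h
    refine comap_eq_of_le_one fun x hx => ?_
    have := ValuationSubring.smul_mem_pointwise_smul σ x Q.O hx
    rw [h] at this
    exact this
  · intro h
    refine ValuationSubring.ext _ _ fun x => ?_
    rw [ValuationSubring.mem_pointwise_smul_iff_inv_smul_mem]
    show Q.1 (σ.symm x) ≤ 1 ↔ Q.1 x ≤ 1
    rw [val_symm_of_comap h]

theorem mem_inertia_map_iff {Q : Place k K'} (σ : K' ≃ₐ[K] K') :
    σ ∈ ((Q.O).inertiaSubgroup K).map ((Q.O).decompositionSubgroup K).subtype ↔ σ ∈ RamG K Q 1 := by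
  constructor
  · rintro ⟨g, hg, rfl⟩
    refine mem_RamG_iff.mpr fun x hx => ?_
    exact lt_one_iff_le_exp_neg_one.mp ((mem_inertiaSubgroup_iff g).mp hg x hx)
  · intro h
    refine ⟨⟨σ, (mem_decomposition_iff σ).mpr h.1⟩, (mem_inertiaSubgroup_iff _).mpr fun x hx => ?_, rfl⟩
    exact lt_one_iff_le_exp_neg_one.mpr (by simpa using h.2 x hx)

theorem natCard_inertiaSubgroup (Q : Place k K') :
    Nat.card ((Q.O).inertiaSubgroup K) = Nat.card (RamG K Q 1) := by
  rw [← Nat.card_congr (Equiv.subtypeEquivRight fun σ => mem_inertia_map_iff (K := K) (Q := Q) σ)]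
  exact Nat.card_congr (((Q.O).inertiaSubgroup K).equivMapOfInjective _ Subtype.val_injective).toEquiv

variable [FiniteDimensional K K'] [IsGalois K K']

set_option maxHeartbeats 1000000 in
/-- The inertia group has order `e`. -/
theorem natCard_RamG_one (hF : IsFF k K) {Q : Place k K'} {P : Place k K} (h : IsOver Q P)
    [Algebra.IsSeparable k (IsLocalRing.ResidueField Q.O)] :
    Nat.card (RamG K Q 1) = ramIdx Q P := by
  classical
  have hF' : IsFF k K' := hF.ext
  letI : Algebra (IsLocalRing.ResidueField P.O) (IsLocalRing.ResidueField Q.O) := (resMap h).toAlgebra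
  haveI htower : IsScalarTower k (IsLocalRing.ResidueField P.O) (IsLocalRing.ResidueField Q.O) :=
    IsScalarTower.of_algebraMap_eq fun c => (resMap_algebraMap h c).symm
  haveI : Module.Finite (IsLocalRing.ResidueField P.O) (IsLocalRing.ResidueField Q.O) :=
    @Module.Finite.of_restrictScalars_finite k (IsLocalRing.ResidueField P.O)
      (IsLocalRing.ResidueField Q.O) _ _ _ _ _ _ htower (Module.finite_of_finrank_pos (hF'.deg_pos Q))
  haveI : Algebra.IsSeparable (IsLocalRing.ResidueField P.O) (IsLocalRing.ResidueField Q.O) :=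
    Algebra.isSeparable_tower_top_of_isSeparable k _ _
  obtain ⟨b, hb0, hbtop⟩ : ∃ b : IsLocalRing.ResidueField Q.O, b ≠ 0 ∧
      IntermediateField.adjoin (IsLocalRing.ResidueField P.O) ({b} : Set (IsLocalRing.ResidueField Q.O)) = ⊤ := by
    obtain ⟨b, hb⟩ := Field.exists_primitive_element (IsLocalRing.ResidueField P.O) (IsLocalRing.ResidueField Q.O)
    by_cases hb0 : b = 0
    · refine ⟨1, one_ne_zero, eq_top_iff.mpr (hb.ge.trans ?_)⟩
      rw [IntermediateField.adjoin_simple_le_iff, hb0]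
      exact zero_mem _
    · exact ⟨b, hb0, hb⟩
  obtain ⟨⟨y, hy⟩, hyb⟩ := IsLocalRing.residue_surjective b
  obtain ⟨θ, hθ⟩ := exists_val_sub_le (hF.above P) (fun R => if R = Q then y else 0) (fun _ => -1)
  have hθQ : Q.1 (θ - y) < 1 := by
    refine lt_one_iff_le_exp_neg_one.mpr ?_
    simpa using hθ Q (hF.mem_above.mpr h)
  have hθR : ∀ R : Place k K', IsOver R P → R ≠ Q → R.1 θ < 1 := fun R hR hne => by
    refine lt_one_iff_le_exp_neg_one.mpr ?_
    simpa [hne] using hθ R (hF.mem_above.mpr hR)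
  have hθ1 : ∀ R : Place k K', IsOver R P → R.1 θ ≤ 1 := fun R hR => by
    by_cases hne : R = Q
    · subst hne
      rw [show θ = (θ - y) + y by ring]
      exact Valuation.map_add_le _ hθQ.le hy
    · exact (hθR R hR hne).le
  have hσP : ∀ σ : K' ≃ₐ[K] K', IsOver (comapPlace σ Q) P := fun σ =>
    overWith_isOver (isOverWith_comapPlace σ (isOverWith_ramIdx h))
  let θi : (K' ≃ₐ[K] K') → Q.O := fun σ => ⟨σ θ, hθ1 _ (hσP σ)⟩
  have hθb : IsLocalRing.residue Q.O (θi 1) = b := by
    rw [← hyb, residue_eq_iff]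
    exact hθQ
  set St := Finset.univ.filter fun σ : K' ≃ₐ[K] K' => comapPlace σ Q = Q with hSt
  have hcount : (hF.above P : Finset (Place k K')).card * St.card = Module.finrank K K' := by
    rw [← IsGalois.card_aut_eq_finrank K K', Nat.card_eq_fintype_card, ← Finset.card_univ,
      Finset.card_eq_sum_card_fiberwise (s := (Finset.univ : Finset (K' ≃ₐ[K] K')))
        (f := fun σ : K' ≃ₐ[K] K' => comapPlace σ Q)
        (t := hF.above P) fun σ _ => hF.mem_above.mpr (hσP σ)]
    refine Eq.symm ((Finset.sum_congr rfl (g := fun _ => St.card) fun R hR => ?_).trans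
      (by rw [Finset.sum_const, smul_eq_mul]))
    obtain ⟨τ, rfl⟩ := exists_comapPlace_of_isOver h (hF.mem_above.mp hR)
    refine Finset.card_bij (fun σ _ => σ * τ⁻¹) (fun σ hσ => ?_)
      (fun a _ b _ e => mul_right_cancel e) (fun σ hσ => ⟨σ * τ, ?_, mul_inv_cancel_right σ τ⟩)
    · simp only [Finset.mem_filter, Finset.mem_univ, true_and, St] at hσ ⊢
      refine Subtype.ext (Valuation.ext fun x => ?_)
      show Q.1 (σ (τ⁻¹ x)) = Q.1 x
      have := congrArg (fun R : Place k K' => R.1 (τ⁻¹ x)) hσ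
      simp only [comapPlace_apply] at this
      rw [this]
      simp
    · simp only [Finset.mem_filter, Finset.mem_univ, true_and, St] at hσ ⊢
      refine Subtype.ext (Valuation.ext fun x => ?_)
      show Q.1 (σ (τ x)) = Q.1 (τ x)
      exact val_apply_of_comap hσ _
  have hsum : (hF.above P : Finset (Place k K')).card * (ramIdx Q P * Q.deg) =
      Module.finrank K K' * P.deg := by
    rw [← hF.sum_ramIdx_deg (K' := K') P]
    refine Eq.symm ((Finset.sum_congr rfl (g := fun _ => ramIdx Q P * Q.deg) fun R hR => ?_).trans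
      (by rw [Finset.sum_const, smul_eq_mul]))
    obtain ⟨τ, rfl⟩ := exists_comapPlace_of_isOver h (hF.mem_above.mp hR)
    rw [ramIdx_eq (isOverWith_comapPlace τ (isOverWith_ramIdx h)), deg_comapPlace]
  set p := minpoly (IsLocalRing.ResidueField P.O) b
  have hpsep : p.Separable := Algebra.IsSeparable.isSeparable _ b
  have hp0 : p ≠ 0 := minpoly.ne_zero (IsIntegral.of_finite _ b)
  have key : ∀ (H : P.O[X]) (z : Q.O), aeval (IsLocalRing.residue Q.O z) (H.map (IsLocalRing.residue P.O)) =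
      IsLocalRing.residue Q.O (H.eval₂ (inclO h) z) := by
    intro H z
    rw [aeval_def, eval₂_map, hom_eval₂]
    rfl
  have hroot : ∀ σ ∈ St, aeval (IsLocalRing.residue Q.O (θi σ)) p = 0 := by
    intro σ hσ
    simp only [Finset.mem_filter, Finset.mem_univ, true_and, St] at hσ
    obtain ⟨H, hH⟩ := Polynomial.map_surjective (IsLocalRing.residue P.O)
      IsLocalRing.residue_surjective p
    let σO : Q.O →+* Q.O := ((σ : K' →+* K').comp Q.O.subtype).codRestrict Q.O.toSubring
      fun a => (val_apply_of_comap hσ a.1).trans_le a.2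
    have hσH : σO (H.eval₂ (inclO h) (θi 1)) = H.eval₂ (inclO h) (θi σ) := by
      rw [hom_eval₂]
      congr 1
      ext a
      exact σ.commutes _
    have h0 := minpoly.aeval (IsLocalRing.ResidueField P.O) b
    rw [show minpoly (IsLocalRing.ResidueField P.O) b = p from rfl, ← hH, ← hθb, key, residue_eq_zero_iff] at h0
    rw [← hH, key, residue_eq_zero_iff, ← hσH]
    show Q.1 (σ ((H.eval₂ (inclO h) (θi 1) : Q.O) : K')) < 1
    rwa [val_apply_of_comap hσ]
  -- every root of `p` comes from the decomposition group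
  set φ : (K' ≃ₐ[K] K') → IsLocalRing.ResidueField Q.O := fun σ => IsLocalRing.residue Q.O (θi σ)
  have himage : (St.image φ).card = p.natDegree := by
    let incl : P.O →+* K' := (algebraMap K K').comp P.O.subtype
    have hcoeff : ∀ n, ∃ a : P.O, incl a = (∏ σ : K' ≃ₐ[K] K', (X - C (σ θ))).coeff n := by
      intro n
      have hfix : ∀ τ : K' ≃ₐ[K] K', τ ((∏ σ : K' ≃ₐ[K] K', (X - C (σ θ))).coeff n) =
          (∏ σ : K' ≃ₐ[K] K', (X - C (σ θ))).coeff n := by
        intro τ
        have e : (∏ σ : K' ≃ₐ[K] K', (X - C (σ θ))).map (τ : K' →+* K') =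
            ∏ σ : K' ≃ₐ[K] K', (X - C (σ θ)) := by
          simp only [Polynomial.map_prod, Polynomial.map_sub, map_X, map_C]
          exact Fintype.prod_equiv (Equiv.mulLeft τ) _ _ fun σ => rfl
        exact (coeff_map (τ : K' →+* K') n).symm.trans (congrArg (fun q : K'[X] => q.coeff n) e)
      obtain ⟨a, ha⟩ := (IsGalois.mem_range_algebraMap_iff_fixed
        ((∏ σ : K' ≃ₐ[K] K', (X - C (σ θ))).coeff n)).mpr hfix
      have hle : Q.1 ((∏ σ : K' ≃ₐ[K] K', (X - C (σ θ))).coeff n) ≤ 1 := by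
        have e : (∏ σ : K' ≃ₐ[K] K', (X - C (θi σ))).map Q.O.subtype =
            ∏ σ : K' ≃ₐ[K] K', (X - C (σ θ)) := by
          simp only [Polynomial.map_prod, Polynomial.map_sub, map_X, map_C]
          rfl
        rw [← e, coeff_map]
        exact ((∏ σ : K' ≃ₐ[K] K', (X - C (θi σ))).coeff n).2
      exact ⟨⟨a, (over_le_one_iff h a).mp (ha ▸ hle)⟩, ha⟩
    obtain ⟨H0, hH0⟩ := (mem_lifts (f := incl) _).mp ((lifts_iff_coeff_lifts _).mpr hcoeff)
    have hH1 : H0.map (inclO h) = ∏ σ : K' ≃ₐ[K] K', (X - C (θi σ)) := by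
      apply Polynomial.map_injective Q.O.subtype Subtype.val_injective
      rw [Polynomial.map_map, show Q.O.subtype.comp (inclO h) = incl from rfl, hH0]
      simp only [Polynomial.map_prod, Polynomial.map_sub, map_X, map_C]
      rfl
    have hh : (H0.map (IsLocalRing.residue P.O)).map (algebraMap (IsLocalRing.ResidueField P.O) (IsLocalRing.ResidueField Q.O)) =
        ∏ σ : K' ≃ₐ[K] K', (X - C (φ σ)) := by
      rw [Polynomial.map_map, show (algebraMap (IsLocalRing.ResidueField P.O) (IsLocalRing.ResidueField Q.O)).comp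
        (IsLocalRing.residue P.O) = (IsLocalRing.residue Q.O).comp (inclO h) from rfl, ← Polynomial.map_map, hH1]
      simp only [Polynomial.map_prod, Polynomial.map_sub, map_X, map_C]
      rfl
    have hbroot : aeval b (H0.map (IsLocalRing.residue P.O)) = 0 := by
      rw [← eval_map_algebraMap, hh, eval_prod]
      refine Finset.prod_eq_zero (Finset.mem_univ (1 : K' ≃ₐ[K] K')) ?_
      rw [eval_sub, eval_X, eval_C]
      exact sub_eq_zero.mpr hθb.symm
    have hprod0 : (∏ σ : K' ≃ₐ[K] K', (X - C (φ σ))) ≠ 0 :=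
      Finset.prod_ne_zero_iff.mpr fun σ _ => X_sub_C_ne_zero _
    have hdvd : p.map (algebraMap (IsLocalRing.ResidueField P.O) (IsLocalRing.ResidueField Q.O)) ∣
        ∏ σ : K' ≃ₐ[K] K', (X - C (φ σ)) := hh ▸ Polynomial.map_dvd _ (minpoly.dvd _ b hbroot)
    have hsplit : (p.map (algebraMap (IsLocalRing.ResidueField P.O) (IsLocalRing.ResidueField Q.O))).Splits :=
      Polynomial.Splits.of_dvd (Splits.prod fun σ _ => Splits.X_sub_C _) hprod0 hdvd
    have hroots : (p.aroots (IsLocalRing.ResidueField Q.O)).toFinset = St.image φ := by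
      ext c
      rw [Multiset.mem_toFinset, mem_aroots, Finset.mem_image]
      constructor
      · rintro ⟨-, hc⟩
        have hc' : (p.map (algebraMap (IsLocalRing.ResidueField P.O) (IsLocalRing.ResidueField Q.O))).eval c = 0 := by
          rw [eval_map_algebraMap]; exact hc
        obtain ⟨g, hg⟩ := hdvd
        have h1 := congrArg (eval c) hg
        rw [eval_mul, hc', zero_mul, eval_prod, Finset.prod_eq_zero_iff] at h1
        obtain ⟨σ, -, hσc⟩ := h1
        rw [eval_sub, eval_X, eval_C, sub_eq_zero] at hσc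
        refine ⟨σ, ?_, hσc.symm⟩
        simp only [Finset.mem_filter, Finset.mem_univ, true_and, St]
        by_contra hne
        have hc0 : c = 0 := by
          rw [hσc]
          exact (residue_eq_zero_iff Q _).mpr (hθR _ (hσP σ) hne)
        subst hc0
        have hco : p.coeff 0 = 0 := by
          rw [aeval_def, eval₂_at_zero] at hc
          exact (map_eq_zero _).mp hc
        exact hb0 ((minpoly.coeff_zero_eq_zero (IsIntegral.of_finite _ b)).mp hco)
      · rintro ⟨σ, hσ, rfl⟩
        exact ⟨hp0, hroot σ hσ⟩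
    have hnodup : (p.aroots (IsLocalRing.ResidueField Q.O)).Nodup := nodup_roots hpsep.map
    rw [← hroots, Multiset.toFinset_card_of_nodup hnodup, aroots_def, ← hsplit.natDegree_eq_card_roots,
      natDegree_map]
  have hf : p.natDegree = Module.finrank (IsLocalRing.ResidueField P.O) (IsLocalRing.ResidueField Q.O) := by
    rw [← IntermediateField.adjoin.finrank (IsIntegral.of_finite (IsLocalRing.ResidueField P.O) b), hbtop,
      IntermediateField.finrank_top']
  have hdeg : Q.deg = P.deg * Module.finrank (IsLocalRing.ResidueField P.O) (IsLocalRing.ResidueField Q.O) :=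
    (@Module.finrank_mul_finrank k (IsLocalRing.ResidueField P.O) (IsLocalRing.ResidueField Q.O)
      _ _ _ _ _ _ htower).symm
  -- residues determine the class modulo inertia
  have hfib : ∀ σ ∈ St, (St.filter fun τ => φ τ = φ σ).card = Nat.card (RamG K Q 1) := by
    intro σ hσ
    simp only [Finset.mem_filter, Finset.mem_univ, true_and, St] at hσ
    rw [← Nat.card_eq_finsetCard]
    refine (Nat.card_congr ?_).symm
    refine Equiv.ofBijective (fun g => ⟨σ * g.1, ?_⟩) ⟨?_, ?_⟩
    · simp only [Finset.mem_filter, Finset.mem_univ, true_and, St]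
      refine ⟨comap_eq_of_le_one fun x hx => ?_, ?_⟩
      · show Q.1 (σ (g.1 x)) ≤ 1
        rwa [val_apply_of_comap hσ, val_apply_of_comap g.2.1]
      · refine (residue_eq_iff Q _ _).mpr ?_
        show Q.1 (σ (g.1 θ) - σ θ) < 1
        rw [← map_sub, val_apply_of_comap hσ]
        exact lt_one_iff_le_exp_neg_one.mpr (by simpa using g.2.2 θ (hθ1 Q h))
    · intro a c e
      exact Subtype.ext (mul_left_cancel (congrArg Subtype.val e))
    · rintro ⟨τ, hτ⟩
      simp only [Finset.mem_filter, Finset.mem_univ, true_and, St] at hτ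
      refine ⟨⟨σ⁻¹ * τ, mem_RamG_iff.mpr fun x hx => ?_⟩, Subtype.ext (mul_inv_cancel_left σ τ)⟩
      refine lt_one_iff_le_exp_neg_one.mp ?_
      rw [← val_apply_of_comap hσ, map_sub, AlgEquiv.mul_apply,
        show σ (σ⁻¹ (τ x)) = τ x from σ.apply_symm_apply _]
      -- `x` agrees with a polynomial in `θ` modulo `Q`
      have hmem : IsLocalRing.residue Q.O ⟨x, hx⟩ ∈
          IntermediateField.adjoin (IsLocalRing.ResidueField P.O) ({b} : Set (IsLocalRing.ResidueField Q.O)) :=
        hbtop ▸ IntermediateField.mem_top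
      rw [← IntermediateField.mem_toSubalgebra,
        IntermediateField.adjoin_simple_toSubalgebra_of_isAlgebraic (IsIntegral.of_finite _ b).isAlgebraic,
        Algebra.adjoin_singleton_eq_range_aeval] at hmem
      obtain ⟨g, hg⟩ := hmem
      obtain ⟨G, rfl⟩ := Polynomial.map_surjective (IsLocalRing.residue P.O) IsLocalRing.residue_surjective g
      replace hg : IsLocalRing.residue Q.O (G.eval₂ (inclO h) (θi 1)) = IsLocalRing.residue Q.O ⟨x, hx⟩ := by
        rw [← key, hθb]; exact hg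
      have happ : ∀ ρ : K' ≃ₐ[K] K', comapPlace ρ Q = Q →
          ∃ hz : Q.1 (ρ x) ≤ 1, IsLocalRing.residue Q.O ⟨ρ x, hz⟩ =
            aeval (φ ρ) (G.map (IsLocalRing.residue P.O)) := by
        intro ρ hρ
        let ρO : Q.O →+* Q.O := ((ρ : K' →+* K').comp Q.O.subtype).codRestrict Q.O.toSubring
          fun a => (val_apply_of_comap hρ a.1).trans_le a.2
        refine ⟨(val_apply_of_comap hρ x).trans_le hx, ?_⟩
        have e1 : ρO (G.eval₂ (inclO h) (θi 1)) = G.eval₂ (inclO h) (θi ρ) := by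
          rw [hom_eval₂]
          congr 1
          ext a
          exact ρ.commutes _
        rw [key, ← e1, residue_eq_iff]
        show Q.1 (ρ x - ρ ((G.eval₂ (inclO h) (θi 1) : Q.O) : K')) < 1
        rw [← map_sub, val_apply_of_comap hρ]
        exact (residue_eq_iff Q ⟨x, hx⟩ _).mp hg.symm
      obtain ⟨h1, h1'⟩ := happ τ hτ.1
      obtain ⟨h2, h2'⟩ := happ σ hσ
      exact (residue_eq_iff Q ⟨τ x, h1⟩ ⟨σ x, h2⟩).mp (by rw [h1', h2', hτ.2])
  have hStcard : St.card = p.natDegree * Nat.card (RamG K Q 1) := by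
    rw [← himage, Finset.card_eq_sum_card_image φ St, ← smul_eq_mul, ← Finset.sum_const]
    refine Finset.sum_congr rfl fun c hc => ?_
    obtain ⟨σ, hσ, rfl⟩ := Finset.mem_image.mp hc
    exact hfib σ hσ
  have hg : 0 < (hF.above P : Finset (Place k K')).card :=
    Finset.card_pos.mpr ⟨Q, hF.mem_above.mpr h⟩
  have hfpos : 0 < Module.finrank (IsLocalRing.ResidueField P.O) (IsLocalRing.ResidueField Q.O) :=
    Module.finrank_pos
  rw [hdeg, ← hcount, mul_assoc, hStcard, hf] at hsum
  have h1 := Nat.eq_of_mul_eq_mul_left hg hsum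
  refine Nat.eq_of_mul_eq_mul_right (Nat.mul_pos (hF.deg_pos P) hfpos) ?_
  rw [h1]
  ring

end Groth.FunFld1
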