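import Groth.Agent.CurveBridge.LinSeries
import Groth.Agent.FunFld1.Involution

/-!
Uniqueness of the rational subfield of index two in genus at least two.
-/

set_option linter.style.haveILetI false
set_option linter.unusedSectionVars false

namespace Groth.FunFld1.RationalUnique

open WithZero FunFld Groth.FunFld1

variable {k K : Type*} [Field k] [Field K] [Algebra k K] [IsAlgClosed k] (hK : IsFunctionField k K)
include hK

local notation "hF" => IsFF.of_isFunctionField hK

theorem poleDiv_facts {t : K} (htr : Transcendental k t)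
    (ht : Module.finrank (IntermediateField.adjoin k ({t} : Set K)) K = 2) :
    0 ≤ zeroDiv k t⁻¹ ∧ (zeroDiv k t⁻¹).deg = 2 ∧ (1 : K) ∈ L (zeroDiv k t⁻¹) ∧ t ∈ L (zeroDiv k t⁻¹) ∧
      2 ≤ ell (zeroDiv k t⁻¹) := by
  have h0 : 0 ≤ zeroDiv k t⁻¹ := fun P => by rw [(hF).zeroDiv_apply]; simp
  have ht0 : t ≠ 0 := fun h => htr (h ▸ isAlgebraic_zero)
  have hd : (zeroDiv k t⁻¹).deg = 2 := by
    have := (hF).deg_poleDiv_eq htr
    rw [this, ht]; norm_num
  have hmem : ∀ i, ![(1 : K), t] i ∈ L (zeroDiv k t⁻¹) := fun i => by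
    fin_cases i <;> intro P
    · show P.1 1 ≤ _
      rw [map_one, ← exp_zero, exp_le_exp]
      exact h0 P
    · show P.1 t ≤ _
      rw [val_eq_exp_neg_ord P ht0, exp_le_exp, (hF).zeroDiv_apply, ord_inv]
      exact le_max_left _ _
  have hli : LinearIndependent k ![(1 : K), t] := by
    rw [LinearIndependent.pair_iff' one_ne_zero]
    intro a ha
    exact htr (ha ▸ (by rw [Algebra.smul_def, mul_one]; exact isAlgebraic_algebraMap a))
  haveI := (hF).finiteDimensional_L (zeroDiv k t⁻¹)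
  have := (LinearIndependent.of_comp (L (zeroDiv k t⁻¹)).subtype
    (v := fun i => (⟨_, hmem i⟩ : L (zeroDiv k t⁻¹))) hli).fintype_card_le_finrank
  rw [Fintype.card_fin] at this
  exact ⟨h0, hd, hmem 0, hmem 1, this⟩

theorem mem_adjoin_of_double (hg : 2 ≤ genus k K) {t₁ t₂ : K}
    (h₁ : Transcendental k t₁) (d₁ : Module.finrank (IntermediateField.adjoin k ({t₁} : Set K)) K = 2)
    (h₂ : Transcendental k t₂) (d₂ : Module.finrank (IntermediateField.adjoin k ({t₂} : Set K)) K = 2) :
    t₂ ∈ IntermediateField.adjoin k ({t₁} : Set K) := by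
  obtain ⟨p₁, e₁, -, m₁, l₁⟩ := poleDiv_facts hK h₁ d₁
  obtain ⟨p₂, e₂, o₂, m₂, l₂⟩ := poleDiv_facts hK h₂ d₂
  obtain ⟨w, hw, hwe⟩ := Groth.CurveBridge.linEquiv_of_effective_g12 hK hg p₁ p₂ e₁ e₂ l₁ l₂
  have hwL : ∀ z ∈ L (zeroDiv k t₂⁻¹), w * z ∈ L (zeroDiv k t₁⁻¹) := fun z hz P => by
    rw [hwe, Finsupp.sub_apply, (hF).div_apply, map_mul, val_eq_exp_neg_ord P hw,
      sub_eq_neg_add, exp_add]
    exact mul_le_mul_right (hz P) _
  have h1c : t₁ ∉ Set.range (algebraMap k K) := fun ⟨c, hc⟩ => h₁ (hc ▸ isAlgebraic_algebraMap c)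
  have hspan := Groth.CurveBridge.span_one_pair hK p₁
    (Groth.CurveBridge.ell_eq_two_of_deg_two hK hg e₁ l₁) m₁ h1c
  have hsub : ∀ z ∈ L (zeroDiv k t₁⁻¹), z ∈ IntermediateField.adjoin k ({t₁} : Set K) := fun z hz => by
    rw [hspan, Submodule.mem_span_range_iff_exists_fun] at hz
    obtain ⟨c, rfl⟩ := hz
    rw [Fin.sum_univ_two]
    exact add_mem (IntermediateField.smul_mem _ (one_mem _))
      (IntermediateField.smul_mem _ (IntermediateField.mem_adjoin_simple_self k t₁))
  have := div_mem (hsub _ (hwL t₂ m₂)) (hsub _ (hwL 1 o₂))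
  rwa [mul_one, mul_div_cancel_left₀ t₂ hw] at this

/-- In genus at least two there is at most one rational subfield of index two. -/
theorem adjoin_eq_of_double (hg : 2 ≤ genus k K) {t₁ t₂ : K}
    (h₁ : Transcendental k t₁) (d₁ : Module.finrank (IntermediateField.adjoin k ({t₁} : Set K)) K = 2)
    (h₂ : Transcendental k t₂) (d₂ : Module.finrank (IntermediateField.adjoin k ({t₂} : Set K)) K = 2) :
    IntermediateField.adjoin k ({t₁} : Set K) = IntermediateField.adjoin k ({t₂} : Set K) :=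
  le_antisymm (IntermediateField.adjoin_simple_le_iff.mpr (mem_adjoin_of_double hK hg h₂ d₂ h₁ d₁))
    (IntermediateField.adjoin_simple_le_iff.mpr (mem_adjoin_of_double hK hg h₁ d₁ h₂ d₂))

omit hK [IsAlgClosed k] in
/-- Two nontrivial automorphisms fixing the same subfield of index two are equal. -/
theorem algHom_eq_of_index_two {F : IntermediateField k K} (hF2 : Module.finrank F K = 2) {σ τ : K →ₐ[k] K}
    (hσ : ∀ z ∈ F, σ z = z) (hτ : ∀ z ∈ F, τ z = z) (hσ1 : σ ≠ AlgHom.id k K) (hτ1 : τ ≠ AlgHom.id k K) :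
    σ = τ := by
  classical
  haveI : FiniteDimensional F K := Module.finite_of_finrank_pos (lt_of_lt_of_eq two_pos hF2.symm)
  let σF : K →ₐ[F] K := { σ.toRingHom with commutes' := fun z => hσ z z.2 }
  let τF : K →ₐ[F] K := { τ.toRingHom with commutes' := fun z => hτ z z.2 }
  by_contra hne
  have h3 : ({AlgHom.id F K, σF, τF} : Finset (K →ₐ[F] K)).card = 3 := by
    rw [Finset.card_eq_three]
    exact ⟨_, _, _, fun e => hσ1 (AlgHom.ext fun z => (DFunLike.congr_fun e z).symm),
      fun e => hτ1 (AlgHom.ext fun z => (DFunLike.congr_fun e z).symm),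
      fun e => hne (AlgHom.ext fun z => DFunLike.congr_fun e z), rfl⟩
  have hle := card_algHom_le_finrank F K K
  have h4 := Finset.card_le_univ ({AlgHom.id F K, σF, τF} : Finset (K →ₐ[F] K))
  rw [← Nat.card_eq_fintype_card] at h4
  omega

end Groth.FunFld1.RationalUnique
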