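import Groth.Agent.FunFld1.Involution
import Mathlib.FieldTheory.Galois.Basic

/-!
Reflections of function fields of genus one in characteristic different from two.
-/

set_option linter.style.haveILetI false
set_option linter.unusedSectionVars false

namespace Groth.FunFld1.Reflection

open WithZero FunFld Groth.FunFld1

variable {k K : Type*} [Field k] [Field K] [Algebra k K]

/-- The nontrivial automorphism over a rational subfield of index two. -/
theorem exists_deck (h2 : (2 : k) ≠ 0) {t : K}
    (ht : Module.finrank (IntermediateField.adjoin k ({t} : Set K)) K = 2) :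
    ∃ σ : K ≃ₐ[k] K, (∀ z, σ (σ z) = z) ∧ σ ≠ 1 ∧ σ t = t := by
  classical
  let F := IntermediateField.adjoin k ({t} : Set K)
  haveI : FiniteDimensional F K := Module.finite_of_finrank_pos (lt_of_lt_of_eq two_pos ht.symm)
  have h2F : (2 : F) ≠ 0 := by
    rw [← map_ofNat (algebraMap k F) 2]
    exact (map_ne_zero (algebraMap k F)).mpr h2
  haveI : Algebra.IsSeparable F K := by
    refine ⟨fun z => ?_⟩
    have hi : IsIntegral F z := Algebra.IsIntegral.isIntegral z
    refine (Polynomial.separable_iff_derivative_ne_zero (minpoly.irreducible hi)).mpr fun h0 => ?_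
    have hd : (minpoly F z).natDegree ≤ 2 := ht ▸ minpoly.natDegree_le z
    have hpos := minpoly.natDegree_pos hi
    have hc := congrArg (fun q : Polynomial F => q.coeff ((minpoly F z).natDegree - 1)) h0
    simp only [Polynomial.coeff_derivative, Polynomial.coeff_zero] at hc
    rw [Nat.sub_add_cancel hpos, ← Polynomial.leadingCoeff, (minpoly.monic hi).leadingCoeff] at hc
    rcases Nat.lt_or_ge (minpoly F z).natDegree 2 with h1' | h1'
    · rw [show (minpoly F z).natDegree - 1 = 0 by omega] at hc
      simp at hc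
    · rw [show (minpoly F z).natDegree - 1 = 1 by omega] at hc
      simp only [Nat.cast_one, one_mul] at hc
      exact h2F (by rw [← hc]; norm_num)
  haveI : Algebra.IsQuadraticExtension F K := ⟨ht⟩
  haveI : IsGalois F K := IsGalois.mk
  have hcard : Nat.card (K ≃ₐ[F] K) = 2 := by
    rw [IsGalois.card_aut_eq_finrank]; exact ht
  haveI : Finite (K ≃ₐ[F] K) := Nat.finite_of_card_ne_zero (by omega)
  obtain ⟨τ, hτ⟩ : ∃ τ : K ≃ₐ[F] K, τ ≠ 1 := by
    by_contra! hall
    have : Subsingleton (K ≃ₐ[F] K) := ⟨fun a b => by rw [hall a, hall b]⟩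
    rw [Nat.card_of_subsingleton (1 : K ≃ₐ[F] K)] at hcard
    omega
  refine ⟨τ.restrictScalars k, fun z => ?_, fun e => hτ (AlgEquiv.ext fun z => DFunLike.congr_fun e z),
    τ.commutes ⟨t, IntermediateField.mem_adjoin_simple_self k t⟩⟩
  have hp := pow_card_eq_one' (x := τ)
  rw [hcard, pow_two] at hp
  exact DFunLike.congr_fun hp z

variable [IsAlgClosed k] (hK : IsFunctionField k K)
include hK

local notation "hF" => IsFF.of_isFunctionField hK

theorem ord_comapPlace (σ : K ≃ₐ[k] K) (P : Place k K) (z : K) :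
    (comapPlace σ P).ord z = P.ord (σ z) := rfl

/-- An invariant function of degree two has as zeros a place and its image. -/
theorem zeroDiv_eq_pair (h2 : (2 : k) ≠ 0) (σ : K ≃ₐ[k] K) (hσ2 : ∀ x, σ (σ x) = x) (hne : σ ≠ 1)
    {f : K} (hf : f ≠ 0) (hσf : σ f = f) (hd : (zeroDiv k f).deg = 2) {P : Place k K} (hP : 0 < P.ord f) :
    zeroDiv k f = Finsupp.single P 1 + Finsupp.single (comapPlace σ P) 1 := by
  classical
  refine (eq_of_le_of_deg_eq hF ?_ ?_).symm
  · intro Q
    rw [(hF).zeroDiv_apply, Finsupp.add_apply, Finsupp.single_apply, Finsupp.single_apply]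
    by_cases hfix : comapPlace σ P = P
    · have he := Involution.even_ord_of_inv σ hσ2 hK hne h2 (P := P) hfix hf hσf
      obtain ⟨m, hm⟩ := he
      rw [hfix]
      split_ifs with hQ
      · subst hQ; omega
      · omega
    · have hP' : (comapPlace σ P).ord f = P.ord f := by rw [ord_comapPlace hK, hσf]
      split_ifs with h1 h1' h1'
      · subst h1; exact absurd h1' hfix
      · subst h1; omega
      · subst h1'; omega
      · omega
  · rw [deg_add, deg_single, deg_single, deg_eq_one_of_isAlgClosed hF, deg_eq_one_of_isAlgClosed hF, hd]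
    norm_num

/-- For two places of a function field of genus one there is an involution exchanging them whose
pairs of conjugate places are linearly equivalent to the given pair. -/
theorem exists_reflection (h2 : (2 : k) ≠ 0) (hg : genus k K = 1) (P Q : Place k K) :
    ∃ σ : K ≃ₐ[k] K, (∀ x, σ (σ x) = x) ∧ σ ≠ 1 ∧ comapPlace σ P = Q ∧
      ∀ R : Place k K, ∃ f : K, f ≠ 0 ∧ Finsupp.single R (1 : ℤ) + Finsupp.single (comapPlace σ R) 1 =
        Finsupp.single P 1 + Finsupp.single Q 1 + div k f := by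
  classical
  have h1 : ∀ R : Place k K, R.deg = 1 := deg_eq_one_of_isAlgClosed hF
  set D : Divisor k K := Finsupp.single P 1 + Finsupp.single Q 1 with hDdef
  have hD0 : 0 ≤ D := add_nonneg (Finsupp.single_nonneg.mpr zero_le_one) (Finsupp.single_nonneg.mpr zero_le_one)
  have hDd : D.deg = 2 := by rw [hDdef, deg_add, deg_single, deg_single, h1, h1]; norm_num
  have hell := ell_eq_of_deg_ge hK (D := D) (by rw [hDd, hg]; norm_num)
  rw [hDd, hg] at hell
  obtain ⟨t, htD, htc⟩ := exists_nonconst_mem hK (D := D) (by omega)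
  have htr := transcendental_of_notMem hK htc
  have ht0 : t ≠ 0 := fun h => htr (h ▸ isAlgebraic_zero)
  haveI := (hF).finiteDimensional htr
  set T := zeroDiv k t⁻¹ with hTdef
  have hTD : T ≤ D := (hF).deg_poleDiv_le_of_mem_L hD0 htD
  have hTdeg := (hF).deg_poleDiv_eq htr
  rw [← hTdef] at hTdeg
  have hT0 : 0 ≤ T := fun R => by rw [hTdef, (hF).zeroDiv_apply]; simp
  have hle : T.deg ≤ 2 := hDd ▸ deg_mono hTD
  have hTne : T.deg ≠ 1 := fun he => by
    obtain ⟨R, hR1, hTR⟩ := effective_deg_one hF hT0 he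
    have hsub : ({1, t} : Set K) ⊆ L (Finsupp.single R (1 : ℤ)) := by
      rintro w (rfl | rfl) <;> intro S
      · show S.1 1 ≤ _
        rw [map_one, ← WithZero.exp_zero, WithZero.exp_le_exp]
        exact (Finsupp.single_nonneg.mpr zero_le_one : (0 : Divisor k K) ≤ Finsupp.single R 1) S
      · show S.1 w ≤ _
        rw [val_eq_exp_neg_ord S ht0, WithZero.exp_le_exp, ← hTR, hTdef, (hF).zeroDiv_apply, ord_inv]
        exact le_max_left _ _
    haveI := (hF).finiteDimensional_L (Finsupp.single R (1 : ℤ))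
    have hli : LinearIndependent k ![(1 : K), t] := by
      rw [LinearIndependent.pair_iff' one_ne_zero]
      intro a ha
      exact htc ⟨a, by rw [← ha, Algebra.smul_def, mul_one]⟩
    have hmem : ∀ i, ![(1 : K), t] i ∈ L (Finsupp.single R (1 : ℤ)) := fun i => hsub (by fin_cases i <;> simp)
    have h2' := (LinearIndependent.of_comp (L (Finsupp.single R (1 : ℤ))).subtype
      (v := fun i => (⟨_, hmem i⟩ : L (Finsupp.single R (1 : ℤ)))) hli).fintype_card_le_finrank
    have h3 : ell (Finsupp.single R (1 : ℤ)) = 1 := ell_single_one_eq_one hK (by omega) hR1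
    unfold ell at h3
    rw [Fintype.card_fin, h3] at h2'
    omega
  have hpos : 0 < Module.finrank (IntermediateField.adjoin k ({t} : Set K)) K := Module.finrank_pos
  have ht2 : Module.finrank (IntermediateField.adjoin k ({t} : Set K)) K = 2 := by omega
  have hT : T = D := eq_of_le_of_deg_eq hF hTD (by omega)
  obtain ⟨σ, hσ2, hσne, hσt⟩ := exists_deck h2 ht2
  have hpair : ∀ R : Place k K, 0 < R.ord t⁻¹ → D = Finsupp.single R 1 + Finsupp.single (comapPlace σ R) 1 :=
    fun R hR => by
      rw [← hT]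
      exact zeroDiv_eq_pair hK h2 σ hσ2 hσne (inv_ne_zero ht0) (by rw [map_inv₀, hσt]) (by rw [← hTdef, hT, hDd]) hR
  have hPpos : 0 < P.ord t⁻¹ := by
    have := DFunLike.congr_fun hT P
    rw [hTdef, (hF).zeroDiv_apply, hDdef, Finsupp.add_apply, Finsupp.single_eq_same] at this
    have hnn : (0 : ℤ) ≤ (Finsupp.single Q (1 : ℤ)) P := by
      rw [Finsupp.single_apply]; split_ifs <;> norm_num
    omega
  refine ⟨σ, hσ2, hσne, ?_, fun R => ?_⟩
  · have := hpair P hPpos
    rw [hDdef] at this
    exact (Finsupp.single_left_injective one_ne_zero (add_left_cancel this)).symm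
  by_cases hR : 0 < R.ord t⁻¹
  · exact ⟨1, one_ne_zero, by
      rw [show div k (1 : K) = 0 from Finsupp.ext fun S => by simp [(hF).div_apply, Place.ord], add_zero]
      exact (hpair R hR).symm⟩
  obtain ⟨c, hc⟩ := exists_const_sub_lt_one (h1 R) (x := t) (by
    rw [val_eq_exp_neg_ord R ht0, ← WithZero.exp_zero, WithZero.exp_le_exp]
    rw [ord_inv] at hR
    omega)
  set f := t - algebraMap k K c with hfdef
  have hfc : f ∉ Set.range (algebraMap k K) := by
    rintro ⟨d, hd⟩
    exact htc ⟨d + c, by rw [map_add, hd, hfdef, sub_add_cancel]⟩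
  have hfr := transcendental_of_notMem hK hfc
  have hf0 : f ≠ 0 := fun h => hfr (h ▸ isAlgebraic_zero)
  have hfi : Transcendental k f⁻¹ := fun h => hfr (inv_inv f ▸ h.inv)
  have hadj : IntermediateField.adjoin k ({f⁻¹} : Set K) = IntermediateField.adjoin k ({t} : Set K) := by
    refine le_antisymm ?_ ?_ <;> rw [IntermediateField.adjoin_simple_le_iff]
    · exact inv_mem (sub_mem (IntermediateField.mem_adjoin_simple_self k t) (algebraMap_mem _ c))
    · have h' := add_mem (inv_mem (IntermediateField.mem_adjoin_simple_self k f⁻¹))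
        ((IntermediateField.adjoin k ({f⁻¹} : Set K)).algebraMap_mem c)
      rwa [inv_inv, hfdef, sub_add_cancel] at h'
  have hfd : (zeroDiv k f).deg = 2 := by
    haveI := (hF).finiteDimensional hfi
    have := (hF).deg_poleDiv_eq hfi
    rw [inv_inv] at this
    rw [this, hadj, ht2]; norm_num
  have hRf : 0 < R.ord f := by
    have := (val_eq_exp_neg_ord R hf0).symm.trans_lt hc
    rw [← WithZero.exp_zero, WithZero.exp_lt_exp] at this
    omega
  have hfz := zeroDiv_eq_pair hK h2 σ hσ2 hσne hf0 (by rw [hfdef, map_sub, hσt, AlgEquiv.commutes]) hfd hRf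
  refine ⟨f, hf0, ?_⟩
  rw [← hfz, ← hT]
  refine Finsupp.ext fun S => ?_
  rw [Finsupp.add_apply, hTdef, (hF).zeroDiv_apply, (hF).zeroDiv_apply, (hF).div_apply, ord_inv]
  have hf_le : S.1 f ≤ max (S.1 t) 1 := by
    refine (Valuation.map_sub _ _ _).trans (max_le_max le_rfl ?_)
    rcases eq_or_ne c 0 with rfl | hc0
    · simp
    · exact (val_algebraMap S hc0).le
  have ht_le : S.1 t ≤ max (S.1 f) 1 := by
    rw [show t = f + algebraMap k K c by rw [hfdef, sub_add_cancel]]
    refine (Valuation.map_add _ _ _).trans (max_le_max le_rfl ?_)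
    rcases eq_or_ne c 0 with rfl | hc0
    · simp
    · exact (val_algebraMap S hc0).le
  rw [val_eq_exp_neg_ord S ht0, val_eq_exp_neg_ord S hf0, ← WithZero.exp_zero] at hf_le ht_le
  simp only [le_max_iff, WithZero.exp_le_exp] at hf_le ht_le
  omega

/-- The coordinate of a double cover can be chosen with a single double pole. -/
theorem exists_double_pole (h2 : (2 : k) ≠ 0) {t : K} (htr : Transcendental k t)
    (ht : Module.finrank (IntermediateField.adjoin k ({t} : Set K)) K = 2) :
    ∃ (s : K) (P : Place k K), Transcendental k s ∧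
      IntermediateField.adjoin k ({s} : Set K) = IntermediateField.adjoin k ({t} : Set K) ∧
      zeroDiv k s⁻¹ = Finsupp.single P 2 := by
  classical
  obtain ⟨σ, hσ2, hne, hσt⟩ := exists_deck h2 ht
  have hfix := Involution.ncard_fixedSet_of_coordinate σ hσ2 hK hne h2 htr hσt ht
  obtain ⟨P, hP⟩ : (Involution.fixedSet σ).Nonempty := Set.nonempty_of_ncard_ne_zero (by omega)
  have hP' : comapPlace σ P = P := hP
  have h1 : ∀ R : Place k K, R.deg = 1 := deg_eq_one_of_isAlgClosed hF
  have ht0 : t ≠ 0 := fun h => htr (h ▸ isAlgebraic_zero)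
  have hdeg : ∀ s : K, Transcendental k s →
      IntermediateField.adjoin k ({s} : Set K) = IntermediateField.adjoin k ({t} : Set K) →
      (zeroDiv k s⁻¹).deg = 2 := fun s hs he => by
    have := (hF).deg_poleDiv_eq hs
    rw [this, he, ht]; norm_num
  by_cases hpole : 0 < P.ord t⁻¹
  · refine ⟨t, P, htr, rfl, ?_⟩
    rw [zeroDiv_eq_pair hK h2 σ hσ2 hne (inv_ne_zero ht0) (by rw [map_inv₀, hσt]) (hdeg t htr rfl) hpole,
      hP', ← Finsupp.single_add]
    norm_num
  obtain ⟨c, hc⟩ := exists_const_sub_lt_one (h1 P) (x := t) (by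
    rw [val_eq_exp_neg_ord P ht0, ← WithZero.exp_zero, WithZero.exp_le_exp]
    rw [ord_inv] at hpole
    omega)
  set f := t - algebraMap k K c with hfdef
  have hfr : Transcendental k f := fun h => htr (by
    have := h.add (isAlgebraic_algebraMap (R := k) (A := K) c)
    rwa [hfdef, sub_add_cancel] at this)
  have hf0 : f ≠ 0 := fun h => hfr (h ▸ isAlgebraic_zero)
  have hfi : Transcendental k f⁻¹ := fun h => hfr (inv_inv f ▸ h.inv)
  have hadj : IntermediateField.adjoin k ({f⁻¹} : Set K) = IntermediateField.adjoin k ({t} : Set K) := by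
    refine le_antisymm ?_ ?_ <;> rw [IntermediateField.adjoin_simple_le_iff]
    · exact inv_mem (sub_mem (IntermediateField.mem_adjoin_simple_self k t) (algebraMap_mem _ c))
    · have h' := add_mem (inv_mem (IntermediateField.mem_adjoin_simple_self k f⁻¹))
        ((IntermediateField.adjoin k ({f⁻¹} : Set K)).algebraMap_mem c)
      rwa [inv_inv, hfdef, sub_add_cancel] at h'
  refine ⟨f⁻¹, P, hfi, hadj, ?_⟩
  have hd := hdeg f⁻¹ hfi hadj
  rw [inv_inv] at hd ⊢
  have hPf : 0 < P.ord f := by
    have := (val_eq_exp_neg_ord P hf0).symm.trans_lt hc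
    rw [← WithZero.exp_zero, WithZero.exp_lt_exp] at this
    omega
  rw [zeroDiv_eq_pair hK h2 σ hσ2 hne hf0 (by rw [hfdef, map_sub, hσt, AlgEquiv.commutes]) hd hPf,
    hP', ← Finsupp.single_add]
  norm_num

/-- Two rational subfields of index two differ by an automorphism in genus one. -/
theorem exists_algEquiv_map_adjoin (h2 : (2 : k) ≠ 0) (hg : genus k K = 1) {t₁ t₂ : K}
    (htr₁ : Transcendental k t₁) (ht₁ : Module.finrank (IntermediateField.adjoin k ({t₁} : Set K)) K = 2)
    (htr₂ : Transcendental k t₂) (ht₂ : Module.finrank (IntermediateField.adjoin k ({t₂} : Set K)) K = 2) :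
    ∃ σ : K ≃ₐ[k] K, (IntermediateField.adjoin k ({t₂} : Set K)).map σ.toAlgHom =
      IntermediateField.adjoin k ({t₁} : Set K) := by
  classical
  obtain ⟨s₁, P₁, hs₁, ha₁, hd₁⟩ := exists_double_pole hK h2 htr₁ ht₁
  obtain ⟨s₂, P₂, hs₂, ha₂, hd₂⟩ := exists_double_pole hK h2 htr₂ ht₂
  obtain ⟨σ, hσ2, -, hσP, -⟩ := exists_reflection hK h2 hg P₁ P₂
  refine ⟨σ, ?_⟩
  rw [← ha₁, ← ha₂, IntermediateField.adjoin_map, Set.image_singleton]
  have hpole : ∀ (s : K) (P : Place k K), zeroDiv k s⁻¹ = Finsupp.single P 2 →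
      s ≠ 0 → ∀ R, max (-R.ord s) 0 = Finsupp.single P (2 : ℤ) R := fun s P hd hs R => by
    rw [← hd, (hF).zeroDiv_apply, ord_inv]
  have hs₁0 : s₁ ≠ 0 := fun h => hs₁ (h ▸ isAlgebraic_zero)
  have hs₂0 : s₂ ≠ 0 := fun h => hs₂ (h ▸ isAlgebraic_zero)
  set D : Divisor k K := Finsupp.single P₁ 2 with hD
  have hD0 : 0 ≤ D := Finsupp.single_nonneg.mpr (by norm_num)
  have hm1 : (1 : K) ∈ L D := fun R => by
    show R.1 1 ≤ _
    rw [map_one, ← WithZero.exp_zero, WithZero.exp_le_exp]
    exact hD0 R
  have hms : s₁ ∈ L D := fun R => by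
    show R.1 s₁ ≤ _
    rw [val_eq_exp_neg_ord R hs₁0, WithZero.exp_le_exp, hD, ← hpole s₁ P₁ hd₁ hs₁0]
    exact le_max_left _ _
  have hmσ : σ.toAlgHom s₂ ∈ L D := fun R => by
    show R.1 (σ s₂) ≤ _
    rw [show R.1 (σ s₂) = (comapPlace σ R).1 s₂ from rfl, val_eq_exp_neg_ord _ hs₂0, WithZero.exp_le_exp, hD]
    refine (le_max_left _ (0 : ℤ)).trans ((hpole s₂ P₂ hd₂ hs₂0 _).trans_le ?_)
    rw [← hσP]
    rcases eq_or_ne R P₁ with rfl | hR
    · rw [Finsupp.single_eq_same, Finsupp.single_eq_same]
    · rw [Finsupp.single_eq_of_ne (fun h => hR (by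
          rw [← Involution.comapPlace_comapPlace σ hσ2 R, h, Involution.comapPlace_comapPlace σ hσ2 P₁])),
        Finsupp.single_eq_of_ne hR]
  have hell := ell_eq_of_deg_ge hK (D := D) (by rw [hD, deg_single, deg_eq_one_of_isAlgClosed hF, hg]; norm_num)
  rw [hD, deg_single, deg_eq_one_of_isAlgClosed hF, hg, ← hD] at hell
  haveI := (hF).finiteDimensional_L D
  have hle : Submodule.span k ({1, s₁} : Set K) ≤ L D := Submodule.span_le.mpr (by
    rintro w (rfl | rfl)
    exacts [hm1, hms])
  have hspan : Submodule.span k ({1, s₁} : Set K) = L D := by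
    haveI : FiniteDimensional k (Submodule.span k ({1, s₁} : Set K)) :=
      FiniteDimensional.span_of_finite k (Set.toFinite _)
    refine Submodule.eq_of_le_of_finrank_le hle ?_
    have hli : LinearIndependent k ![(1 : K), s₁] := by
      rw [LinearIndependent.pair_iff' one_ne_zero]
      intro a ha
      exact hs₁ (ha ▸ (by rw [Algebra.smul_def, mul_one]; exact isAlgebraic_algebraMap a))
    have := finrank_span_eq_card hli
    rw [show Set.range ![(1 : K), s₁] = {1, s₁} by simp [Set.pair_comm], Fintype.card_fin] at this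
    rw [this]
    show ell D ≤ 2
    omega
  obtain ⟨a, b, hab⟩ := Submodule.mem_span_pair.mp (hspan.ge hmσ)
  rw [Algebra.smul_def, Algebra.smul_def, mul_one] at hab
  have hb : b ≠ 0 := by
    rintro rfl
    rw [map_zero, zero_mul, add_zero] at hab
    have halg : IsAlgebraic k (σ.toAlgHom s₂) := hab ▸ isAlgebraic_algebraMap a
    exact hs₂ ((isAlgebraic_algHom_iff σ.toAlgHom σ.injective).mp halg)
  refine le_antisymm ?_ ?_ <;> rw [IntermediateField.adjoin_simple_le_iff]
  · rw [← hab]
    exact add_mem (algebraMap_mem _ a) (mul_mem (algebraMap_mem _ b) (IntermediateField.mem_adjoin_simple_self k s₁))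
  · set G := IntermediateField.adjoin k ({σ.toAlgHom s₂} : Set K)
    have : s₁ = (σ.toAlgHom s₂ - algebraMap k K a) * algebraMap k K b⁻¹ := by
      rw [← hab, add_sub_cancel_left, mul_comm, ← mul_assoc, ← map_mul, inv_mul_cancel₀ hb, map_one, one_mul]
    rw [this]
    exact mul_mem (sub_mem (IntermediateField.mem_adjoin_simple_self k _) (G.algebraMap_mem a)) (G.algebraMap_mem _)

end Groth.FunFld1.Reflection
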