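import Groth.Agent.S12604
import Groth.Agent.S12606
import Groth.Agent.Funfld2.Hasse.AtExists
import Groth.Agent.FunFld1.Nonsingular

/-!
The bound for the number of strong fixed points of an endomorphism in terms of the genus.
-/

set_option linter.style.haveILetI false
set_option linter.unusedSectionVars false

open FunFld Groth.FunFld1 Groth.Funfld2.Hasse
open scoped WithZero

namespace Groth.FunFld1

variable {k K : Type*} [Field k] [IsAlgClosed k] [Field K] [Algebra k K]

theorem exists_ord_eq_of_le (hK : IsFunctionField k K) {D : Divisor k K} {P : Place k K} (hDP : D P = 0)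
    {j : ℕ} (hj : (j : ℤ) + 2 * genus k K ≤ D.deg) :
    ∃ f ∈ L D, P.1 f = WithZero.exp (-(j : ℤ)) := by
  classical
  have hF := IsFF.of_isFunctionField hK
  have hd1 := deg_eq_one_of_isAlgClosed hF P
  haveI := hF.finiteDimensional_L (D - Finsupp.single P (j : ℤ))
  set E := D - Finsupp.single P (j : ℤ) with hE
  have hle : L (E - Finsupp.single P (1 : ℤ)) ≤ L E :=
    L_mono (sub_le_self _ (Finsupp.single_nonneg.mpr zero_le_one))
  have hne : L (E - Finsupp.single P (1 : ℤ)) ≠ L E := fun h => by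
    have h1 := ell_eq_of_deg_ge hK (D := E) (by rw [hE, deg_sub, deg_single, hd1]; omega)
    have h2 := ell_eq_of_deg_ge hK (D := E - Finsupp.single P 1)
      (by rw [hE, deg_sub, deg_sub, deg_single, deg_single, hd1]; omega)
    unfold ell at h1 h2
    rw [deg_sub, deg_single, hd1] at h2
    rw [h] at h2
    omega
  obtain ⟨f, hf, hf'⟩ := SetLike.exists_of_lt (lt_of_le_of_ne hle hne)
  refine ⟨f, L_mono (sub_le_self _ (Finsupp.single_nonneg.mpr (Int.natCast_nonneg j))) hf, ?_⟩
  rw [val_eq_of_not_mem hf hf', hE, Finsupp.sub_apply, hDP, Finsupp.single_eq_same, zero_sub]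

theorem strongFixed_bound (hK : IsFunctionField k K) (τ : K →ₐ[k] K) {n : ℕ} (hn : genus k K < n) :
    {P : Place k K | IsStrongFixedPt τ P}.Finite ∧
    (n : ℤ) * (Set.ncard {P : Place k K | IsStrongFixedPt τ P} : ℤ) ≤
      (n : ℤ) * (1 + Module.finrank τ.fieldRange K) +
        ((n : ℤ) ^ 2 + Module.finrank τ.fieldRange K) * genus k K +
        2 * (genus k K : ℤ) ^ 2 * ((genus k K : ℤ) - 1) := by
  classical
  have hF := IsFF.of_isFunctionField hK
  have hG := Groth.Funfld2.good_of_algClosed hK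
  set g := genus k K with hg
  set d := Module.finrank τ.fieldRange K
  by_cases hex : ∃ P, IsStrongFixedPt τ P
  swap
  · have : {P : Place k K | IsStrongFixedPt τ P} = ∅ := by
      simpa [Set.eq_empty_iff_forall_notMem] using hex
    rw [this]
    refine ⟨Set.finite_empty, ?_⟩
    simp only [Set.ncard_empty, Nat.cast_zero, mul_zero]
    rcases Nat.eq_zero_or_pos g with h | h
    · rw [h]; push_cast; ring_nf; positivity
    · have : (0 : ℤ) ≤ (g : ℤ) - 1 := by omega
      positivity
  obtain ⟨P, hP⟩ := hex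
  obtain ⟨t, ht0, ht⟩ := exists_uniformizer P
  obtain ⟨P0, hP0⟩ : ∃ P0 : Place k K, P0 ≠ P := by
    have hpole : ∃ Q : Place k K, Q.ord t < 0 := exists_pole_of_notMem hK fun ⟨c, hc⟩ => by
      rw [← hc] at ht ht0
      rw [val_algebraMap P (fun h => ht0 (by rw [h, map_zero]))] at ht
      exact absurd (exp_eq_one.mp ht.symm) (by omega)
    obtain ⟨Q, hQ⟩ := hpole
    refine ⟨Q, fun h => ?_⟩
    rw [h, ord_eq_of_val_eq P ht] at hQ
    omega
  set D : Divisor k K := Finsupp.single P0 ((n + g : ℕ) : ℤ) with hD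
  have hd1 : ∀ Q : Place k K, Q.deg = 1 := deg_eq_one_of_isAlgClosed hF
  have hdegD : D.deg = n + g := by rw [hD, deg_single, hd1]; push_cast; ring
  have hDP : D P = 0 := by rw [hD, Finsupp.single_eq_of_ne hP0.symm]
  have hellD : ell D = n + 1 := by
    have := ell_eq_of_deg_ge hK (D := D) (by rw [hdegD]; omega)
    rw [hdegD] at this
    omega
  haveI := hF.finiteDimensional_L D
  let bD := Module.finBasisOfFinrankEq k (L D) hellD
  set φ : Fin (n + 1) → K := fun i => (bD i : K)
  have hφ : LinearIndependent k φ := bD.linearIndependent.map' _ (Submodule.ker_subtype _)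
  have hspan : Submodule.span k (Set.range φ) = L D := by
    have h := congrArg (Submodule.map (L D).subtype) bD.span_eq
    rw [Submodule.map_span, ← Set.range_comp, Submodule.map_subtype_top] at h
    exact h
  have heff : (1 : K) ∈ Submodule.span k (Set.range φ) := by
    rw [hspan]
    intro Q
    rw [map_one, one_le_exp, hD, Finsupp.single_apply]
    split_ifs <;> omega
  have hnorm : ∀ i, P.1 (φ i) ≤ 1 := fun i => by
    simpa [hDP] using (bD i).2 P
  obtain ⟨f1, hf1, hf1v⟩ := exists_ord_eq_of_le hK hDP (j := 1) (by rw [hdegD]; omega)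
  have hτφ : ¬ ∃ y : K, ∀ i, τ (φ i) = y * φ i := by
    rintro ⟨y, hy⟩
    have hlin : ∀ z ∈ Submodule.span k (Set.range φ), τ z = y * z := by
      intro z hz
      induction hz using Submodule.span_induction with
      | mem w hw => obtain ⟨i, rfl⟩ := hw; exact hy i
      | zero => simp
      | add a b _ _ ha hb => rw [map_add, ha, hb, mul_add]
      | smul c a _ ha => rw [map_smul, ha, mul_smul_comm]
    have hy1 : y = 1 := by simpa using (hlin 1 heff).symm
    have h2 := hP f1 (by rw [hf1v, exp_lt_one]; norm_num)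
    rw [hlin f1 (hspan ▸ hf1), hy1, one_mul, hf1v, WithZero.exp_le_exp] at h2
    omega
  obtain ⟨Ht, hHt⟩ := exists_isHasseFamily_uniformizer hK ht
  obtain ⟨J, hJ, -⟩ := exists_orders hK hHt hφ τ
  obtain ⟨J', hJ'⟩ := exists_orders_at hK ht hHt hφ heff hnorm
  obtain ⟨hfin, hN⟩ := Groth.Agent.S12604.result k K hK τ φ hφ hτφ t Ht hHt J hJ
  refine ⟨hfin, ?_⟩
  have hmapdeg : (mapDiv k φ).deg ≤ n + g := by
    rw [← hdegD]
    refine deg_mono fun Q => ?_
    obtain ⟨i, hi⟩ := hF.exists_ord_eq_neg_mapDiv φ Q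
    have h1 := (bD i).2 Q
    have hne : φ i ≠ 0 := hφ.ne_zero i
    rw [show ((bD i : L D) : K) = φ i from rfl, val_le_exp_iff Q hne] at h1
    omega
  have hn0 : 0 < n := by omega
  have hkey := Groth.Agent.S12606.result k K hK τ P hP hn0 φ hφ heff hnorm hτφ t ht Ht hHt J hJ J' hJ'
  have hpos := orders_at_pos hK ht hHt hnorm hJ'
  have hupJ' : ∀ l, (J' l : ℤ) ≤ n + g := fun l =>
    le_trans (orders_at_le_deg hK ht hHt hφ heff hnorm hJ' l) hmapdeg
  have hsep := isSeparable_of_hasse hK hHt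
  have hdegP : P.deg = 1 := hd1 P
  have hin : ∀ j, 1 ≤ j → j + g ≤ n → j ∈ Set.range J' := by
    intro j hj hjn
    obtain ⟨f, hf, hfv⟩ := exists_ord_eq_of_le hK hDP (j := j) (by rw [hdegD]; omega)
    exact ((mem_orders_iff hdegP ht heff hnorm ((isOrders_hcolAt_iff hdegP ht hHt hnorm J').1 hJ') j).2
      ⟨f, hspan ▸ hf, hfv⟩).resolve_left (by omega)
  have hbound : ∀ l : Fin n, (J' l : ℤ) ≤ (l : ℕ) + 1 + if n - g ≤ (l : ℕ) then (g : ℤ) else 0 := by
    intro l
    split_ifs with hl
    · have hsub : (Finset.Ioi l).image J' ⊆ Finset.Ioc (J' l) (n + g) := by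
        intro j hj
        obtain ⟨i, hi, rfl⟩ := Finset.mem_image.1 hj
        exact Finset.mem_Ioc.2 ⟨hJ'.1 (Finset.mem_Ioi.1 hi), by have := hupJ' i; omega⟩
      have hc := Finset.card_le_card hsub
      rw [Finset.card_image_of_injective _ hJ'.1.injective, Fin.card_Ioi, Nat.card_Ioc] at hc
      have := hupJ' l
      have := l.2
      omega
    · by_contra hlt
      have hsub : Finset.Icc 1 ((l : ℕ) + 1) ⊆ (Finset.Iio l).image J' := by
        intro j hj
        rw [Finset.mem_Icc] at hj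
        obtain ⟨i, hi⟩ := hin j hj.1 (by omega)
        refine Finset.mem_image.2 ⟨i, Finset.mem_Iio.2 (hJ'.1.lt_iff_lt.1 ?_), hi⟩
        omega
      have hc := Finset.card_le_card hsub
      rw [Finset.card_image_of_injective _ hJ'.1.injective, Fin.card_Iio, Nat.card_Icc] at hc
      omega
  have hJlow : ∀ (m : ℕ) (hm : m < n), m ≤ J ⟨m, hm⟩ := by
    intro m hm
    induction m with
    | zero => exact Nat.zero_le _
    | succ m ih =>
      have := ih (by omega)
      have := hJ.1 (show (⟨m, by omega⟩ : Fin n) < ⟨m + 1, hm⟩ from Fin.lt_def.2 (Nat.lt_succ_self m))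
      omega
  have hlow : (n : ℤ) * (n - 1) ≤ 2 * ∑ l, (J l : ℤ) := by
    have h1 : (∑ i ∈ Finset.range n, i : ℕ) ≤ ∑ l : Fin n, J l := by
      rw [← Fin.sum_univ_eq_sum_range (fun i => i)]
      exact Finset.sum_le_sum fun l _ => by simpa using hJlow l.1 l.2
    have h2 := Finset.sum_range_id_mul_two n
    zify [show 1 ≤ n by omega] at h1 h2
    linarith
  have hup : 2 * ∑ l, (J l : ℤ) ≤ (n : ℤ) * (n - 1) + 2 * (g : ℤ) ^ 2 := by
    have h1 : ∑ l, (J l : ℤ) ≤ ∑ l : Fin n, (((l : ℕ) : ℤ) + if n - g ≤ (l : ℕ) then (g : ℤ) else 0) := by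
      refine Finset.sum_le_sum fun l _ => ?_
      have := hkey l
      have := hpos ⟨0, hn0⟩
      have := hbound l
      split_ifs at * <;> omega
    rw [Fin.sum_univ_eq_sum_range (fun i : ℕ => (i : ℤ) + if n - g ≤ i then (g : ℤ) else 0),
      Finset.sum_add_distrib, ← Finset.sum_filter, Finset.sum_const, nsmul_eq_mul] at h1
    have hcard : (Finset.filter (fun i => n - g ≤ i) (Finset.range n)).card = g := by
      have : Finset.filter (fun i => n - g ≤ i) (Finset.range n) = Finset.Ico (n - g) n := by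
        ext i; simp only [Finset.mem_filter, Finset.mem_range, Finset.mem_Ico]; omega
      rw [this, Nat.card_Ico]; omega
    rw [hcard] at h1
    have h2 := Finset.sum_range_id_mul_two n
    zify [show 1 ≤ n by omega] at h2
    have h3 : (∑ i ∈ Finset.range n, (i : ℤ)) * 2 = (n : ℤ) * (n - 1) := h2
    linarith [sq (g : ℤ)]
  have hmul : ((n : ℤ) + d) * (mapDiv k φ).deg ≤ ((n : ℤ) + d) * (n + g) :=
    mul_le_mul_of_nonneg_left hmapdeg (by positivity)
  rw [← hg] at hN
  set S := ∑ l, (J l : ℤ)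
  rcases Nat.eq_zero_or_pos g with h0 | hgpos
  · rw [h0] at hN hmul ⊢
    push_cast at hN hmul ⊢
    linarith
  · have h1 : (0 : ℤ) ≤ (g : ℤ) - 1 := by omega
    have h2 := mul_le_mul_of_nonneg_left hup h1
    linarith [show ((g : ℤ) - 1) * ((n : ℤ) * (n - 1) + 2 * (g : ℤ) ^ 2) + ((n : ℤ) + d) * (n + g) =
      (n : ℤ) * (1 + d) + ((n : ℤ) ^ 2 + d) * g + 2 * (g : ℤ) ^ 2 * ((g : ℤ) - 1) by ring,
      show (2 * (g : ℤ) - 2) * S = ((g : ℤ) - 1) * (2 * S) by ring]

theorem strongFixed_bound_real (hK : IsFunctionField k K) (τ : K →ₐ[k] K) (n : ℕ) (hn : genus k K < n) :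
    {P : Place k K | ∀ x : K, P.1 x < 1 → P.1 (τ x) ≤ WithZero.exp (-2)}.Finite ∧
    (Set.ncard {P : Place k K | ∀ x : K, P.1 x < 1 → P.1 (τ x) ≤ WithZero.exp (-2)} : ℝ) ≤
      1 + Module.finrank τ.fieldRange K +
        (n + (Module.finrank τ.fieldRange K : ℝ) / n) * genus k K +
        2 * (genus k K : ℝ) ^ 2 * (genus k K - 1) / n := by
  obtain ⟨hfin, h⟩ := strongFixed_bound hK τ hn
  refine ⟨hfin, ?_⟩
  change (Set.ncard {P : Place k K | IsStrongFixedPt τ P} : ℝ) ≤ _
  have h' := (Int.cast_le (R := ℝ)).mpr h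
  push_cast at h'
  have hn0 : (0 : ℝ) < n := by exact_mod_cast (show 0 < n by omega)
  refine le_of_mul_le_mul_left (h'.trans_eq ?_) hn0
  field_simp

end Groth.FunFld1
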